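import Groth.Agent.EtRep9.Action

/-! A descent of an action at a stage descends the original datum. -/

set_option autoImplicit false
set_option backward.isDefEq.respectTransparency false
set_option backward.isDefEq.respectTransparency.types false
set_option linter.style.haveILetI false
universe u

open CategoryTheory CategoryTheory.Limits AlgebraicGeometry Desc

noncomputable section

namespace Groth.Agent.EtRep9

theorem nonempty_iso_of_hom {X S : Scheme.{u}} {p : X ⟶ S} {A B : SchDD p} (F : A.obj.left ⟶ B.obj.left)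
    [IsIso F] (hF : F ≫ B.obj.hom = A.obj.hom)
    (hc : ∀ ⦃T : Scheme.{u}⦄ (x₀ x₁ : T ⟶ X) (h : x₀ ≫ p = x₁ ≫ p) (v : Lifts A.obj x₀) (w : Lifts B.obj x₀),
      w.1 = v.1 ≫ F → (B.φ x₀ x₁ h w).1 = (A.φ x₀ x₁ h v).1 ≫ F) : Nonempty (A ≅ B) := by
  let e : A.obj ≅ B.obj := Over.isoMk (asIso F) hF
  have hi : inv F ≫ A.obj.hom = B.obj.hom := by rw [← hF, IsIso.inv_hom_id_assoc]
  refine ⟨⟨⟨e.hom, hc⟩, ⟨e.inv, fun T x₀ x₁ h v w hw => ?_⟩, ?_, ?_⟩⟩
  · have hw' : w.1 = v.1 ≫ inv F := hw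
    have := hc x₀ x₁ h w v (by rw [hw', Category.assoc, IsIso.inv_hom_id, Category.comp_id])
    show (A.φ x₀ x₁ h w).1 = (B.φ x₀ x₁ h v).1 ≫ inv F
    rw [this, Category.assoc, IsIso.hom_inv_id, Category.comp_id]
  · exact SchDD.hom_ext e.hom_inv_id
  · exact SchDD.hom_ext e.inv_hom_id

variable {S S' T T' S₀ E₀ : Scheme.{u}} {g : S' ⟶ S} (D : SchDD g) {g₀ : S₀ ⟶ T} {e₀ : E₀ ⟶ S₀}
  {σ₀ : pullback (e₀ ≫ g₀) g₀ ⟶ E₀} {qS : S' ⟶ S₀} {qE : D.obj.left ⟶ E₀} {π : S ⟶ T}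

/-- Transport of a descent from a stage to the limit. -/
theorem nonempty_iso_of_actDD (sqS : IsPullback qS g g₀ π) (sqE : IsPullback qE D.obj.hom e₀ qS)
    (hσ : ∀ ⦃W : Scheme.{u}⦄ (r : W ⟶ pullback (e₀ ≫ g₀) g₀) (a : W ⟶ pullback (D.obj.hom ≫ g) g),
      r ≫ pullback.fst (e₀ ≫ g₀) g₀ = a ≫ pullback.fst (D.obj.hom ≫ g) g ≫ qE →
      r ≫ pullback.snd (e₀ ≫ g₀) g₀ = a ≫ pullback.snd (D.obj.hom ≫ g) g ≫ qS → r ≫ σ₀ = a ≫ sig D ≫ qE)
    {τ : T' ⟶ T} (H : ActEq g₀ e₀ σ₀ τ) (π' : S ⟶ T') (hπ : π' ≫ τ = π) (Uk : Over T')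
    (I : (toDD (pullback.snd g₀ τ)).obj Uk ≅ actDD H) :
    Nonempty ((toDD g).obj (Over.mk (pullback.snd Uk.hom π')) ≅ D) := by
  let qSk : S' ⟶ pullback g₀ τ := pullback.lift qS (g ≫ π') (by rw [Category.assoc, hπ, sqS.w])
  let U := pullback.snd Uk.hom π'
  let P := pullback g U
  let Pk := pullback (pullback.snd g₀ τ) Uk.hom
  let qP : P ⟶ Pk := pullback.lift (pullback.fst g U ≫ qSk) (pullback.snd g U ≫ pullback.fst Uk.hom π') (by
    simp only [qSk, U, Category.assoc, pullback.lift_snd, pullback.condition (f := Uk.hom),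
      pullback.condition_assoc (f := g)])
  let Ih : Pk ⟶ pullback e₀ (pullback.fst g₀ τ) := I.hom.hom.left
  let Ii : pullback e₀ (pullback.fst g₀ τ) ⟶ Pk := I.inv.hom.left
  have hIh : Ih ≫ pullback.snd e₀ (pullback.fst g₀ τ) = pullback.fst (pullback.snd g₀ τ) Uk.hom := Over.w I.hom.hom
  have hIi : Ii ≫ pullback.fst (pullback.snd g₀ τ) Uk.hom = pullback.snd e₀ (pullback.fst g₀ τ) := Over.w I.inv.hom
  have hid : Ih ≫ Ii = 𝟙 Pk :=
    congrArg CommaMorphism.left (congrArg SchDD.Hom.hom I.hom_inv_id)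
  have hid' : Ii ≫ Ih = 𝟙 _ :=
    congrArg CommaMorphism.left (congrArg SchDD.Hom.hom I.inv_hom_id)
  have hqP : qP ≫ Ih ≫ pullback.fst e₀ (pullback.fst g₀ τ) ≫ e₀ = pullback.fst g U ≫ qS := by
    simp only [qP, pullback.condition, reassoc_of% hIh, pullback.lift_fst_assoc, Category.assoc, qSk,
      pullback.lift_fst]
  let F : P ⟶ D.obj.left := sqE.lift (qP ≫ Ih ≫ pullback.fst e₀ (pullback.fst g₀ τ)) (pullback.fst g U)
    (by simp only [Category.assoc]; exact hqP)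
  have hF₁ : F ≫ qE = qP ≫ Ih ≫ pullback.fst e₀ (pullback.fst g₀ τ) := sqE.lift_fst _ _ _
  have hF₂ : F ≫ D.obj.hom = pullback.fst g U := sqE.lift_snd _ _ _
  let qEk : D.obj.left ⟶ pullback e₀ (pullback.fst g₀ τ) := pullback.lift qE (D.obj.hom ≫ qSk)
    (by rw [Category.assoc, pullback.lift_fst, sqE.w])
  have hqEk : qEk ≫ Ii ≫ pullback.snd (pullback.snd g₀ τ) Uk.hom ≫ Uk.hom = D.obj.hom ≫ g ≫ π' := by
    rw [← pullback.condition, reassoc_of% hIi]
    simp [qEk, qSk]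
  let G : D.obj.left ⟶ P := pullback.lift D.obj.hom
    (pullback.lift (qEk ≫ Ii ≫ pullback.snd (pullback.snd g₀ τ) Uk.hom) (D.obj.hom ≫ g)
      (by simp only [Category.assoc]; exact hqEk))
    (by simp [U])
  have hFq : F ≫ qEk = qP ≫ Ih := by
    refine pullback.hom_ext ?_ ?_
    · rw [Category.assoc, pullback.lift_fst, hF₁, Category.assoc]
    · rw [Category.assoc, pullback.lift_snd, reassoc_of% hF₂, Category.assoc, hIh, pullback.lift_fst]
  have hGq : G ≫ qP = qEk ≫ Ii := by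
    refine pullback.hom_ext ?_ ?_
    · rw [Category.assoc, pullback.lift_fst, pullback.lift_fst_assoc, Category.assoc, hIi, pullback.lift_snd]
    · rw [Category.assoc, pullback.lift_snd, pullback.lift_snd_assoc, pullback.lift_fst, Category.assoc]
  haveI : IsIso F := by
    refine ⟨G, ?_, ?_⟩
    · refine pullback.hom_ext ?_ ?_
      · rw [Category.assoc, pullback.lift_fst, hF₂, Category.id_comp]
      · refine pullback.hom_ext ?_ ?_
        · rw [Category.id_comp, Category.assoc, Category.assoc, pullback.lift_snd_assoc, pullback.lift_fst,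
            reassoc_of% hFq, reassoc_of% hid, pullback.lift_snd]
        · rw [Category.id_comp, Category.assoc, Category.assoc, pullback.lift_snd_assoc, pullback.lift_snd,
            reassoc_of% hF₂, pullback.condition]
    · refine sqE.hom_ext ?_ ?_
      · rw [Category.id_comp, Category.assoc, hF₁, reassoc_of% hGq, reassoc_of% hid', pullback.lift_fst]
      · rw [Category.id_comp, Category.assoc, hF₂, pullback.lift_fst]
  refine nonempty_iso_of_hom (A := (toDD g).obj (Over.mk U)) (B := D) F hF₂ fun Z x₀ x₁ h v w hw => ?_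
  have hv : v.1 ≫ pullback.fst g U = x₀ := v.2
  let cv : Z ⟶ P := pullback.lift x₁ (v.1 ≫ pullback.snd g U)
    (by rw [Category.assoc, ← pullback.condition, reassoc_of% hv, h])
  have hwh : w.1 ≫ D.obj.hom = x₀ := w.2
  let a : Z ⟶ pullback (D.obj.hom ≫ g) g := pullback.lift w.1 x₁ (by rw [reassoc_of% hwh, h])
  rw [φ_eq_sig D x₀ x₁ h w a (pullback.lift_fst _ _ _) (pullback.lift_snd _ _ _)]
  show a ≫ sig D = cv ≫ F
  refine sqE.hom_ext ?_ ?_
  · have hx : (x₀ ≫ qSk) ≫ pullback.snd g₀ τ = (x₁ ≫ qSk) ≫ pullback.snd g₀ τ := by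
      simp only [qSk, Category.assoc, pullback.lift_snd, reassoc_of% h]
    let vk : Lifts ((toDD (pullback.snd g₀ τ)).obj Uk).obj (x₀ ≫ qSk) := ⟨v.1 ≫ qP, by
      show (v.1 ≫ qP) ≫ pullback.fst (pullback.snd g₀ τ) Uk.hom = _
      rw [Category.assoc, pullback.lift_fst, reassoc_of% hv]⟩
    have key := I.hom.comm (x₀ ≫ qSk) (x₁ ≫ qSk) hx vk ⟨vk.1 ≫ Ih, by
      show (vk.1 ≫ Ih) ≫ pullback.snd e₀ (pullback.fst g₀ τ) = _
      rw [Category.assoc, hIh]; exact vk.2⟩ rfl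
    have key' := congrArg (· ≫ pullback.fst e₀ (pullback.fst g₀ τ)) key
    let r : Z ⟶ pullback (e₀ ≫ g₀) g₀ := pullback.lift (w.1 ≫ qE) (x₁ ≫ qS) (by
      rw [Category.assoc, sqE.w_assoc, reassoc_of% hwh, Category.assoc, sqS.w, reassoc_of% h])
    have er := actMap_fst H (x₀ ≫ qSk) (x₁ ≫ qSk) hx ⟨vk.1 ≫ Ih, by
      show (vk.1 ≫ Ih) ≫ pullback.snd e₀ (pullback.fst g₀ τ) = _
      rw [Category.assoc, hIh]; exact vk.2⟩ r (by
        rw [pullback.lift_fst, hw, Category.assoc]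
        show v.1 ≫ F ≫ qE = ((v.1 ≫ qP) ≫ Ih) ≫ _
        rw [hF₁]; simp only [Category.assoc]) (by
        rw [pullback.lift_snd, Category.assoc, pullback.lift_fst])
    have e1 : r ≫ σ₀ = a ≫ sig D ≫ qE := hσ r a (by
      rw [pullback.lift_fst, pullback.lift_fst_assoc]) (by rw [pullback.lift_snd, pullback.lift_snd_assoc])
    rw [Category.assoc, ← e1, Category.assoc, hF₁, ← er]
    refine key'.trans ?_
    show (canMap (pullback.snd g₀ τ) Uk (x₀ ≫ qSk) (x₁ ≫ qSk) hx vk).1 ≫ Ih ≫ _ = cv ≫ qP ≫ Ih ≫ _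
    rw [← Category.assoc cv]
    congr 1
    refine pullback.hom_ext ?_ ?_
    · simp [cv, qP]
    · simp [cv, qP, vk]
  · rw [Category.assoc, sig_hom, pullback.lift_snd, Category.assoc, hF₂, pullback.lift_fst]

end Groth.Agent.EtRep9
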