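import Groth.Agent.EtRep9.Action

/-! The action of a descent datum comes from a stage of a limit. -/

set_option autoImplicit false
set_option backward.isDefEq.respectTransparency false
set_option backward.isDefEq.respectTransparency.types false
set_option linter.style.haveILetI false
universe u

open CategoryTheory CategoryTheory.Limits AlgebraicGeometry Desc Groth.Agent.MorLib

noncomputable section

namespace Groth.Agent.EtRep9

variable {I : Type u} [SmallCategory I] [IsCofiltered I] (T : I ⥤ Scheme.{u}) (c : Cone T) (hc : IsLimit c)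
  [∀ (i j : I) (f : i ⟶ j), IsAffineHom (T.map f)]

include hc in
/-- Two maps over a stage agreeing at the limit agree on points over a later stage. -/
theorem eq_stage_pts {i : I} [CompactSpace (T.obj i)] [QuasiSeparatedSpace (T.obj i)] {Z : Scheme.{u}}
    (h : Z ⟶ T.obj i) [QuasiCompact h] [QuasiSeparated h] {M : Scheme.{u}} (m : M ⟶ T.obj i)
    [LocallyOfFiniteType m] (a b : Z ⟶ M) (ha : a ≫ m = h) (hb : b ≫ m = h)
    (e : pullback.fst h (c.π.app i) ≫ a = pullback.fst h (c.π.app i) ≫ b) :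
    ∃ (l : I) (φ : l ⟶ i), ∀ ⦃W : Scheme.{u}⦄ (r : W ⟶ Z) (s : W ⟶ T.obj l),
      r ≫ h = s ≫ T.map φ → r ≫ a = r ≫ b := by
  haveI : ∀ {i j : I} (f : i ⟶ j), IsAffineHom (T.map f) := fun {i j} f => inferInstance
  haveI : CompactSpace Z := QuasiCompact.compactSpace_of_compactSpace h
  haveI : QuasiSeparatedSpace Z := quasiSeparatedSpace_of_quasiSeparated h
  let B := BC.diag T h
  let hZ := IsPullback.of_hasPullback h (c.π.app i)
  haveI : ∀ {j k : Over i} (f : j ⟶ k), IsAffineHom (B.map f) := fun f => BC.isAffineHom_map T h f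
  haveI : ∀ j, CompactSpace (B.obj j) := fun j => BC.compactSpace_obj T h j
  haveI : ∀ j, QuasiSeparatedSpace (B.obj j) := fun j => BC.quasiSeparatedSpace_obj T h j
  let T₀ : Over i := Over.mk (𝟙 i)
  obtain ⟨k, f, hf⟩ := Scheme.exists_hom_comp_eq_comp_of_locallyOfFiniteType B
    (BC.toStart T h ≫ (Functor.const (Over i)).map h) m
    (BC.cone T h hZ) (BC.isLimitCone T h hZ hc) (i := T₀)
    ((BC.toStart T h).app T₀ ≫ a) ((BC.toStart T h).app T₀ ≫ b)
    (by simp [ha]) (by simp [hb])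
    (((Category.assoc _ _ _).symm.trans (congrArg (· ≫ a) (BC.proj_fst T h hZ T₀))).trans
      (e.trans ((congrArg (· ≫ b) (BC.proj_fst T h hZ T₀)).symm.trans (Category.assoc _ _ _))))
  refine ⟨k.left, k.hom, fun W r s hs => ?_⟩
  have e' := BC.map_fst T h f
  have key : pullback.fst h (T.map k.hom) ≫ a = pullback.fst h (T.map k.hom) ≫ b :=
    (((congrArg (· ≫ a) e').symm.trans (Category.assoc _ _ _)).trans hf).trans
      ((Category.assoc _ _ _).symm.trans (congrArg (· ≫ b) e'))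
  have := congrArg (pullback.lift r s hs ≫ ·) key
  simpa only [← Category.assoc, pullback.lift_fst] using this

variable {T c} {i : I} {S₀ E₀ S' E : Scheme.{u}} {g₀ : S₀ ⟶ T.obj i} {e₀ : E₀ ⟶ S₀}
  {g : S' ⟶ c.pt} {e : E ⟶ S'} {qS : S' ⟶ S₀} {qE : E ⟶ E₀}
  {σ : pullback (e ≫ g) g ⟶ E} {σ₀ : pullback (e₀ ≫ g₀) g₀ ⟶ E₀}

include hc in
/-- The axioms of an action hold at a stage if they hold at the limit. -/
theorem exists_actEq_stage [CompactSpace (T.obj i)] [QuasiSeparatedSpace (T.obj i)]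
    [LocallyOfFiniteType g₀] [QuasiCompact g₀] [QuasiSeparated g₀]
    [LocallyOfFiniteType e₀] [QuasiCompact e₀] [QuasiSeparated e₀]
    (sqS : IsPullback qS g g₀ (c.π.app i)) (sqE : IsPullback qE e e₀ qS)
    (hσ₀ : σ₀ ≫ e₀ ≫ g₀ = pullback.snd (e₀ ≫ g₀) g₀ ≫ g₀)
    (hσ : ∀ ⦃W : Scheme.{u}⦄ (r : W ⟶ pullback (e₀ ≫ g₀) g₀) (a : W ⟶ pullback (e ≫ g) g),
      r ≫ pullback.fst (e₀ ≫ g₀) g₀ = a ≫ pullback.fst (e ≫ g) g ≫ qE →
      r ≫ pullback.snd (e₀ ≫ g₀) g₀ = a ≫ pullback.snd (e ≫ g) g ≫ qS → r ≫ σ₀ = a ≫ σ ≫ qE)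
    (H : ActEq g e σ (𝟙 c.pt)) : ∃ (k : I) (φ : k ⟶ i), ActEq g₀ e₀ σ₀ (T.map φ) := by
  have sqA : IsPullback qE (e ≫ g) (e₀ ≫ g₀) (c.π.app i) := sqE.paste_vert sqS
  let hM := pullback.snd (e₀ ≫ g₀) g₀ ≫ g₀
  haveI : QuasiCompact hM := inferInstance
  haveI : QuasiSeparated hM := inferInstance
  -- points of the limit
  have liftInf : ∀ ⦃W : Scheme.{u}⦄ (r : W ⟶ pullback (e₀ ≫ g₀) g₀) (p : W ⟶ c.pt), r ≫ hM = p ≫ c.π.app i →
      ∃ a : W ⟶ pullback (e ≫ g) g, r ≫ pullback.fst (e₀ ≫ g₀) g₀ = a ≫ pullback.fst (e ≫ g) g ≫ qE ∧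
        r ≫ pullback.snd (e₀ ≫ g₀) g₀ = a ≫ pullback.snd (e ≫ g) g ≫ qS ∧
        a ≫ pullback.snd (e ≫ g) g ≫ g = p := by
    intro W r p hp
    let a₁ := sqA.lift (r ≫ pullback.fst (e₀ ≫ g₀) g₀) p (by
      rw [Category.assoc, pullback.condition]; exact hp)
    let a₂ := sqS.lift (r ≫ pullback.snd (e₀ ≫ g₀) g₀) p (by rw [Category.assoc]; exact hp)
    refine ⟨pullback.lift a₁ a₂ ((sqA.lift_snd _ _ _).trans (sqS.lift_snd _ _ _).symm), ?_, ?_, ?_⟩
    · rw [pullback.lift_fst_assoc]; exact (sqA.lift_fst _ _ _).symm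
    · rw [pullback.lift_snd_assoc]; exact (sqS.lift_fst _ _ _).symm
    · rw [pullback.lift_snd_assoc]; exact sqS.lift_snd _ _ _
  -- compatibility with the projection
  obtain ⟨l₁, φ₁, h₁⟩ := eq_stage_pts T c hc hM g₀ (σ₀ ≫ e₀) (pullback.snd (e₀ ≫ g₀) g₀)
    (by rw [Category.assoc]; exact hσ₀) rfl (by
      obtain ⟨a, ha₁, ha₂, ha₃⟩ := liftInf (pullback.fst hM (c.π.app i)) (pullback.snd hM _) pullback.condition
      rw [← Category.assoc, hσ _ a ha₁ ha₂, Category.assoc, Category.assoc, sqE.w, ha₂,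
        reassoc_of% (H.hom a (a ≫ pullback.snd (e ≫ g) g ≫ g) (Category.comp_id _).symm)])
  -- unit
  let δ : E₀ ⟶ pullback (e₀ ≫ g₀) g₀ := pullback.lift (𝟙 E₀) e₀ (Category.id_comp _)
  obtain ⟨l₂, φ₂, h₂⟩ := eq_stage_pts T c hc (e₀ ≫ g₀) (e₀ ≫ g₀) (δ ≫ σ₀) (𝟙 E₀)
    (by rw [Category.assoc, hσ₀, pullback.lift_snd_assoc]) (Category.id_comp _) (by
      let r := pullback.fst (e₀ ≫ g₀) (c.π.app i)
      let p := pullback.snd (e₀ ≫ g₀) (c.π.app i)
      obtain ⟨a, ha₁, ha₂, ha₃⟩ := liftInf (r ≫ δ) p (by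
        simp only [hM, δ, r, p, Category.assoc, pullback.lift_snd_assoc]; exact pullback.condition)
      have hu : a ≫ pullback.snd (e ≫ g) g = a ≫ pullback.fst (e ≫ g) g ≫ e := by
        refine sqS.hom_ext ?_ ?_
        · simp only [Category.assoc] at ha₁ ha₂ ⊢
          rw [← ha₂, ← sqE.w, ← reassoc_of% ha₁]
          simp [δ]
          exact congrArg (r ≫ ·) (Category.id_comp e₀).symm
        · simp only [Category.assoc, pullback.condition]
      rw [← Category.assoc, hσ _ a ha₁ ha₂, reassoc_of% (H.unit a (a ≫ pullback.snd (e ≫ g) g ≫ g)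
        (Category.comp_id _).symm hu), ← ha₁]
      simp [r, δ])
  -- associativity
  let W₀ := pullback hM g₀
  let hW := pullback.fst hM g₀ ≫ hM
  haveI : QuasiCompact hW := inferInstance
  haveI : QuasiSeparated hW := inferInstance
  let b₀ : W₀ ⟶ pullback (e₀ ≫ g₀) g₀ := pullback.lift (pullback.fst hM g₀ ≫ σ₀) (pullback.snd hM g₀)
    (by rw [Category.assoc, hσ₀]; exact pullback.condition)
  let c₀ : W₀ ⟶ pullback (e₀ ≫ g₀) g₀ :=
    pullback.lift (pullback.fst hM g₀ ≫ pullback.fst (e₀ ≫ g₀) g₀) (pullback.snd hM g₀)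
    (by rw [Category.assoc, pullback.condition (f := e₀ ≫ g₀)]; exact pullback.condition)
  obtain ⟨l₃, φ₃, h₃⟩ := eq_stage_pts T c hc hW (e₀ ≫ g₀) (b₀ ≫ σ₀) (c₀ ≫ σ₀)
    (by rw [Category.assoc, hσ₀, pullback.lift_snd_assoc]; exact pullback.condition.symm)
    (by rw [Category.assoc, hσ₀, pullback.lift_snd_assoc]; exact pullback.condition.symm) (by
      let r := pullback.fst hW (c.π.app i)
      let p := pullback.snd hW (c.π.app i)
      have hp : r ≫ pullback.fst hM g₀ ≫ hM = p ≫ c.π.app i := pullback.condition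
      have hp' : r ≫ pullback.snd hM g₀ ≫ g₀ = p ≫ c.π.app i := by rw [← pullback.condition]; exact hp
      obtain ⟨a, ha₁, ha₂, ha₃⟩ := liftInf (r ≫ pullback.fst hM g₀) p (by rw [Category.assoc]; exact hp)
      obtain ⟨b, hb₁, hb₂, hb₃⟩ := liftInf (r ≫ b₀) p (by
        simp only [hM, b₀, Category.assoc, pullback.lift_snd_assoc]; exact hp')
      obtain ⟨c', hc₁, hc₂, hc₃⟩ := liftInf (r ≫ c₀) p (by
        simp only [hM, c₀, Category.assoc, pullback.lift_snd_assoc]; exact hp')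
      have hom_a := H.hom a (a ≫ pullback.snd (e ≫ g) g ≫ g) (Category.comp_id _).symm
      have e1 : b ≫ pullback.fst (e ≫ g) g = a ≫ σ := by
        refine sqA.hom_ext ?_ ?_
        · rw [Category.assoc, Category.assoc, ← hb₁, ← hσ _ a ha₁ ha₂]
          simp [b₀]
        · rw [Category.assoc, pullback.condition, hb₃, Category.assoc, reassoc_of% hom_a, ha₃]
      have e2 : c' ≫ pullback.fst (e ≫ g) g = a ≫ pullback.fst (e ≫ g) g := by
        refine sqA.hom_ext ?_ ?_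
        · rw [Category.assoc, Category.assoc, ← hc₁, ← ha₁]
          simp [c₀]
        · rw [Category.assoc, pullback.condition, hc₃, Category.assoc, pullback.condition, ha₃]
      have e3 : b ≫ pullback.snd (e ≫ g) g = c' ≫ pullback.snd (e ≫ g) g := by
        refine sqS.hom_ext ?_ ?_
        · rw [Category.assoc, Category.assoc, ← hb₂, ← hc₂]
          simp [b₀, c₀]
        · rw [Category.assoc, Category.assoc, hb₃, hc₃]
      rw [← Category.assoc, hσ _ b hb₁ hb₂, ← Category.assoc r, hσ _ c' hc₁ hc₂, ← Category.assoc b,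
        H.assoc a b c' (a ≫ pullback.snd (e ≫ g) g ≫ g) (Category.comp_id _).symm e1 e2 e3, Category.assoc])
  let φs : Fin 3 → (Σ l, l ⟶ i) := ![⟨l₁, φ₁⟩, ⟨l₂, φ₂⟩, ⟨l₃, φ₃⟩]
  obtain ⟨k, ψ, χ, hχ⟩ := IsCofiltered.wideCospan (fun q : ULift.{u} (Fin 3) => (φs q.down).2)
  have hs : ∀ (q : Fin 3) {Z : Scheme.{u}} (s : Z ⟶ T.obj k),
      s ≫ T.map ψ = (s ≫ T.map (χ ⟨q⟩)) ≫ T.map (φs q).2 := fun q Z s => by
    rw [Category.assoc, ← T.map_comp, hχ ⟨q⟩]
  have hom' : ∀ ⦃Z : Scheme.{u}⦄ (a : Z ⟶ pullback (e₀ ≫ g₀) g₀) (s : Z ⟶ T.obj k),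
      a ≫ hM = s ≫ T.map ψ → a ≫ σ₀ ≫ e₀ = a ≫ pullback.snd (e₀ ≫ g₀) g₀ := fun Z a s h =>
    h₁ a _ (h.trans (hs 0 s))
  refine ⟨k, ψ, hom', fun Z a s h hu => ?_, fun Z a b c' s h hb hc' h2 => ?_⟩
  · have ea : (a ≫ pullback.fst (e₀ ≫ g₀) g₀) ≫ δ = a := pullback.hom_ext (by simp [δ]) (by simp [δ, hu])
    have h' : (a ≫ pullback.fst (e₀ ≫ g₀) g₀) ≫ e₀ ≫ g₀ = s ≫ T.map ψ := by
      rw [Category.assoc, pullback.condition]; exact h
    have := h₂ (a ≫ pullback.fst (e₀ ≫ g₀) g₀) _ (h'.trans (hs 1 s))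
    rwa [← Category.assoc, ea, Category.comp_id] at this
  · have hcond : a ≫ hM = (b ≫ pullback.snd (e₀ ≫ g₀) g₀) ≫ g₀ := by
      rw [Category.assoc, ← pullback.condition, reassoc_of% hb, hσ₀]
    let r := pullback.lift a (b ≫ pullback.snd (e₀ ≫ g₀) g₀) hcond
    have eb : r ≫ b₀ = b := pullback.hom_ext (by simp [r, b₀, hb]) (by simp [r, b₀])
    have ec : r ≫ c₀ = c' := pullback.hom_ext (by simp [r, c₀, hc']) (by simp [r, c₀, h2])
    have := h₃ r _ ((by simp only [hW, r, pullback.lift_fst_assoc]; exact h : r ≫ hW = s ≫ T.map ψ).trans (hs 2 s))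
    rwa [← Category.assoc, eb, ← Category.assoc, ec] at this

end Groth.Agent.EtRep9
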