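import Groth.Agent.EtRep9.Spread

/-! Descent data as actions, and their equations at a stage of a limit. -/

set_option autoImplicit false
set_option backward.isDefEq.respectTransparency false
set_option backward.isDefEq.respectTransparency.types false
set_option linter.style.haveILetI false
universe u

open CategoryTheory CategoryTheory.Limits AlgebraicGeometry Desc Groth.Agent.MorLib

noncomputable section

namespace Groth.Agent.EtRep9

section act

variable {T S₀ E₀ : Scheme.{u}} (g : S₀ ⟶ T) (e : E₀ ⟶ S₀) (σ : pullback (e ≫ g) g ⟶ E₀)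

/-- The axioms of an action, on points lying over `τ`. -/
structure ActEq {T' : Scheme.{u}} (τ : T' ⟶ T) : Prop where
  hom : ∀ ⦃Z : Scheme.{u}⦄ (a : Z ⟶ pullback (e ≫ g) g) (s : Z ⟶ T'),
    a ≫ pullback.snd (e ≫ g) g ≫ g = s ≫ τ → a ≫ σ ≫ e = a ≫ pullback.snd (e ≫ g) g
  unit : ∀ ⦃Z : Scheme.{u}⦄ (a : Z ⟶ pullback (e ≫ g) g) (s : Z ⟶ T'),
    a ≫ pullback.snd (e ≫ g) g ≫ g = s ≫ τ → a ≫ pullback.snd (e ≫ g) g = a ≫ pullback.fst (e ≫ g) g ≫ e →
    a ≫ σ = a ≫ pullback.fst (e ≫ g) g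
  assoc : ∀ ⦃Z : Scheme.{u}⦄ (a b c : Z ⟶ pullback (e ≫ g) g) (s : Z ⟶ T'),
    a ≫ pullback.snd (e ≫ g) g ≫ g = s ≫ τ → b ≫ pullback.fst (e ≫ g) g = a ≫ σ →
    c ≫ pullback.fst (e ≫ g) g = a ≫ pullback.fst (e ≫ g) g →
    b ≫ pullback.snd (e ≫ g) g = c ≫ pullback.snd (e ≫ g) g → b ≫ σ = c ≫ σ

variable {g e σ} {T' : Scheme.{u}} {τ : T' ⟶ T} (H : ActEq g e σ τ)

/-- The action on points. -/
def actMap {Z : Scheme.{u}} (x₀ x₁ : Z ⟶ pullback g τ) (h : x₀ ≫ pullback.snd g τ = x₁ ≫ pullback.snd g τ)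
    (v : Lifts (Over.mk (pullback.snd e (pullback.fst g τ))) x₀) :
    Lifts (Over.mk (pullback.snd e (pullback.fst g τ))) x₁ :=
  have hv : v.1 ≫ pullback.snd e (pullback.fst g τ) = x₀ := v.2
  ⟨pullback.lift
    (pullback.lift (f := e ≫ g) (g := g) (v.1 ≫ pullback.fst e (pullback.fst g τ)) (x₁ ≫ pullback.fst g τ)
      (by rw [Category.assoc, pullback.condition_assoc, reassoc_of% hv, Category.assoc, pullback.condition,
        reassoc_of% h]) ≫ σ) x₁
    (by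
      rw [Category.assoc, H.hom _ (x₁ ≫ pullback.snd g τ) (by
        rw [pullback.lift_snd_assoc, Category.assoc, pullback.condition, Category.assoc]), pullback.lift_snd]),
    pullback.lift_snd _ _ _⟩

theorem actMap_fst {Z : Scheme.{u}} (x₀ x₁ : Z ⟶ pullback g τ)
    (h : x₀ ≫ pullback.snd g τ = x₁ ≫ pullback.snd g τ)
    (v : Lifts (Over.mk (pullback.snd e (pullback.fst g τ))) x₀) (a : Z ⟶ pullback (e ≫ g) g)
    (ha₁ : a ≫ pullback.fst (e ≫ g) g = v.1 ≫ pullback.fst e (pullback.fst g τ))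
    (ha₂ : a ≫ pullback.snd (e ≫ g) g = x₁ ≫ pullback.fst g τ) :
    (actMap H x₀ x₁ h v).1 ≫ pullback.fst e (pullback.fst g τ) = a ≫ σ := by
  refine (pullback.lift_fst _ _ _).trans (congrArg (· ≫ σ) (pullback.hom_ext ?_ ?_))
  · rw [pullback.lift_fst, ha₁]
  · rw [pullback.lift_snd, ha₂]

theorem lifts_act_ext {Z : Scheme.{u}} {x : Z ⟶ pullback g τ}
    {v w : Lifts (Over.mk (pullback.snd e (pullback.fst g τ))) x}
    (h : v.1 ≫ pullback.fst e (pullback.fst g τ) = w.1 ≫ pullback.fst e (pullback.fst g τ)) : v = w :=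
  Subtype.ext (pullback.hom_ext h (v.2.trans w.2.symm))

theorem actMap_self {Z : Scheme.{u}} (x : Z ⟶ pullback g τ)
    (v : Lifts (Over.mk (pullback.snd e (pullback.fst g τ))) x) : actMap H x x rfl v = v := by
  have hv : v.1 ≫ pullback.snd e (pullback.fst g τ) = x := v.2
  let a : Z ⟶ pullback (e ≫ g) g := pullback.lift (v.1 ≫ pullback.fst e (pullback.fst g τ)) (x ≫ pullback.fst g τ)
    (by rw [Category.assoc, pullback.condition_assoc, reassoc_of% hv, Category.assoc])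
  refine lifts_act_ext ((actMap_fst H x x rfl v a (pullback.lift_fst _ _ _) (pullback.lift_snd _ _ _)).trans ?_)
  rw [H.unit a (x ≫ pullback.snd g τ) (by
      rw [pullback.lift_snd_assoc, Category.assoc, pullback.condition, Category.assoc]) (by
      rw [pullback.lift_snd, pullback.lift_fst_assoc, Category.assoc, pullback.condition, reassoc_of% hv]),
    pullback.lift_fst]

theorem actMap_comp {Z : Scheme.{u}} (x₀ x₁ x₂ : Z ⟶ pullback g τ)
    (h₀₁ : x₀ ≫ pullback.snd g τ = x₁ ≫ pullback.snd g τ) (h₁₂ : x₁ ≫ pullback.snd g τ = x₂ ≫ pullback.snd g τ)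
    (v : Lifts (Over.mk (pullback.snd e (pullback.fst g τ))) x₀) :
    actMap H x₁ x₂ h₁₂ (actMap H x₀ x₁ h₀₁ v) = actMap H x₀ x₂ (h₀₁.trans h₁₂) v := by
  have hv : v.1 ≫ pullback.snd e (pullback.fst g τ) = x₀ := v.2
  let w := actMap H x₀ x₁ h₀₁ v
  have hw : w.1 ≫ pullback.snd e (pullback.fst g τ) = x₁ := w.2
  let a : Z ⟶ pullback (e ≫ g) g := pullback.lift (v.1 ≫ pullback.fst e (pullback.fst g τ)) (x₁ ≫ pullback.fst g τ)
    (by rw [Category.assoc, pullback.condition_assoc, reassoc_of% hv, Category.assoc, pullback.condition,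
      reassoc_of% h₀₁])
  let b : Z ⟶ pullback (e ≫ g) g := pullback.lift (w.1 ≫ pullback.fst e (pullback.fst g τ)) (x₂ ≫ pullback.fst g τ)
    (by rw [Category.assoc, pullback.condition_assoc, reassoc_of% hw, Category.assoc, pullback.condition,
      reassoc_of% h₁₂])
  let c : Z ⟶ pullback (e ≫ g) g := pullback.lift (v.1 ≫ pullback.fst e (pullback.fst g τ)) (x₂ ≫ pullback.fst g τ)
    (by rw [Category.assoc, pullback.condition_assoc, reassoc_of% hv, Category.assoc, pullback.condition,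
      reassoc_of% h₀₁, reassoc_of% h₁₂])
  refine lifts_act_ext ?_
  rw [actMap_fst H x₁ x₂ h₁₂ w b (pullback.lift_fst _ _ _) (pullback.lift_snd _ _ _),
    actMap_fst H x₀ x₂ _ v c (pullback.lift_fst _ _ _) (pullback.lift_snd _ _ _)]
  refine H.assoc a b c (x₁ ≫ pullback.snd g τ) ?_ ?_ ?_ ?_
  · rw [pullback.lift_snd_assoc, Category.assoc, pullback.condition, Category.assoc]
  · rw [pullback.lift_fst]
    exact actMap_fst H x₀ x₁ h₀₁ v a (pullback.lift_fst _ _ _) (pullback.lift_snd _ _ _)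
  · rw [pullback.lift_fst, pullback.lift_fst]
  · rw [pullback.lift_snd, pullback.lift_snd]

/-- The descent datum of an action. -/
def actDD : SchDD (pullback.snd g τ) where
  obj := Over.mk (pullback.snd e (pullback.fst g τ))
  φ _ x₀ x₁ h :=
    { toFun := actMap H x₀ x₁ h
      invFun := actMap H x₁ x₀ h.symm
      left_inv := fun v => (actMap_comp H x₀ x₁ x₀ h h.symm v).trans (actMap_self H x₀ v)
      right_inv := fun v => (actMap_comp H x₁ x₀ x₁ h.symm h v).trans (actMap_self H x₁ v) }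
  φ_natural Z Z' r x₀ x₁ h h' v v' hv' := by
    have hv : v.1 ≫ pullback.snd e (pullback.fst g τ) = x₀ := v.2
    let a : Z ⟶ pullback (e ≫ g) g := pullback.lift (v.1 ≫ pullback.fst e (pullback.fst g τ)) (x₁ ≫ pullback.fst g τ)
      (by rw [Category.assoc, pullback.condition_assoc, reassoc_of% hv, Category.assoc, pullback.condition,
        reassoc_of% h])
    refine pullback.hom_ext ?_ ?_
    · refine (actMap_fst H (r ≫ x₀) (r ≫ x₁) h' v' (r ≫ a) ?_ ?_).trans ?_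
      · rw [Category.assoc, pullback.lift_fst, hv', Category.assoc]
      · rw [Category.assoc, pullback.lift_snd, Category.assoc]
      · exact (Category.assoc _ _ _).trans ((congrArg (r ≫ ·)
          (actMap_fst H x₀ x₁ h v a (pullback.lift_fst _ _ _) (pullback.lift_snd _ _ _)).symm).trans
          (Category.assoc _ _ _).symm)
    · exact (actMap H (r ≫ x₀) (r ≫ x₁) h' v').2.trans
        ((congrArg (r ≫ ·) (actMap H x₀ x₁ h v).2.symm).trans (Category.assoc _ _ _).symm)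
  φ_self _ x v := actMap_self H x v
  φ_comp _ x₀ x₁ x₂ h₀₁ h₁₂ v := actMap_comp H x₀ x₁ x₂ h₀₁ h₁₂ v

end act

section univ

variable {S S' : Scheme.{u}} {g : S' ⟶ S} (D : SchDD g)

/-- The universal action of a datum. -/
def sig : pullback (D.obj.hom ≫ g) g ⟶ D.obj.left :=
  (D.φ (pullback.fst (D.obj.hom ≫ g) g ≫ D.obj.hom) (pullback.snd (D.obj.hom ≫ g) g)
    ((Category.assoc _ _ _).trans pullback.condition) ⟨pullback.fst (D.obj.hom ≫ g) g, rfl⟩).1

@[reassoc]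
theorem sig_hom : sig D ≫ D.obj.hom = pullback.snd (D.obj.hom ≫ g) g :=
  (D.φ (pullback.fst (D.obj.hom ≫ g) g ≫ D.obj.hom) (pullback.snd (D.obj.hom ≫ g) g)
    ((Category.assoc _ _ _).trans pullback.condition) ⟨pullback.fst (D.obj.hom ≫ g) g, rfl⟩).2

theorem φ_congr {T : Scheme.{u}} {x₀ y₀ x₁ y₁ : T ⟶ S'} (e₀ : x₀ = y₀) (e₁ : x₁ = y₁)
    (h : x₀ ≫ g = x₁ ≫ g) (h' : y₀ ≫ g = y₁ ≫ g) (v : Lifts D.obj x₀) (w : Lifts D.obj y₀) (hv : v.1 = w.1) :
    (D.φ x₀ x₁ h v).1 = (D.φ y₀ y₁ h' w).1 := by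
  subst e₀ e₁
  obtain rfl : v = w := Subtype.ext hv
  rfl

theorem φ_eq_sig {T : Scheme.{u}} (x₀ x₁ : T ⟶ S') (h : x₀ ≫ g = x₁ ≫ g) (v : Lifts D.obj x₀)
    (a : T ⟶ pullback (D.obj.hom ≫ g) g) (ha₁ : a ≫ pullback.fst (D.obj.hom ≫ g) g = v.1)
    (ha₂ : a ≫ pullback.snd (D.obj.hom ≫ g) g = x₁) : (D.φ x₀ x₁ h v).1 = a ≫ sig D := by
  have hv : v.1 ≫ D.obj.hom = x₀ := v.2
  have hc : (a ≫ pullback.fst (D.obj.hom ≫ g) g ≫ D.obj.hom) ≫ g = (a ≫ pullback.snd (D.obj.hom ≫ g) g) ≫ g := by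
    simp only [Category.assoc, pullback.condition]
  refine (φ_congr D ?_ ha₂.symm h hc v ⟨a ≫ pullback.fst (D.obj.hom ≫ g) g, Category.assoc _ _ _⟩ ha₁.symm).trans ?_
  · rw [← Category.assoc, ha₁, hv]
  · exact D.φ_natural a _ _ _ hc ⟨pullback.fst (D.obj.hom ≫ g) g, rfl⟩ _ rfl

theorem sig_actEq : ActEq g D.obj.hom (sig D) (𝟙 S) where
  hom Z a s _ := by rw [sig_hom]
  unit Z a s _ h := by
    let x := a ≫ pullback.snd (D.obj.hom ≫ g) g
    let v : Lifts D.obj x := ⟨a ≫ pullback.fst (D.obj.hom ≫ g) g, by rw [Category.assoc]; exact h.symm⟩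
    rw [← φ_eq_sig D x x rfl v a rfl rfl, D.φ_self]
  assoc Z a b c s _ hb hc h2 := by
    let x₀ := a ≫ pullback.fst (D.obj.hom ≫ g) g ≫ D.obj.hom
    let x₁ := a ≫ pullback.snd (D.obj.hom ≫ g) g
    let x₂ := b ≫ pullback.snd (D.obj.hom ≫ g) g
    let v : Lifts D.obj x₀ := ⟨a ≫ pullback.fst (D.obj.hom ≫ g) g, Category.assoc _ _ _⟩
    have h₀₁ : x₀ ≫ g = x₁ ≫ g := by simp only [x₀, x₁, Category.assoc, pullback.condition]
    have hw : (D.φ x₀ x₁ h₀₁ v).1 = a ≫ sig D := φ_eq_sig D x₀ x₁ h₀₁ v a rfl rfl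
    have h₁₂ : x₁ ≫ g = x₂ ≫ g := by
      simp only [x₁, x₂, Category.assoc, ← pullback.condition]
      rw [reassoc_of% hb, sig_hom_assoc, ← pullback.condition]
    rw [← φ_eq_sig D x₁ x₂ h₁₂ (D.φ x₀ x₁ h₀₁ v) b (hb.trans hw.symm) rfl, D.φ_comp,
      φ_eq_sig D x₀ x₂ (h₀₁.trans h₁₂) v c hc h2.symm]

end univ

end Groth.Agent.EtRep9
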