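import Groth.Agent.DescLib.Descends
import Groth.Agent.DescLib.DescEff
import Groth.Agent.DescLib.EtaleHom
import Groth.Prelude.Def_SGA1

/-! Etale schemes represent compatible families of a descent datum along a submersive morphism. -/

set_option autoImplicit false
set_option backward.isDefEq.respectTransparency false
set_option backward.isDefEq.respectTransparency.types false
set_option linter.style.haveILetI false
universe u w

open CategoryTheory CategoryTheory.Limits AlgebraicGeometry Desc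

noncomputable section

namespace Groth.Agent.EtRep9

open Groth.Agent.DescLib

variable {S S' : Scheme.{u}} {g : S' ⟶ S} {D : SchDDFam (fun _ : PUnit.{w + 1} => g)}

/-- `U` represents the compatible families of `D`. -/
def IsRep (D : SchDDFam (fun _ : PUnit.{w + 1} => g)) (U : Over S) : Prop :=
  ∃ c₀ : Compat D U.hom, ∀ ⦃T : Scheme.{u}⦄ (s : T ⟶ S) (c : Compat D s),
    ∃! p : Lifts U s, c₀.res p.1 s p.2 = c

theorem rep_iff : Rep D ↔ ∃ U, IsRep D U := Iff.rfl

theorem exists_iso_of_isRep {U V : Over S} (hU : IsRep D U) (hV : IsRep D V) : Nonempty (U ≅ V) := by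
  obtain ⟨cU, hU⟩ := hU
  obtain ⟨cV, hV⟩ := hV
  obtain ⟨a, ha, -⟩ := hV U.hom cU
  obtain ⟨b, hb, -⟩ := hU V.hom cV
  have h1 : a.1 ≫ b.1 = 𝟙 _ := by
    obtain ⟨p, -, hp⟩ := hU U.hom cU
    refine congrArg Subtype.val ((hp ⟨a.1 ≫ b.1, by rw [Category.assoc, b.2, a.2]⟩ ?_).trans
      (hp ⟨𝟙 _, Category.id_comp _⟩ (Compat.res_id _ _)).symm)
    refine ((cU.res_res b.1 V.hom b.2 a.1 U.hom a.2 _ rfl (by rw [Category.assoc, b.2, a.2])).symm).trans ?_
    rw [hb, ha]
  have h2 : b.1 ≫ a.1 = 𝟙 _ := by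
    obtain ⟨p, -, hp⟩ := hV V.hom cV
    refine congrArg Subtype.val ((hp ⟨b.1 ≫ a.1, by rw [Category.assoc, a.2, b.2]⟩ ?_).trans
      (hp ⟨𝟙 _, Category.id_comp _⟩ (Compat.res_id _ _)).symm)
    refine ((cV.res_res a.1 U.hom a.2 b.1 V.hom b.2 _ rfl (by rw [Category.assoc, a.2, b.2])).symm).trans ?_
    rw [ha, hb]
  exact ⟨⟨Over.homMk a.1 a.2, Over.homMk b.1 b.2, Over.OverMorphism.ext h1, Over.OverMorphism.ext h2⟩⟩

theorem iso_of_univ {S : Scheme.{u}} {ι : Type w} {X : ι → Scheme.{u}} {f : ∀ i, X i ⟶ S} {D : SchDDFam f} {U : Over S}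
    (c₀ : Compat D U.hom) (hu : ∀ ⦃T : Scheme.{u}⦄ (s : T ⟶ S) (c : Compat D s),
      ∃! p : Lifts U s, c₀.res p.1 s p.2 = c) : Nonempty ((toDDFam f).obj U ≅ D) := by
  have hl : ∀ {i : ι} {T : Scheme.{u}} (y : T ⟶ X i) (v : Lifts (((toDDFam f).obj U).obj i) y),
      (v.1 ≫ pullback.snd (f i) U.hom) ≫ U.hom = y ≫ f i := fun {i T} y v => by
    have e : v.1 ≫ pullback.fst (f i) U.hom = y := v.2
    rw [Category.assoc, ← pullback.condition, ← Category.assoc, e]
  have he : ∀ {i : ι} {T : Scheme.{u}} (y : T ⟶ X i), y ≫ f i = 𝟙 T ≫ y ≫ f i :=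
    fun y => (Category.id_comp _).symm
  let e : ∀ (i : ι) ⦃T : Scheme.{u}⦄ (y : T ⟶ X i),
      Lifts (((toDDFam f).obj U).obj i) y ≃ Lifts (D.obj i) y := fun i T y =>
    { toFun := fun v => (c₀.res (v.1 ≫ pullback.snd (f i) U.hom) (y ≫ f i) (hl y v)).pt (𝟙 T) y (he y)
      invFun := fun a => ⟨pullback.lift y (hu _ (Compat.ofPoint D a (y ≫ f i) rfl)).choose.1
          (hu _ (Compat.ofPoint D a (y ≫ f i) rfl)).choose.2.symm, pullback.lift_fst _ _ _⟩
      left_inv := fun v => Subtype.ext (pullback.hom_ext (by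
          rw [pullback.lift_fst]; exact v.2.symm) (by
          rw [pullback.lift_snd]
          refine congrArg Subtype.val ((hu _ _).choose_spec.2 ⟨_, hl y v⟩ ?_).symm
          exact (Compat.eq_ofPoint (c₀.res (v.1 ≫ pullback.snd (f i) U.hom) (y ≫ f i) (hl y v)) y (he y)).symm))
      right_inv := fun a => Subtype.ext (by
        have hp := (hu _ (Compat.ofPoint D a (y ≫ f i) rfl)).choose_spec.1
        refine Eq.trans ?_ (Compat.ofPoint_pt_self a rfl (he y))
        rw [← hp]
        exact c₀.pt_congr (by rw [pullback.lift_snd]) rfl _ _) }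
  obtain ⟨I, -⟩ := exists_iso_of_points (A := (toDDFam f).obj U) (B := D) e
    (fun i T T' r x y hy v v' hv => by
      refine c₀.nat r _ x _ _ y ?_ hy _
      rw [hv]; simp)
    (fun T i k x₀ x₁ h v => by
      refine (c₀.comp (𝟙 T ≫ v.1 ≫ pullback.snd (f i) U.hom) x₀ x₁ _
        (by rw [Category.id_comp, hl x₀ v, h])).trans (Subtype.ext (c₀.pt_congr ?_ rfl _ _))
      simp [toDDFam, canonicalDDFam])
  exact ⟨I⟩

/-- A representing scheme descends the datum. -/
theorem iso_of_isRep {U : Over S} (h : IsRep D U) :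
    Nonempty ((toDDFam (fun _ : PUnit.{w + 1} => g)).obj U ≅ D) :=
  iso_of_univ h.choose h.choose_spec

theorem isRep_of_iso {D D' : SchDDFam (fun _ : PUnit.{w + 1} => g)} {U : Over S} (I : D ≅ D') (h : IsRep D U) :
    IsRep D' U := by
  obtain ⟨c₀, hu⟩ := h
  refine ⟨c₀.map I.hom, fun T s c => ?_⟩
  obtain ⟨p, hp, huniq⟩ := hu s (c.map I.inv)
  refine ⟨p, ?_, fun q hq => huniq q ?_⟩
  · simp only [← Compat.map_res, hp, Compat.map_map, I.inv_hom_id, Compat.map_id]
  · simp only [← hq, Compat.map_res, Compat.map_map, I.hom_inv_id, Compat.map_id]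

/-- The canonical datum of an etale scheme is represented by it. -/
theorem isRep_canonical (hg : SGA1.UnivSubmersive g) (U : Over S) [Etale U.hom] :
    IsRep ((toDDFam (fun _ : PUnit.{w + 1} => g)).obj U) U := by
  refine ⟨{ pt := fun T t i y h => ⟨pullback.lift y t h, pullback.lift_fst _ _ _⟩
            nat := fun T T' r t i y h t' y' hr hy h' => pullback.hom_ext (by simp [hy]) (by simp [hr])
            comp := fun T t i k y y' h h' => Subtype.ext (pullback.hom_ext
              (by simp [toDDFam, canonicalDDFam]) (by simp [toDDFam, canonicalDDFam])) }, fun T s c => ?_⟩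
  let q := U.hom
  have hcond : pullback.snd s g ≫ g = pullback.fst s g ≫ s := pullback.condition.symm
  let z := c.pt (pullback.fst s g) (i := PUnit.unit) (pullback.snd s g) hcond
  let u' : pullback s g ⟶ U.left := z.1 ≫ pullback.snd g U.hom
  have hu' : u' ≫ q = pullback.snd s g ≫ g := by
    change (z.1 ≫ pullback.snd g U.hom) ≫ U.hom = _
    rw [Category.assoc, ← pullback.condition, ← Category.assoc]
    exact congrArg (· ≫ g) z.2
  let f' : pullback s g ⟶ pullback q g := pullback.lift u' (pullback.snd s g) hu'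
  have hind : ∀ {T' : Scheme.{u}} (t : T' ⟶ T) (y y' : T' ⟶ S') (h : y ≫ g = t ≫ s) (h' : y' ≫ g = t ≫ s),
      (c.pt t (i := PUnit.unit) y h).1 ≫ pullback.snd g U.hom =
        (c.pt t (i := PUnit.unit) y' h').1 ≫ pullback.snd g U.hom := by
    intro T' t y y' h h'
    rw [← c.comp t (i := PUnit.unit) (k := PUnit.unit) y y' h h']
    simp [toDDFam, canonicalDDFam]
  have hz : ∀ {T' : Scheme.{u}} (a : T' ⟶ pullback s g) (t : T' ⟶ T) (y : T' ⟶ S')
      (h : y ≫ g = t ≫ s), a ≫ pullback.fst s g = t → a ≫ pullback.snd s g = y →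
      a ≫ u' = (c.pt t (i := PUnit.unit) y h).1 ≫ pullback.snd g U.hom := by
    intro T' a t y h e1 e2
    rw [c.nat a (pullback.fst s g) (pullback.snd s g) hcond t y e1 e2 h, Category.assoc]
  have hs : Function.Surjective (pullback.fst s g) :=
    ((hg (i₁ := pullback.snd s g) (i₂ := s) (f' := pullback.fst s g) (IsPullback.of_hasPullback s g))).surjective
  have hq : Topology.IsQuotientMap (pullback.snd g (pullback.fst s q ≫ s)) :=
    hg _ _ _ (IsPullback.of_hasPullback g (pullback.fst s q ≫ s)).flip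
  obtain ⟨a, ⟨ha1, ha2⟩, huniq⟩ := existsUnique_descend_etale g s q hs hq f' (pullback.lift_snd _ _ _) (by
    simp only [f', pullback.lift_fst]
    refine (hz _ _ _ ?_ rfl rfl).trans ((hind _ _ _ _ ?_).trans (hz _ _ _ ?_ ?_ rfl).symm)
    · simp [pullback.condition]
    · simp [pullback.condition]
    · simp [pullback.condition]
    · simp)
  rw [pullback.lift_fst] at ha2
  have ha' : ∀ {T' : Scheme.{u}} (t : T' ⟶ T) (y : T' ⟶ S') (h : y ≫ g = t ≫ s),
      t ≫ a = (c.pt t (i := PUnit.unit) y h).1 ≫ pullback.snd g U.hom := by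
    intro T' t y h
    rw [← hz (pullback.lift t y h.symm) t y h (pullback.lift_fst _ _ _) (pullback.lift_snd _ _ _), ha2,
      pullback.lift_fst_assoc]
  refine ⟨⟨a, ha1⟩, Compat.ext fun T' t i y hy => pullback.hom_ext ?_ ?_, fun b hb => Subtype.ext ?_⟩
  · exact (pullback.lift_fst _ _ _).trans (c.pt t y hy).2.symm
  · exact (pullback.lift_snd _ _ _).trans (ha' t y hy)
  · refine huniq b.1 ⟨b.2, ?_⟩
    simp only [f', pullback.lift_fst]
    change z.1 ≫ _ = _
    simp only [z, ← hb]
    exact pullback.lift_snd _ _ _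

section baseChange

variable {S₁ : Scheme.{u}} (j : S₁ ⟶ S)

/-- The pulled back datum. -/
abbrev Dj (D : SchDDFam (fun _ : PUnit.{w + 1} => g)) : SchDDFam (fun _ : PUnit.{w + 1} => pullback.snd g j) :=
  (pullDDFam (f := fun _ : PUnit.{w + 1} => g) (f' := fun _ : PUnit.{w + 1} => pullback.snd g j)
    (α := id) (p := j) (p' := fun _ => pullback.fst g j) (fun _ => pullback.condition)).obj D

variable {j}

theorem pull_bijective {T : Scheme.{u}} {x : T ⟶ S₁} {s : T ⟶ S} (hs : x ≫ j = s) :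
    Function.Bijective (Compat.pull (f := fun _ : PUnit.{w + 1} => g) (f' := fun _ : PUnit.{w + 1} => pullback.snd g j)
      (α := id) (g := fun _ => pullback.fst g j) (fun _ => pullback.condition) hs (D := D)) := by
  have hw : ∀ {T' : Scheme.{u}} (t : T' ⟶ T) (y : T' ⟶ S'), y ≫ g = t ≫ s →
      y ≫ g = (t ≫ x) ≫ j := fun t y h => by rw [Category.assoc, hs, h]
  constructor
  · intro c c' e
    refine Compat.ext fun T' t i y hy => ?_
    obtain ⟨⟩ := i
    let zz : T' ⟶ pullback g j := pullback.lift y (t ≫ x) (hw t y hy)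
    have h := congrArg (fun q : Compat (Dj j D) x => (liftsPullbackEquiv (D.obj PUnit.unit) (pullback.fst g j) zz
      (q.pt t (i := PUnit.unit) zz (pullback.lift_snd _ _ _))).1) e
    simp only [Compat.pull, Equiv.apply_symm_apply, id] at h
    have key : ∀ (d : Compat D s) (h' : (zz ≫ pullback.fst g j) ≫ g = t ≫ s),
        (d.pt t (i := PUnit.unit) (zz ≫ pullback.fst g j) h').1 = (d.pt t (i := PUnit.unit) y hy).1 :=
      fun d h' => d.pt_congr rfl (pullback.lift_fst _ _ _) _ _
    rw [key, key] at h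
    exact h
  · intro c'
    have hz : ∀ {T' : Scheme.{u}} (t : T' ⟶ T) (y : T' ⟶ S') (h : y ≫ g = t ≫ s),
        pullback.lift y (t ≫ x) (hw t y h) ≫ pullback.fst g j = y := fun t y h => pullback.lift_fst _ _ _
    let L : ∀ {T' : Scheme.{u}} (t : T' ⟶ T) (y : T' ⟶ S') (h : y ≫ g = t ≫ s),
        Lifts (D.obj PUnit.unit) (pullback.lift y (t ≫ x) (hw t y h) ≫ pullback.fst g j) := fun t y h =>
      liftsPullbackEquiv (D.obj PUnit.unit) (pullback.fst g j) _
        (c'.pt t (i := PUnit.unit) (pullback.lift y (t ≫ x) (hw t y h)) (pullback.lift_snd _ _ _))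
    refine ⟨{ pt := fun T' t i y h => ⟨(L t y h).1, (L t y h).2.trans (hz t y h)⟩, nat := ?_, comp := ?_ }, ?_⟩
    · intro T' T'' r t i y h t' y' hr hy h'
      refine lpe_natural _ _ r _ _ _ _ (c'.nat r t _ _ t' _ hr ?_ _)
      subst hr hy
      exact pullback.hom_ext (by simp) (by simp)
    · intro T' t i k y y' h h'
      obtain ⟨⟩ := i
      obtain ⟨⟩ := k
      refine Subtype.ext ?_
      have e := congrArg (fun v => (liftsPullbackEquiv (D.obj PUnit.unit) (pullback.fst g j) _ v).1)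
        (c'.comp t (i := PUnit.unit) (k := PUnit.unit) (pullback.lift y (t ≫ x) (hw t y h))
          (pullback.lift y' (t ≫ x) (hw t y' h')) (pullback.lift_snd _ _ _) (pullback.lift_snd _ _ _))
      simp only [pullDDFam, pullDDFamObj, Equiv.trans_apply, Equiv.apply_symm_apply, id] at e
      refine Eq.trans ?_ e
      have key : ∀ (a a' : T' ⟶ S') (ha : y = a) (ha' : y' = a') (hh : y ≫ g = y' ≫ g) (hh' : a ≫ g = a' ≫ g)
          (v : Lifts (D.obj PUnit.unit) y) (v' : Lifts (D.obj PUnit.unit) a), v.1 = v'.1 →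
          (D.φ (i := PUnit.unit) (j := PUnit.unit) y y' hh v).1 = (D.φ a a' hh' v').1 := by
        rintro a a' rfl rfl hh hh' v v' hv
        rw [Subtype.ext hv]
      exact key _ _ (hz t y h).symm (hz t y' h').symm _ _ _ _ rfl
    · refine Compat.ext fun T' t i z hzz => ?_
      obtain ⟨⟩ := i
      have hh : (z ≫ pullback.fst g j) ≫ g = t ≫ s := by
        rw [Category.assoc, pullback.condition, ← Category.assoc, hzz, Category.assoc, hs]
      refine congrArg Subtype.val ((liftsPullbackEquiv (D.obj PUnit.unit) (pullback.fst g j) z).symm_apply_eq.2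
        (Subtype.ext ?_))
      change (L t (z ≫ pullback.fst g j) hh).1 = _
      have key : ∀ (z' : T' ⟶ pullback g j) (h' : z' ≫ pullback.snd g j = t ≫ x), z' = z →
          (liftsPullbackEquiv (D.obj PUnit.unit) (pullback.fst g j) z' (c'.pt t (i := PUnit.unit) z' h')).1 =
            (liftsPullbackEquiv (D.obj PUnit.unit) (pullback.fst g j) z (c'.pt t (i := PUnit.unit) z hzz)).1 := by
        rintro z' h' rfl
        rfl
      exact key _ _ (pullback.hom_ext (pullback.lift_fst _ _ _) ((pullback.lift_snd _ _ _).trans hzz.symm))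

/-- Representability passes to the datum over the smaller base from the pulled back one. -/
theorem repOn_of_isRep {U : Over S₁} (h : IsRep (Dj j D) U) : ∃ c₀ : Compat D (U.hom ≫ j),
    ∀ ⦃T : Scheme.{u}⦄ (x : T ⟶ S₁) (c : Compat D (x ≫ j)),
      ∃! p : Lifts U x, c₀.res p.1 (x ≫ j) (by rw [← Category.assoc, p.2]) = c := by
  obtain ⟨c', hu⟩ := h
  obtain ⟨c₀, rfl⟩ := (pull_bijective (j := j) (x := U.hom) rfl).2 c'
  refine ⟨c₀, fun T x c => ?_⟩
  obtain ⟨p, hp, huniq⟩ := hu x (c.pull _ rfl)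
  have hj : ∀ q : Lifts U x, q.1 ≫ U.hom ≫ j = x ≫ j := fun q => by rw [← Category.assoc, q.2]
  refine ⟨p, (pull_bijective (j := j) rfl).1 ?_, fun q hq => huniq q ?_⟩
  · exact (Compat.pull_res _ rfl c₀ p.1 x p.2 _ (hj p) rfl).trans hp
  · exact (Compat.pull_res _ rfl c₀ q.1 x q.2 _ (hj q) rfl).symm.trans (congrArg (Compat.pull _ rfl) hq)

/-- Representability passes to the pulled back datum. -/
theorem isRep_bc {U : Over S} (h : IsRep D U) : IsRep (Dj j D) (Over.mk (pullback.snd U.hom j)) := by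
  obtain ⟨c₀, hu⟩ := h
  have hc : pullback.fst U.hom j ≫ U.hom = pullback.snd U.hom j ≫ j := pullback.condition
  refine ⟨(c₀.res (pullback.fst U.hom j) _ hc).pull _ rfl, fun T x c' => ?_⟩
  obtain ⟨c, rfl⟩ := (pull_bijective (j := j) (x := x) rfl).2 c'
  obtain ⟨p, hp, huniq⟩ := hu (x ≫ j) c
  let L := pullback.lift p.1 x p.2
  have hkey : ∀ (b : T ⟶ pullback U.hom j) (hb : b ≫ pullback.snd U.hom j = x),
      ((c₀.res (pullback.fst U.hom j) _ hc).pull (fun _ => pullback.condition) (x := pullback.snd U.hom j) rfl).res b x hb =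
        (c₀.res (b ≫ pullback.fst U.hom j) (x ≫ j) (by rw [Category.assoc, hc, reassoc_of% hb])).pull
          (fun _ => pullback.condition) rfl := by
    intro b hb
    rw [← Compat.pull_res _ rfl _ b x hb (x ≫ j) (by rw [reassoc_of% hb]) rfl]
    exact congrArg _ (Compat.res_res _ _ _ _ _ _ _ _ rfl _)
  refine ⟨⟨L, pullback.lift_snd _ _ _⟩, ?_, fun q hq => ?_⟩
  · refine (hkey L (pullback.lift_snd _ _ _)).trans ?_
    congr 1
    exact (Compat.res_congr _ (pullback.lift_fst _ _ _) _ _ p.2).trans hp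
  · refine Subtype.ext (pullback.hom_ext ?_ (q.2.trans (pullback.lift_snd _ _ _).symm))
    change q.1 ≫ pullback.fst U.hom j = L ≫ _
    rw [pullback.lift_fst]
    exact congrArg Subtype.val (huniq ⟨q.1 ≫ pullback.fst U.hom j, by rw [Category.assoc, hc, ← Category.assoc]; exact congrArg (· ≫ j) q.2⟩
      ((pull_bijective (j := j) rfl).1 ((hkey q.1 q.2).symm.trans hq)))

end baseChange

end Groth.Agent.EtRep9
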