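import Groth.Agent.EtRep9.Spread
import Groth.Agent.Pi1Ext.SpreadLim

/-! Representability at a point spreads to a neighbourhood. -/

set_option autoImplicit false
set_option backward.isDefEq.respectTransparency false
set_option backward.isDefEq.respectTransparency.types false
set_option linter.style.haveILetI false
universe u w

open CategoryTheory CategoryTheory.Limits AlgebraicGeometry Desc

noncomputable section

namespace Groth.Agent.EtRep9

open Groth.Agent.Pi1Ext

variable {S S' : Scheme.{u}} {g : S' ⟶ S} {D : SchDDFam (fun _ : PUnit.{w + 1} => g)}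

theorem univSubmersive_snd (hg : SGA1.UnivSubmersive g) {S₁ : Scheme.{u}} (j : S₁ ⟶ S) :
    SGA1.UnivSubmersive (pullback.snd g j) :=
  MorphismProperty.of_isPullback (P := MorphismProperty.universally _) (IsPullback.of_hasPullback g j) hg

theorem surjective_snd (hg : SGA1.UnivSubmersive g) {S₁ : Scheme.{u}} (j : S₁ ⟶ S) :
    Surjective (pullback.snd g j) :=
  ⟨(hg (i₁ := pullback.fst g j) (i₂ := j) (f' := pullback.snd g j)
    (IsPullback.of_hasPullback g j).flip).surjective⟩

theorem compactSpace_of_surjective {A B : Scheme.{u}} (f : A ⟶ B) [Surjective f] [CompactSpace A] :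
    CompactSpace B :=
  ⟨by rw [← f.surjective.range_eq]; exact isCompact_range f.continuous⟩

theorem quasiSeparatedSpace_of_surjective {A B : Scheme.{u}} (f : A ⟶ B) [Surjective f] [QuasiCompact f]
    [QuasiSeparatedSpace A] : QuasiSeparatedSpace B :=
  ⟨fun U V hU hU' hV hV' => by
    have h := QuasiSeparatedSpace.inter_isCompact (f ⁻¹' U) (f ⁻¹' V) (hU.preimage f.continuous)
      (QuasiCompact.isCompact_preimage _ hU hU') (hV.preimage f.continuous)
      (QuasiCompact.isCompact_preimage _ hV hV')
    rw [← Set.preimage_inter] at h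
    have h2 := h.image f.continuous
    rwa [Set.image_preimage_eq _ f.surjective] at h2⟩

/-- A scheme descending the datum over an affine base is quasi-compact and quasi-separated. -/
theorem qcqs_of_isMdl (hg : SGA1.UnivSubmersive g) [QuasiCompact g] [QuasiSeparated g]
    [QuasiCompact (D.obj PUnit.unit).hom] [QuasiSeparated (D.obj PUnit.unit).hom]
    {S₁ : Scheme.{u}} [IsAffine S₁] {j : S₁ ⟶ S} {U : Scheme.{u}} {f : U ⟶ S₁}
    {u : pullback g (f ≫ j) ⟶ (D.obj PUnit.unit).left} (h : IsMdl D j f u) :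
    QuasiCompact f ∧ QuasiSeparated f := by
  let Q := pullback ((D.obj PUnit.unit).hom ≫ g) j
  haveI : CompactSpace Q :=
    QuasiCompact.compactSpace_of_compactSpace (pullback.snd ((D.obj PUnit.unit).hom ≫ g) j)
  haveI : QuasiSeparatedSpace Q :=
    quasiSeparatedSpace_of_quasiSeparated (pullback.snd ((D.obj PUnit.unit).hom ≫ g) j)
  haveI := h.iso
  haveI : CompactSpace ↥(pullback g (f ≫ j)) := compactSpace_of_surjective (inv (th f u (hw_of_hu h.hu)))
  haveI : QuasiSeparatedSpace ↥(pullback g (f ≫ j)) := quasiSeparatedSpace_of_quasiSeparated (th f u (hw_of_hu h.hu))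
  haveI := surjective_snd hg (f ≫ j)
  haveI : CompactSpace U := compactSpace_of_surjective (pullback.snd g (f ≫ j))
  haveI : QuasiSeparatedSpace U := quasiSeparatedSpace_of_surjective (pullback.snd g (f ≫ j))
  exact ⟨inferInstance, inferInstance⟩

/-- Representability at the local ring gives it on a neighbourhood. -/
theorem exists_isRepOn_nbhd (hg : SGA1.UnivSubmersive g)
    [LocallyOfFinitePresentation g] [QuasiCompact g] [QuasiSeparated g]
    [Etale (D.obj PUnit.unit).hom] [QuasiCompact (D.obj PUnit.unit).hom] [QuasiSeparated (D.obj PUnit.unit).hom]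
    (a : S) {U : Over (Spec (S.presheaf.stalk a))} [Etale U.hom] (h : IsRepOn D (S.fromSpecStalk a) U) :
    ∃ (W : S.Opens) (V : Over (W : Scheme.{u})), a ∈ W ∧ Etale V.hom ∧ IsRepOn D W.ι V := by
  obtain ⟨u, hu⟩ := exists_isMdl h
  obtain ⟨hqc, hqs⟩ := qcqs_of_isMdl hg hu
  haveI : Etale (U.hom : U.left ⟶ (SpreadLim.cone S a).pt) := ‹Etale U.hom›
  haveI : QuasiCompact (U.hom : U.left ⟶ (SpreadLim.cone S a).pt) := hqc
  haveI : QuasiSeparated (U.hom : U.left ⟶ (SpreadLim.cone S a).pt) := hqs
  haveI : ∀ (i j : SpreadLim.Nbhd S a) (f : i ⟶ j), IsAffineHom ((SpreadLim.specs S a).map f) :=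
    fun i j f => inferInstance
  haveI : ∀ i : SpreadLim.Nbhd S a, CompactSpace ((SpreadLim.specs S a).obj i) := fun i => inferInstance
  haveI : ∀ i : SpreadLim.Nbhd S a, QuasiSeparatedSpace ((SpreadLim.specs S a).obj i) := fun i => inferInstance
  obtain ⟨n, U', f', u', hEt, hm⟩ := exists_isMdl_stage (D := D) (SpreadLim.specs S a) (SpreadLim.cone S a)
    (SpreadLim.isLimit S a) (SpreadLim.toX S a) (fun φ => SpreadLim.map_toX S a φ) (jl := S.fromSpecStalk a)
    (fun i => SpreadLim.π_toX S a i) (U.hom : U.left ⟶ (SpreadLim.cone S a).pt) (u := u) hu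
  haveI := hEt
  have hr := isRepOn_bc n.2.1.isoSpec.hom (j := SpreadLim.toX S a n) (j' := n.1.ι)
    n.2.1.isoSpec_hom_fromSpec (isRepOn_of_isMdl hg hm)
  exact ⟨n.1, _, n.2.2, inferInstanceAs (Etale (pullback.snd f' n.2.1.isoSpec.hom)), hr⟩

end Groth.Agent.EtRep9
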