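import Groth.Agent.EtRep9.Fpqc
import Groth.Agent.EtRep9.Nbhd
import Groth.Agent.S5123

/-! Representability over a faithfully flat local algebra gives it at the local ring. -/

set_option autoImplicit false
set_option backward.isDefEq.respectTransparency false
set_option backward.isDefEq.respectTransparency.types false
set_option linter.style.haveILetI false
universe u w

open CategoryTheory CategoryTheory.Limits AlgebraicGeometry Desc

noncomputable section

namespace Groth.Agent.EtRep9

open Groth.Agent.DescLib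

variable {S S' : Scheme.{u}} {g : S' ⟶ S} {D : SchDDFam (fun _ : PUnit.{w + 1} => g)}

/-- A scheme descending a separated one along a universally submersive morphism is separated. -/
theorem isSeparated_of_isMdl (hg : SGA1.UnivSubmersive g) [IsSeparated (D.obj PUnit.unit).hom]
    {S₁ : Scheme.{u}} {j : S₁ ⟶ S} {U : Scheme.{u}} {f : U ⟶ S₁}
    {u : pullback g (f ≫ j) ⟶ (D.obj PUnit.unit).left} (h : IsMdl D j f u) : IsSeparated f := by
  let E := D.obj PUnit.unit
  haveI := h.iso
  let θ := th f u (hw_of_hu h.hu)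
  let πE : pullback (E.hom ≫ g) j ⟶ pullback g j :=
    pullback.lift (pullback.fst _ _ ≫ E.hom) (pullback.snd _ _) (by rw [Category.assoc, pullback.condition])
  have sE : IsPullback (pullback.fst (E.hom ≫ g) j) πE E.hom (pullback.fst g j) := by
    refine IsPullback.flip (IsPullback.of_right ?_ (pullback.lift_fst _ _ _) (IsPullback.of_hasPullback g j).flip)
    rw [pullback.lift_snd]
    exact (IsPullback.of_hasPullback (E.hom ≫ g) j).flip
  haveI : IsSeparated πE := MorphismProperty.of_isPullback sE ‹IsSeparated E.hom›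
  let π : pullback g (f ≫ j) ⟶ pullback g j :=
    pullback.lift (pullback.fst _ _) (pullback.snd _ _ ≫ f) (by rw [Category.assoc]; exact pullback.condition)
  haveI : IsSeparated π := by
    rw [show π = θ ≫ πE from pullback.hom_ext (by
      rw [Category.assoc, pullback.lift_fst, pullback.lift_fst, pullback.lift_fst_assoc]; exact h.hu.symm) (by
      rw [Category.assoc, pullback.lift_snd, pullback.lift_snd, pullback.lift_snd])]
    infer_instance
  let W := pullback f f
  let Δ : U ⟶ W := pullback.diagonal f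
  let s : W ⟶ S := pullback.fst f f ≫ f ≫ j
  let q := pullback.snd g s
  have hq : Topology.IsQuotientMap q :=
    hg (i₁ := pullback.fst g s) (i₂ := s) (f' := q) (IsPullback.of_hasPullback g s).flip
  let a : pullback g s ⟶ pullback g (f ≫ j) := pullback.lift (pullback.fst g s) (q ≫ pullback.fst f f)
    (by rw [Category.assoc]; exact pullback.condition)
  let b : pullback g s ⟶ pullback g (f ≫ j) := pullback.lift (pullback.fst g s) (q ≫ pullback.snd f f)
    (by
      rw [Category.assoc, ← pullback.condition_assoc (f := f) (g := f)]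
      exact pullback.condition)
  let φ : pullback g s ⟶ pullback π π := pullback.lift a b (pullback.hom_ext
    (by simp [π, a, b]) (by simp [π, a, b, pullback.condition]))
  have hclosed : IsClosed (Set.range Δ) := by
    rw [← hq.isClosed_preimage]
    have key : q ⁻¹' Set.range Δ = φ ⁻¹' Set.range (pullback.diagonal π) := by
      rw [← Scheme.Pullback.range_fst, ← Scheme.Pullback.range_fst]
      let k := pullback.fst q Δ
      let k' := pullback.fst φ (pullback.diagonal π)
      have h1 : (k ≫ a : pullback q Δ ⟶ _) = k ≫ b := by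
        refine pullback.hom_ext ?_ ?_
        · simp [a, b]
        · simp only [a, b, Category.assoc, pullback.lift_snd]
          rw [pullback.condition_assoc, pullback.condition_assoc]
          simp [Δ]
      have h2 : k' ≫ q ≫ pullback.fst f f = k' ≫ q ≫ pullback.snd f f := by
        have e1 : k' ≫ a = pullback.snd φ (pullback.diagonal π) := by
          have e := congrArg (· ≫ pullback.fst π π) (pullback.condition (f := φ) (g := pullback.diagonal π))
          simpa [φ] using e
        have e2 : k' ≫ b = pullback.snd φ (pullback.diagonal π) := by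
          have e := congrArg (· ≫ pullback.snd π π) (pullback.condition (f := φ) (g := pullback.diagonal π))
          simpa [φ] using e
        have e := congrArg (· ≫ pullback.snd g (f ≫ j)) (e1.trans e2.symm)
        simpa [a, b] using e
      let m : pullback q Δ ⟶ pullback φ (pullback.diagonal π) := pullback.lift k (k ≫ a)
        (pullback.hom_ext (by simp [φ]) (by simp [φ, h1]))
      let m' : pullback φ (pullback.diagonal π) ⟶ pullback q Δ := pullback.lift k' (k' ≫ q ≫ pullback.fst f f)
        (pullback.hom_ext (by simp [Δ]) (by simp [Δ, h2]))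
      refine Set.Subset.antisymm ?_ ?_
      · rintro _ ⟨x, rfl⟩
        refine ⟨m x, ?_⟩
        rw [← Scheme.Hom.comp_apply, pullback.lift_fst]
      · rintro _ ⟨x, rfl⟩
        refine ⟨m' x, ?_⟩
        rw [← Scheme.Hom.comp_apply, pullback.lift_fst]
    rw [key]
    exact (pullback.diagonal π).isClosedEmbedding.isClosed_range.preimage φ.continuous
  exact ⟨IsClosedImmersion.of_isPreimmersion Δ hclosed⟩

theorem isRepOn_Dj {S₁ S₂ : Scheme.{u}} {j : S₁ ⟶ S} {p : S₂ ⟶ S₁} {U : Over S₂} (h : IsRepOn D (p ≫ j) U) :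
    IsRepOn (Dj j D) p U := by
  obtain ⟨c₀, hu⟩ := h
  refine ⟨c₀.pull (fun _ => pullback.condition) (x := U.hom ≫ p) (Category.assoc _ _ _), fun T x s hs c' => ?_⟩
  subst hs
  have hs : (x ≫ p) ≫ j = x ≫ p ≫ j := Category.assoc _ _ _
  obtain ⟨c, rfl⟩ := (pull_bijective (j := j) hs).2 c'
  obtain ⟨v, hv, huniq⟩ := hu x (x ≫ p ≫ j) rfl c
  have hj : ∀ q : Lifts U x, q.1 ≫ U.hom ≫ p ≫ j = x ≫ p ≫ j := fun q => by rw [← Category.assoc, q.2]
  refine ⟨v, ?_, fun q hq => huniq q ((pull_bijective (j := j) hs).1 ?_)⟩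
  · exact (Compat.pull_res _ _ c₀ v.1 (x ≫ p) (by rw [← Category.assoc, v.2]) _ (hj v) hs).symm.trans
      (congrArg (Compat.pull _ hs) hv)
  · exact (Compat.pull_res _ _ c₀ q.1 (x ≫ p) (by rw [← Category.assoc, q.2]) _ (hj q) hs).trans hq

/-- A descent over a faithfully flat algebra of the local ring descends to it. -/
theorem exists_isRepOn_of_flat_cover (hg : SGA1.UnivSubmersive g)
    [QuasiCompact g] [QuasiSeparated g]
    [QuasiCompact (D.obj PUnit.unit).hom] [IsSeparated (D.obj PUnit.unit).hom]
    {R B : CommRingCat.{u}} (φ : R ⟶ B) (hφ : φ.hom.FaithfullyFlat) (j : Spec R ⟶ S)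
    {U : Over (Spec B)} [Etale U.hom]
    (h : IsRepOn D (Spec.map φ ≫ j) U) :
    ∃ V : Over (Spec R), Etale V.hom ∧ IsRepOn D j V := by
  rw [RingHom.FaithfullyFlat.iff_flat_and_comap_surjective] at hφ
  haveI : Flat (Spec.map φ) := (HasRingHomProperty.Spec_iff (P := @Flat)).2 hφ.1
  haveI : Surjective (Spec.map φ) := ⟨hφ.2⟩
  obtain ⟨u, hu⟩ := exists_isMdl h
  haveI : QuasiCompact U.hom := (qcqs_of_isMdl hg hu).1
  haveI : IsSeparated U.hom := isSeparated_of_isMdl hg hu
  obtain ⟨V, hV, -, -, hr⟩ := exists_isRep_of_cover (p := Spec.map φ) (isRep_of_isRepOn (isRepOn_Dj h))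
  exact ⟨V, hV, isRepOn_of_isRep hr⟩

/-- Effectivity from representability at all the local rings. -/
theorem exists_descent_of_stalks {g : S' ⟶ S} (hg : SGA1.UnivSubmersive g)
    [LocallyOfFinitePresentation g] [QuasiCompact g] [QuasiSeparated g]
    (D : SchDDFam (fun _ : PUnit.{1} => g)) [Etale (D.obj PUnit.unit).hom]
    [QuasiCompact (D.obj PUnit.unit).hom] [QuasiSeparated (D.obj PUnit.unit).hom]
    (H : ∀ a : S, ∃ U : Over (Spec (S.presheaf.stalk a)), Etale U.hom ∧ IsRepOn D (S.fromSpecStalk a) U) :
    ∃ U : Over S, Etale U.hom ∧ Nonempty ((toDDFam (fun _ : PUnit.{1} => g)).obj U ≅ D) := by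
  have H' : ∀ a : S, ∃ (W : S.Opens) (V : Over (W : Scheme.{u})), a ∈ W ∧ Etale V.hom ∧ IsRepOn D W.ι V := fun a => by
    obtain ⟨U, hU, h⟩ := H a
    haveI := hU
    exact exists_isRepOn_nbhd hg a h
  choose W V ha hV h using H'
  exact (Groth.Agent.S5123.result g hg D W
    (TopologicalSpace.Opens.ext (Set.eq_univ_of_forall fun x =>
      TopologicalSpace.Opens.mem_iSup.mpr ⟨x, ha x⟩))).mpr
    fun a => ⟨V a, hV a, iso_of_isRep (isRep_of_isRepOn (h a))⟩

/-- Base change of a descent. -/
theorem exists_bc {g : S' ⟶ S} (hg : SGA1.UnivSubmersive g) {D : SchDDFam (fun _ : PUnit.{1} => g)}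
    {S₁ : Scheme.{u}} (j : S₁ ⟶ S)
    (H : ∃ U : Over S, Etale U.hom ∧ Nonempty ((toDDFam (fun _ : PUnit.{1} => g)).obj U ≅ D)) :
    ∃ U : Over S₁, Etale U.hom ∧
      Nonempty ((toDDFam (fun _ : PUnit.{1} => pullback.snd g j)).obj U ≅ Dj j D) := by
  obtain ⟨U, hU, ⟨I⟩⟩ := H
  haveI := hU
  exact ⟨_, inferInstanceAs (Etale (pullback.snd U.hom j)),
    iso_of_isRep (isRep_bc (j := j) (isRep_of_iso I (isRep_canonical hg U)))⟩

end Groth.Agent.EtRep9
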