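import Groth.Agent.EtRep9.FiniteLocal
import Groth.Agent.EtRep9.Cover
import Groth.Agent.RegFS6.Lift
import Groth.Agent.Hensel.HenselizationLoc

/-! Finite surjective morphisms are effective descent morphisms for etale separated schemes over noetherian local rings. -/

set_option autoImplicit false
set_option backward.isDefEq.respectTransparency false
set_option backward.isDefEq.respectTransparency.types false
set_option linter.style.haveILetI false
universe u

open CategoryTheory CategoryTheory.Limits AlgebraicGeometry IsLocalRing Desc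

noncomputable section

namespace Groth.Agent.EtRep9

theorem henselian_of_complete (C : Type u) [CommRing C] [IsLocalRing C]
    [IsAdicComplete (maximalIdeal C) C] : HenselianLocalRing C :=
  { is_henselian := fun F hF a₀ h₁ h₂ =>
      HenselianRing.is_henselian (I := maximalIdeal C) F hF a₀ h₁ (h₂.map (Ideal.Quotient.mk _)) }

/-- A complete cover with algebraically closed residue field. -/
theorem exists_complete_cover (R : CommRingCat.{u}) [IsLocalRing R] [IsNoetherianRing R] :
    ∃ (C : CommRingCat.{u}) (_ : IsLocalRing C) (_ : IsNoetherianRing C) (φ : R ⟶ C),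
      φ.hom.FaithfullyFlat ∧ HenselianLocalRing C ∧ IsAdicComplete (maximalIdeal C) C ∧
        IsAlgClosed (ResidueField C) ∧ (maximalIdeal C).height = (maximalIdeal R).height := by
  let k := AlgebraicClosure (ResidueField R)
  haveI : IsAdicComplete (maximalIdeal k) k := by rw [maximalIdeal_eq_bot]; infer_instance
  obtain ⟨C, _, _, _, _, _, ρ, hc, hflat, hρ, hker, -⟩ := Groth.Agent.RegFS6.exists_flat_complete_lift R k
  haveI := hc
  haveI := hflat
  haveI : Module.FaithfullyFlat R C := Module.FaithfullyFlat.of_flat_of_isLocalHom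
  have hm : RingHom.ker ρ = maximalIdeal C := eq_maximalIdeal (RingHom.ker_isMaximal_of_surjective ρ hρ)
  haveI : IsAlgClosed (ResidueField C) := IsAlgClosed.of_ringEquiv k _
    ((RingHom.quotientKerEquivOfSurjective hρ).symm.trans (Ideal.quotEquivOfEq hm))
  refine ⟨CommRingCat.of C, inferInstance, inferInstance, CommRingCat.ofHom (algebraMap R C),
    RingHom.faithfullyFlat_algebraMap_iff.2 inferInstance, henselian_of_complete C, hc, inferInstance, ?_⟩
  have h := Groth.Agent.Hensel.ringKrullDim_eq_of_flat_of_map_maximalIdeal_eq (R := R) (S := C) (hker.symm.trans hm)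
  rw [← maximalIdeal_height_eq_ringKrullDim, ← maximalIdeal_height_eq_ringKrullDim] at h
  exact WithBot.coe_inj.1 h

theorem height_stalk_lt (C : CommRingCat.{u}) [IsLocalRing C] [IsNoetherianRing C] (U : (Spec C).Opens)
    (hU : ∀ x ∈ U, x ≠ closedPoint C) (p : U) :
    (maximalIdeal ((U : Scheme.{u}).presheaf.stalk p)).height < (maximalIdeal C).height := by
  let x : PrimeSpectrum C := U.ι p
  letI : Algebra C ((Spec C).presheaf.stalk x) := StructureSheaf.stalkAlgebra C x
  haveI : IsLocalization.AtPrime ((Spec C).presheaf.stalk x) x.asIdeal := StructureSheaf.IsLocalization.to_stalk C x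
  have e := ringKrullDim_eq_of_ringEquiv (asIso (U.ι.stalkMap p)).commRingCatIsoToRingEquiv
  rw [← maximalIdeal_height_eq_ringKrullDim (R := (U : Scheme.{u}).presheaf.stalk p),
    IsLocalization.AtPrime.ringKrullDim_eq_height x.asIdeal ((Spec C).presheaf.stalk x)] at e
  rw [← WithBot.coe_inj.1 e]
  have hlt : x.asIdeal < maximalIdeal C :=
    lt_of_le_of_ne (le_maximalIdeal x.2.ne_top) fun h => hU x p.2 (PrimeSpectrum.ext h)
  exact Ideal.height_strict_mono_of_isPrime hlt

theorem effective_finite_local : ∀ (n : ℕ) (R : CommRingCat.{u}) [IsLocalRing R] [IsNoetherianRing R],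
    (maximalIdeal R).height < n → ∀ {S' : Scheme.{u}} (g : S' ⟶ Spec R) [IsFinite g] [Surjective g]
      (D : SchDDFam (fun _ : PUnit.{1} => g)) [Etale (D.obj PUnit.unit).hom] [QuasiCompact (D.obj PUnit.unit).hom]
      [IsSeparated (D.obj PUnit.unit).hom],
      ∃ U : Over (Spec R), Etale U.hom ∧ IsRep D U := by
  intro n
  induction n with
  | zero => intro R _ _ h; simp at h
  | succ n ih =>
    intro R _ _ hn S' g _ _ D _ _ _
    obtain ⟨C, _, _, φ, hφ, hhens, hcompl, halg, hht⟩ := exists_complete_cover R
    haveI : HenselianLocalRing C := hhens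
    haveI : IsAlgClosed (ResidueField C) := halg
    let gC := pullback.snd g (Spec.map φ)
    let DC := Dj (Spec.map φ) D
    haveI : Etale (DC.obj PUnit.unit).hom :=
      inferInstanceAs (Etale (pullback.snd (D.obj PUnit.unit).hom (pullback.fst g (Spec.map φ))))
    haveI : QuasiCompact (DC.obj PUnit.unit).hom :=
      inferInstanceAs (QuasiCompact (pullback.snd (D.obj PUnit.unit).hom (pullback.fst g (Spec.map φ))))
    haveI : IsSeparated (DC.obj PUnit.unit).hom :=
      inferInstanceAs (IsSeparated (pullback.snd (D.obj PUnit.unit).hom (pullback.fst g (Spec.map φ))))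
    let W : (Spec C).Opens := punct C
    let gW := pullback.snd gC W.ι
    let DW := Dj W.ι DC
    haveI : Etale (DW.obj PUnit.unit).hom :=
      inferInstanceAs (Etale (pullback.snd (DC.obj PUnit.unit).hom (pullback.fst gC W.ι)))
    haveI : QuasiCompact (DW.obj PUnit.unit).hom :=
      inferInstanceAs (QuasiCompact (pullback.snd (DC.obj PUnit.unit).hom (pullback.fst gC W.ι)))
    haveI : IsSeparated (DW.obj PUnit.unit).hom :=
      inferInstanceAs (IsSeparated (pullback.snd (DC.obj PUnit.unit).hom (pullback.fst gC W.ι)))
    haveI : IsLocallyNoetherian (Spec C) := inferInstance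
    haveI : IsLocallyNoetherian (W : Scheme.{u}) := inferInstance
    haveI : LocallyOfFinitePresentation gW := inferInstance
    have hgW : SGA1.UnivSubmersive gW := univSubmersive_of_closed_surjective gW
    obtain ⟨V, hV, ⟨I⟩⟩ := exists_descent_of_stalks hgW DW fun p => by
      let j := (W : Scheme.{u}).fromSpecStalk p
      haveI : Etale ((Dj j DW).obj PUnit.unit).hom :=
        inferInstanceAs (Etale (pullback.snd (DW.obj PUnit.unit).hom (pullback.fst gW j)))
      haveI : QuasiCompact ((Dj j DW).obj PUnit.unit).hom :=
        inferInstanceAs (QuasiCompact (pullback.snd (DW.obj PUnit.unit).hom (pullback.fst gW j)))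
      haveI : IsSeparated ((Dj j DW).obj PUnit.unit).hom :=
        inferInstanceAs (IsSeparated (pullback.snd (DW.obj PUnit.unit).hom (pullback.fst gW j)))
      have hlt := height_stalk_lt C W (fun x hx => hx) p
      rw [hht] at hlt
      have hn' : (maximalIdeal R).height ≤ n := by
        rw [Nat.cast_succ] at hn
        exact Order.le_of_lt_add_one hn
      obtain ⟨U, hU, h⟩ := ih ((W : Scheme.{u}).presheaf.stalk p) (lt_of_lt_of_le hlt hn') (pullback.snd gW j) (Dj j DW)
      exact ⟨U, hU, isRepOn_of_isRep h⟩
    haveI := hV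
    obtain ⟨U, hU, h⟩ := exists_isRep_of_punct (g := gC) (D := DC) C (exists_compat_lift C) (V := V)
      (isRepOn_of_isRep (isRep_of_iso I (isRep_canonical hgW V)))
    haveI := hU
    have hj : IsRepOn D (Spec.map φ ≫ 𝟙 (Spec R)) U := by
      rw [Category.comp_id]
      exact isRepOn_of_isRep h
    obtain ⟨U', hU', h'⟩ := exists_isRepOn_of_flat_cover (univSubmersive_of_closed_surjective g) φ hφ (𝟙 (Spec R)) hj
    exact ⟨U', hU', isRep_of_isRepOn_id h'⟩

/-- Finite surjective morphisms are of effective descent for etale separated schemes over noetherian local rings. -/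
theorem effective_finite {R : CommRingCat.{u}} [IsLocalRing R] [IsNoetherianRing R] {S' : Scheme.{u}}
    (g : S' ⟶ Spec R) [IsFinite g] [Surjective g]
    (D : SchDDFam (fun _ : PUnit.{1} => g)) [Etale (D.obj PUnit.unit).hom] [QuasiCompact (D.obj PUnit.unit).hom]
    [IsSeparated (D.obj PUnit.unit).hom] : ∃ U : Over (Spec R), Etale U.hom ∧ IsRep D U := by
  obtain ⟨n, hn⟩ := ENat.ne_top_iff_exists.1 (Ideal.height_ne_top (maximalIdeal.isMaximal R).ne_top)
  exact effective_finite_local (n + 1) R (by rw [← hn, Nat.cast_succ]; exact_mod_cast Nat.lt_succ_self n) g D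

end Groth.Agent.EtRep9
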