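import Groth.Agent.EtRep9.Refine
import Groth.Agent.EtRep9.EffFinite
import Groth.Agent.Hensel.QuasiFiniteSplit
import Groth.Agent.UnivOpen.Conditions
import Groth.Agent.HTopCov.DVR
import Groth.Agent.S5127

/-! Finite refinements of universally submersive morphisms over complete local rings, and global effectivity. -/

set_option autoImplicit false
set_option backward.isDefEq.respectTransparency false
set_option backward.isDefEq.respectTransparency.types false
set_option linter.style.haveILetI false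
universe u

open CategoryTheory CategoryTheory.Limits AlgebraicGeometry IsLocalRing Desc

noncomputable section

namespace Groth.Agent.EtRep9

/-- Over a henselian local ring, an affine quasi-finite scheme contains a finite one catching all points that specialise to the closed fibre. -/
theorem exists_finite_part {C : CommRingCat.{u}} [HenselianLocalRing C] {Y : Scheme.{u}} [IsAffine Y]
    (f : Y ⟶ Spec C) [LocallyOfFiniteType f] [LocallyQuasiFinite f] :
    ∃ (Z : Scheme.{u}) (i : Z ⟶ Y), IsFinite (i ≫ f) ∧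
      ∀ x y : Y, f x = closedPoint C → y ⤳ x → y ∈ Set.range i := by
  let B := Γ(Y, ⊤)
  let φ : C ⟶ B := Spec.preimage (Y.isoSpec.inv ≫ f)
  have hφ : Spec.map φ = Y.isoSpec.inv ≫ f := Spec.map_preimage _
  haveI : LocallyQuasiFinite (Spec.map φ) := by rw [hφ]; infer_instance
  haveI : LocallyOfFiniteType (Spec.map φ) := by rw [hφ]; infer_instance
  have hqf : φ.hom.QuasiFinite := (HasRingHomProperty.Spec_iff (P := @LocallyQuasiFinite)).1 inferInstance
  have hft : φ.hom.FiniteType := (HasRingHomProperty.Spec_iff (P := @LocallyOfFiniteType)).1 inferInstance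
  letI : Algebra C B := φ.hom.toAlgebra
  haveI : Algebra.FiniteType C B := hft
  haveI : Algebra.QuasiFinite C B := hqf
  obtain ⟨e, he, hfin, htop⟩ := Groth.Agent.Hensel.exists_quasiFinite_split C (S := B)
  let q : B ⟶ CommRingCat.of (B ⧸ Ideal.span ({1 - e} : Set B)) := CommRingCat.ofHom (Ideal.Quotient.mk _)
  refine ⟨_, Spec.map q ≫ Y.isoSpec.inv, ?_, fun x y hx hyx => ?_⟩
  · rw [Category.assoc, ← hφ, ← Spec.map_comp, IsFinite.SpecMap_iff]
    exact RingHom.finite_algebraMap.2 hfin
  · let px : PrimeSpectrum B := Y.isoSpec.hom x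
    let py : PrimeSpectrum B := Y.isoSpec.hom y
    have hle : py.asIdeal ≤ px.asIdeal :=
      (PrimeSpectrum.le_iff_specializes py px).2 (hyx.map Y.isoSpec.hom.continuous)
    have hex : e ∉ px.asIdeal := fun h => by
      let J : Ideal (B ⧸ Ideal.span ({e} : Set B)) := px.asIdeal.map (Ideal.Quotient.mk _)
      have hc : px.asIdeal.comap φ.hom = maximalIdeal C := by
        have h1 : Spec.map φ (Y.isoSpec.hom x) = closedPoint C := by
          rw [hφ, Scheme.Hom.comp_apply, ← Scheme.Hom.comp_apply Y.isoSpec.hom, Iso.hom_inv_id]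
          exact hx
        exact congrArg PrimeSpectrum.asIdeal h1
      have hle' : (maximalIdeal C).map (algebraMap C (B ⧸ Ideal.span ({e} : Set B))) ≤ J :=
        Ideal.map_le_iff_le_comap.2 fun a ha => Ideal.mem_map_of_mem _ (show φ.hom a ∈ px.asIdeal from
          Ideal.mem_comap.1 (hc.ge ha))
      rw [htop, top_le_iff, Ideal.eq_top_iff_one] at hle'
      obtain ⟨b, hb, hb1⟩ := (Ideal.mem_map_iff_of_surjective _ Ideal.Quotient.mk_surjective).1 hle'
      rw [← (Ideal.Quotient.mk _).map_one, Ideal.Quotient.eq] at hb1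
      have h2 : b - 1 ∈ px.asIdeal := (Ideal.span_le.2 (by simpa using h)) hb1
      exact px.2.ne_top ((Ideal.eq_top_iff_one _).2 (by simpa using px.asIdeal.sub_mem hb h2))
    have hey : 1 - e ∈ py.asIdeal :=
      (py.2.mem_or_mem (show e * (1 - e) ∈ py.asIdeal by rw [mul_sub, mul_one, he.eq, sub_self]; exact zero_mem _)).resolve_left
        fun h => hex (hle h)
    obtain ⟨z, hz⟩ : py ∈ Set.range (PrimeSpectrum.comap q.hom) := by
      rw [range_comap_of_surjective _ q.hom Ideal.Quotient.mk_surjective, PrimeSpectrum.mem_zeroLocus]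
      show ((RingHom.ker q.hom : Ideal B) : Set B) ⊆ py.asIdeal
      rw [SetLike.coe_subset_coe, show RingHom.ker q.hom = _ from Ideal.mk_ker, Ideal.span_le]
      simpa using hey
    refine ⟨z, ?_⟩
    rw [Scheme.Hom.comp_apply, show Spec.map q z = Y.isoSpec.hom y from hz, ← Scheme.Hom.comp_apply, Iso.hom_inv_id]
    rfl

/-- A finite surjective refinement from quasi-finite pieces through every minimal point. -/
theorem exists_refinement {C : CommRingCat.{u}} [HenselianLocalRing C] [IsNoetherianRing C] {S' : Scheme.{u}}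
    (g : S' ⟶ Spec C)
    (H : ∀ η : Spec C, (η : PrimeSpectrum C).asIdeal ∈ minimalPrimes C →
      ∃ (Y : Scheme.{u}) (r : Y ⟶ S'), IsAffine Y ∧ LocallyOfFiniteType (r ≫ g) ∧ LocallyQuasiFinite (r ≫ g) ∧
        ∃ y x : Y, (r ≫ g) y = η ∧ (r ≫ g) x = closedPoint C ∧ y ⤳ x) :
    ∃ (Z : Scheme.{u}) (h : Z ⟶ S'), IsFinite (h ≫ g) ∧ Surjective (h ≫ g) := by
  classical
  let M := {η : Spec C // (η : PrimeSpectrum C).asIdeal ∈ minimalPrimes C}
  haveI : Finite M := by
    haveI := (minimalPrimes.finite_of_isNoetherianRing C).to_subtype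
    exact Finite.of_injective (fun η : M => (⟨(η.1 : PrimeSpectrum C).asIdeal, η.2⟩ : minimalPrimes C))
      fun a b h => Subtype.ext (PrimeSpectrum.ext (congrArg Subtype.val h))
  choose Y r hY hft hqf y x hy hx hyx using fun η : M => H η.1 η.2
  haveI := hY
  let R := Sigma.desc r
  haveI : IsAffine (∐ Y) := inferInstance
  have hR : ∀ η, Sigma.ι Y η ≫ R ≫ g = r η ≫ g := fun η => by rw [Sigma.ι_desc_assoc]
  haveI : LocallyOfFiniteType (R ≫ g) := by
    rw [IsZariskiLocalAtSource.iff_of_openCover (P := @LocallyOfFiniteType) (sigmaOpenCover Y)]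
    intro η
    exact (hR η).symm ▸ hft η
  haveI : LocallyQuasiFinite (R ≫ g) := by
    rw [IsZariskiLocalAtSource.iff_of_openCover (P := @LocallyQuasiFinite) (sigmaOpenCover Y)]
    intro η
    exact (hR η).symm ▸ hqf η
  obtain ⟨Z, i, hfin, hpts⟩ := exists_finite_part (R ≫ g)
  refine ⟨Z, i ≫ R, by rw [Category.assoc]; exact hfin, ⟨fun p => ?_⟩⟩
  haveI := hfin
  obtain ⟨P, hP, hPp⟩ := Ideal.exists_minimalPrimes_le (I := ⊥) (J := (p : PrimeSpectrum C).asIdeal) bot_le
  let η : M := ⟨(⟨P, hP.1.1⟩ : PrimeSpectrum C), hP⟩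
  have hxη : (R ≫ g) (Sigma.ι Y η (x η)) = closedPoint C := by
    rw [← Scheme.Hom.comp_apply, hR, hx]
  obtain ⟨z, hz⟩ := hpts _ (Sigma.ι Y η (y η)) hxη ((hyx η).map (Sigma.ι Y η).continuous)
  have hmem : η.1 ∈ Set.range ((i ≫ R) ≫ g) := by
    refine ⟨z, ?_⟩
    rw [Category.assoc, Scheme.Hom.comp_apply, hz, ← Scheme.Hom.comp_apply, hR, hy]
  have hsp : η.1 ⤳ p := (PrimeSpectrum.le_iff_specializes (η.1 : PrimeSpectrum C) p).1 hPp
  haveI : IsFinite ((i ≫ R) ≫ g) := by rw [Category.assoc]; exact hfin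
  exact hsp.mem_closed ((i ≫ R) ≫ g).isClosedMap.isClosed_range hmem

variable {C : CommRingCat.{u}} [IsLocalRing C] [IsNoetherianRing C] {S' : Scheme.{u}} {g : S' ⟶ Spec C}

theorem exists_specializes_of_univSubmersive (hg : SGA1.UnivSubmersive g) (η : Spec C) :
    ∃ t x : S', g t = η ∧ g x = closedPoint C ∧ t ⤳ x := by
  by_cases hne : (closedPoint C : Spec C) = η
  · obtain ⟨t, ht⟩ := (hg _ _ _ (IsPullback.id_vert g)).surjective η
    exact ⟨t, t, ht, ht.trans hne.symm, specializes_rfl⟩
  haveI : IsLocallyNoetherian (Spec C) := inferInstance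
  obtain ⟨A, h, hA, hh, hgen⟩ := Groth.Agent.S4450.result (𝟙 (Spec C)) η (closedPoint C)
    ((specializes_closedPoint (η : PrimeSpectrum C))) hne
  haveI : IsDiscreteValuationRing (CommRingCat.of A) := hA
  obtain ⟨q, p, hqp, hq, hp⟩ := Groth.Agent.HTopCov.exists_specializes_of_isQuotientMap (R := CommRingCat.of A)
    (pullback.fst h g) (hg _ _ _ (IsPullback.of_hasPullback h g))
  let z : PrimeSpectrum ((Spec C).residueField η) := ⊥
  have e' : (Spec.map (CommRingCat.ofHom A.subtype)) z = (⊥ : PrimeSpectrum A) :=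
    PrimeSpectrum.ext ((RingHom.injective_iff_ker_eq_bot A.subtype).mp Subtype.val_injective)
  have h0 : h (⊥ : PrimeSpectrum A) = η := by
    rw [← e', ← Scheme.Hom.comp_apply, hgen, Category.comp_id]
    exact Scheme.fromSpecResidueField_apply _ _
  refine ⟨pullback.snd h g q, pullback.snd h g p, ?_, ?_, hqp.map (pullback.snd h g).continuous⟩
  · rw [← Scheme.Hom.comp_apply, ← pullback.condition, Scheme.Hom.comp_apply, hq, h0]
  · rw [← Scheme.Hom.comp_apply, ← pullback.condition, Scheme.Hom.comp_apply, hp]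
    exact hh

theorem qf_pieces (hg : SGA1.UnivSubmersive g) [LocallyOfFiniteType g] [LocallyQuasiFinite g] (η : Spec C) :
    ∃ (Y : Scheme.{u}) (r : Y ⟶ S'), IsAffine Y ∧ LocallyOfFiniteType (r ≫ g) ∧ LocallyQuasiFinite (r ≫ g) ∧
      ∃ y x : Y, (r ≫ g) y = η ∧ (r ≫ g) x = closedPoint C ∧ y ⤳ x := by
  obtain ⟨t, x, ht, hx, htx⟩ := exists_specializes_of_univSubmersive hg η
  obtain ⟨V, hV, hxV, -⟩ := exists_isAffineOpen_mem_and_subset (x := x) (U := ⊤) trivial
  exact ⟨V, V.ι, hV, inferInstance, inferInstance, ⟨t, htx.mem_open V.2 hxV⟩, ⟨x, hxV⟩, ht, hx,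
    V.ι.isOpenEmbedding.isInducing.specializes_iff.1 htx⟩

/-- Quasi-sections through the minimal points. -/
theorem univOpen_pieces [LocallyOfFiniteType g] [QuasiCompact g] [Surjective g] [UniversallyOpen g] (η : Spec C) :
    ∃ (Y : Scheme.{u}) (r : Y ⟶ S'), IsAffine Y ∧ LocallyOfFiniteType (r ≫ g) ∧ LocallyQuasiFinite (r ≫ g) ∧
      ∃ y x : Y, (r ≫ g) y = η ∧ (r ≫ g) x = closedPoint C ∧ y ⤳ x := by
  let P := (η : PrimeSpectrum C).asIdeal
  let Q := C ⧸ P
  let iC : Spec (CommRingCat.of Q) ⟶ Spec C := Spec.map (CommRingCat.ofHom (Ideal.Quotient.mk P))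
  haveI : IsClosedImmersion iC := IsClosedImmersion.spec_of_surjective _ Ideal.Quotient.mk_surjective
  haveI : IrreducibleSpace ↥(Spec (CommRingCat.of Q)) := inferInstanceAs (IrreducibleSpace (PrimeSpectrum Q))
  haveI : IsLocalRing Q := .of_surjective' (Ideal.Quotient.mk P) Ideal.Quotient.mk_surjective
  let f := pullback.snd g iC
  haveI : IsLocallyNoetherian (Spec (CommRingCat.of Q)) := inferInstance
  haveI : UniversallyOpen f := MorphismProperty.pullback_snd g iC ‹UniversallyOpen g›
  haveI : CompactSpace ↥(pullback g iC) := QuasiCompact.compactSpace_of_compactSpace f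
  have hcQ : IsClosed ({closedPoint Q} : Set (PrimeSpectrum Q)) :=
    (PrimeSpectrum.isClosed_singleton_iff_isMaximal _).2 (maximalIdeal.isMaximal Q)
  obtain ⟨a, ha, hac⟩ := (hcQ.preimage f.continuous).exists_closed_singleton (f.surjective (closedPoint Q))
  have hfa : f a = closedPoint Q := ha
  obtain ⟨T, i, himm, hirr, -, ⟨t, hit⟩, hlft, hlqf, -, hdom⟩ :=
    Groth.Agent.UnivOpen.exists_quasiSection_of_univOpen f (x := a)
      (fun z _ U hU => f.isOpenMap.image_mem_nhds hU)
      (fun x' _ hax => by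
        have := hax.mem_closed hac rfl
        exact this)
  obtain ⟨W, hW, htW, -⟩ := exists_isAffineOpen_mem_and_subset (x := t) (U := ⊤) trivial
  let ξ := genericPoint T
  have hξt : ξ ⤳ t := (genericPoint_spec T).specializes (Set.mem_univ _)
  have hfξ : (i ≫ f) ξ = genericPoint ↥(Spec (CommRingCat.of Q)) := by
    refine ((genericPoint_spec T).image (i ≫ f).continuous).eq ?_
    show closure {genericPoint ↥(Spec (CommRingCat.of Q))} = closure ((i ≫ f) '' Set.univ)
    rw [Set.image_univ, (genericPoint_spec _).def, (i ≫ f).denseRange.closure_range]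
  have hbot : iC (genericPoint ↥(Spec (CommRingCat.of Q))) = η := by
    have h1 : genericPoint ↥(Spec (CommRingCat.of Q)) = (⊥ : PrimeSpectrum Q) :=
      (genericPoint_spec _).eq (by
        show closure {(⊥ : PrimeSpectrum Q)} = Set.univ
        rw [PrimeSpectrum.closure_singleton]
        exact PrimeSpectrum.zeroLocus_bot)
    rw [h1]
    exact PrimeSpectrum.ext (Ideal.mk_ker (I := P))
  let r := W.ι ≫ i ≫ pullback.fst g iC
  have hr : r ≫ g = W.ι ≫ (i ≫ f) ≫ iC := by simp only [r, f, Category.assoc, pullback.condition]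
  haveI := hlft
  haveI := hlqf
  refine ⟨W, r, hW, by rw [hr]; infer_instance, by rw [hr]; infer_instance,
    ⟨ξ, hξt.mem_open W.2 htW⟩, ⟨t, htW⟩, ?_, ?_, W.ι.isOpenEmbedding.isInducing.specializes_iff.1 hξt⟩
  · rw [hr, Scheme.Hom.comp_apply, Scheme.Hom.comp_apply]
    exact (congrArg iC hfξ).trans hbot
  · rw [hr, Scheme.Hom.comp_apply, Scheme.Hom.comp_apply]
    refine (congrArg iC ((Scheme.Hom.comp_apply i f t).trans ((congrArg f hit).trans hfa))).trans ?_
    haveI : IsLocalHom (Ideal.Quotient.mk P) := .of_surjective _ Ideal.Quotient.mk_surjective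
    exact IsLocalRing.comap_closedPoint (Ideal.Quotient.mk P)

theorem univSubmersive_of_univOpen {X Y : Scheme.{u}} (f : X ⟶ Y) [UniversallyOpen f] [Surjective f] :
    SGA1.UnivSubmersive f := by
  intro X' Y' i₁ i₂ f' sq
  haveI : UniversallyOpen f' := MorphismProperty.of_isPullback sq.flip ‹UniversallyOpen f›
  haveI : Surjective f' := MorphismProperty.of_isPullback sq.flip ‹Surjective f›
  exact f'.isOpenMap.isQuotientMap f'.continuous f'.surjective

/-- A scheme descending a quasi-compact one along a surjective morphism is quasi-compact. -/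
theorem quasiCompact_of_isMdl {S S' : Scheme.{u}} {g : S' ⟶ S} {D : SchDDFam (fun _ : PUnit.{1} => g)}
    (hg : SGA1.UnivSubmersive g) [QuasiCompact g] [QuasiCompact (D.obj PUnit.unit).hom] {S₁ : Scheme.{u}}
    {j : S₁ ⟶ S} {U : Scheme.{u}} {f : U ⟶ S₁}
    {u : pullback g (f ≫ j) ⟶ (D.obj PUnit.unit).left} (h : IsMdl D j f u) : QuasiCompact f := by
  haveI := h.iso
  let p := pullback.snd g (f ≫ j)
  haveI := surjective_snd hg (f ≫ j)
  have e : p ≫ f = th f u (hw_of_hu h.hu) ≫ pullback.snd ((D.obj PUnit.unit).hom ≫ g) j :=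
    (pullback.lift_snd _ _ _).symm
  haveI : QuasiCompact (p ≫ f) := by rw [e]; infer_instance
  refine ⟨fun V hV hV' => ?_⟩
  have h1 : IsCompact ((p ≫ f) ⁻¹' V) := QuasiCompact.isCompact_preimage _ hV hV'
  have h2 := h1.image p.continuous
  rwa [show ((p ≫ f) ⁻¹' V) = p ⁻¹' (f ⁻¹' V) from Set.ext fun a => by simp only [Set.mem_preimage, Scheme.Hom.comp_apply],
    Set.image_preimage_eq _ p.surjective] at h2

/-- Effectivity from finite refinements over complete local rings. -/
theorem effective_of_refinements {S S' : Scheme.{u}} [IsLocallyNoetherian S] (g : S' ⟶ S)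
    (hg : SGA1.UnivSubmersive g) [LocallyOfFiniteType g] [QuasiCompact g]
    (D : SchDD g) [QuasiCompact D.obj.hom] [IsSeparated D.obj.hom] [Etale D.obj.hom]
    (H : ∀ (C : CommRingCat.{u}) [IsNoetherianRing C] [HenselianLocalRing C] (q : Spec C ⟶ S),
      ∃ (Z : Scheme.{u}) (h : Z ⟶ pullback g q), IsFinite (h ≫ pullback.snd g q) ∧
        Surjective (h ≫ pullback.snd g q)) :
    ∃ U : Over S, QuasiCompact U.hom ∧ IsSeparated U.hom ∧ Etale U.hom ∧ Nonempty ((toDD g).obj U ≅ D) := by
  haveI : LocallyOfFinitePresentation g := inferInstance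
  haveI : IsLocallyNoetherian S' := LocallyOfFiniteType.isLocallyNoetherian g
  haveI : QuasiSeparated g := QuasiSeparated.of_comp g (terminal.from S)
  let D' := (SchDDFam.ofSchDD.{0} g).obj D
  haveI : Etale (D'.obj PUnit.unit).hom := inferInstanceAs (Etale D.obj.hom)
  haveI : QuasiCompact (D'.obj PUnit.unit).hom := inferInstanceAs (QuasiCompact D.obj.hom)
  haveI : IsSeparated (D'.obj PUnit.unit).hom := inferInstanceAs (IsSeparated D.obj.hom)
  obtain ⟨U, hU, ⟨I⟩⟩ := (Groth.Agent.S5127.result g hg D').mpr fun B _ _ _ _ _ q => by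
    haveI : HenselianLocalRing (CommRingCat.of B) := henselian_of_complete B
    haveI : IsNoetherianRing (CommRingCat.of B) := ‹IsNoetherianRing B›
    obtain ⟨Z, h, hfin, hsurj⟩ := H (CommRingCat.of B) q
    let DC := Dj q D'
    let g₀ := h ≫ pullback.snd g q
    haveI : IsFinite g₀ := hfin
    haveI : Surjective g₀ := hsurj
    haveI : Etale (DC.obj PUnit.unit).hom :=
      inferInstanceAs (Etale (pullback.snd (D'.obj PUnit.unit).hom (pullback.fst g q)))
    haveI : QuasiCompact (DC.obj PUnit.unit).hom :=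
      inferInstanceAs (QuasiCompact (pullback.snd (D'.obj PUnit.unit).hom (pullback.fst g q)))
    haveI : IsSeparated (DC.obj PUnit.unit).hom :=
      inferInstanceAs (IsSeparated (pullback.snd (D'.obj PUnit.unit).hom (pullback.fst g q)))
    let D₀ := Dr h (rfl : h ≫ pullback.snd g q = g₀) DC
    haveI : Etale (D₀.obj PUnit.unit).hom := inferInstanceAs (Etale (pullback.snd (DC.obj PUnit.unit).hom h))
    haveI : QuasiCompact (D₀.obj PUnit.unit).hom :=
      inferInstanceAs (QuasiCompact (pullback.snd (DC.obj PUnit.unit).hom h))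
    haveI : IsSeparated (D₀.obj PUnit.unit).hom :=
      inferInstanceAs (IsSeparated (pullback.snd (DC.obj PUnit.unit).hom h))
    obtain ⟨V, hV, hr⟩ := effective_finite g₀ D₀
    exact ⟨V, hV, iso_of_isRep (isRep_of_refine (univSubmersive_of_closed_surjective g₀) hr)⟩
  haveI := hU
  obtain ⟨u, hu⟩ := exists_isMdl (isRepOn_id_of_isRep (isRep_of_iso I (isRep_canonical hg U)))
  exact ⟨U, quasiCompact_of_isMdl hg hu, isSeparated_of_isMdl hg hu, hU, ⟨(SchDDFam.toSchDD g).mapIso I⟩⟩

end Groth.Agent.EtRep9
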