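import Groth.Agent.EtRep9.KPt
import Groth.Agent.EtRep9.Nbhd
import Groth.Agent.LocImmLib.ZMT
import Groth.Agent.ProperComp7.Main

/-! Sections of etale schemes over schemes proper over a complete local ring extend from the closed fibre. -/

set_option autoImplicit false
set_option backward.isDefEq.respectTransparency false
set_option backward.isDefEq.respectTransparency.types false
set_option linter.style.haveILetI false
universe u

open CategoryTheory CategoryTheory.Limits AlgebraicGeometry IsLocalRing TopologicalSpace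

noncomputable section

namespace Groth.Agent.EtRep9

open Groth.Agent.EtFound (cpt cpt_base)

variable (C : Type u) [CommRing C] [HenselianLocalRing C] [IsNoetherianRing C]
  [IsAdicComplete (maximalIdeal C) C] [IsAlgClosed (ResidueField C)]

/-- A morphism on the closed fibre extends uniquely to a section. -/
theorem exists_section_proper {W E : Scheme.{u}} (f : W ⟶ Spec (CommRingCat.of C)) [IsProper f] (π : E ⟶ W)
    [Etale π] [IsSeparated π] [QuasiCompact π] (z : pullback f (cpt C) ⟶ E)
    (hz : z ≫ π = pullback.fst f (cpt C)) :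
    ∃ s : W ⟶ E, s ≫ π = 𝟙 W ∧ pullback.fst f (cpt C) ≫ s = z := by
  haveI : IsClosedImmersion (cpt C) :=
    IsClosedImmersion.spec_of_surjective _ Ideal.Quotient.mk_surjective
  haveI : CompactSpace W := QuasiCompact.compactSpace_of_compactSpace f
  haveI : QuasiSeparatedSpace W := quasiSeparatedSpace_of_quasiSeparated f
  haveI : LocallyQuasiFinite π := inferInstance
  obtain ⟨T, j, ρ, hj, -, hρ, hjρ⟩ := Groth.Agent.LocImmLib.exists_openImmersion_finite π
  haveI := hj; haveI := hρ
  let fT := ρ ≫ f
  haveI : IsProper fT := inferInstance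
  let P := pullback f (cpt C)
  let i := pullback.fst f (cpt C)
  let PT := pullback fT (cpt C)
  let iT := pullback.fst fT (cpt C)
  let PE := pullback (π ≫ f) (cpt C)
  let zE : P ⟶ PE := pullback.lift z (pullback.snd f (cpt C)) (by rw [reassoc_of% hz]; exact pullback.condition)
  let jE : PE ⟶ PT := pullback.map _ _ _ _ j (𝟙 _) (𝟙 _) (by simp [fT, reassoc_of% hjρ]) (by simp)
  let zT : P ⟶ PT := zE ≫ jE
  have hzT : zT ≫ iT = z ≫ j := by
    show (zE ≫ jE) ≫ pullback.fst fT (cpt C) = _
    simp [zE, jE]
  -- the image is clopen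
  let mE : PE ⟶ P := pullback.lift (pullback.fst (π ≫ f) (cpt C) ≫ π) (pullback.snd _ _)
    (by rw [Category.assoc]; exact pullback.condition)
  let mT : PT ⟶ P := pullback.lift (pullback.fst fT (cpt C) ≫ ρ) (pullback.snd _ _)
    (by rw [Category.assoc]; exact pullback.condition)
  have hmE : zE ≫ mE = 𝟙 P := by
    refine pullback.hom_ext ?_ ?_ <;> simp [zE, mE, hz]
  have hmT : zT ≫ mT = 𝟙 P := by
    refine pullback.hom_ext ?_ ?_
    · rw [Category.assoc, pullback.lift_fst, Category.id_comp, ← Category.assoc, hzT, Category.assoc, hjρ, hz]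
    · simp [zT, zE, jE, mT]
  have hV : IsClopen (Set.range zT) := by
    refine ⟨?_, ?_⟩
    · haveI : IsSeparated mT := by
        haveI : IsSeparated (mT ≫ pullback.snd f (cpt C)) := by
          rw [pullback.lift_snd]; infer_instance
        exact IsSeparated.of_comp mT (pullback.snd f (cpt C))
      haveI : IsClosedImmersion (zT ≫ mT) := by rw [hmT]; infer_instance
      haveI : IsClosedImmersion zT := IsClosedImmersion.of_comp zT mT
      exact zT.isClosedEmbedding.isClosed_range
    · haveI : IsOpenImmersion jE := by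
        have sq : IsPullback jE (pullback.fst (π ≫ f) (cpt C)) iT j := by
          refine (IsPullback.of_bot (h₁₁ := pullback.fst (π ≫ f) (cpt C)) (v₂₁ := pullback.snd fT (cpt C))
            (v₂₂ := fT) ?_ (pullback.lift_fst _ _ _).symm (IsPullback.of_hasPullback fT (cpt C))).flip
          rw [show jE ≫ pullback.snd fT (cpt C) = pullback.snd (π ≫ f) (cpt C) by simp [jE],
            show j ≫ fT = π ≫ f by simp [fT, reassoc_of% hjρ]]
          exact IsPullback.of_hasPullback (π ≫ f) (cpt C)
        exact MorphismProperty.of_isPullback sq.flip hj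
      have sqE : IsPullback (pullback.fst (π ≫ f) (cpt C)) mE π (pullback.fst f (cpt C)) :=
        IsPullback.of_bot (by
          rw [pullback.lift_snd]; exact IsPullback.of_hasPullback _ _) (pullback.lift_fst _ _ _).symm
          (IsPullback.of_hasPullback f (cpt C))
      haveI : Etale mE := MorphismProperty.of_isPullback sqE inferInstance
      haveI : Etale zE := MorphismProperty.of_postcomp (W := @Etale) (W' := @Etale) zE mE inferInstance
        (by rw [hmE]; infer_instance)
      haveI : Mono (zE ≫ mE) := by rw [hmE]; infer_instance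
      haveI : Mono zE := mono_of_mono zE mE
      haveI : IsOpenImmersion zE := IsOpenImmersion.of_flat_of_mono zE
      exact zT.isOpenEmbedding.isOpen_range
  obtain ⟨U, ⟨hU, hUV⟩, -⟩ := Groth.Agent.ProperComp7.exists_lift_clopen (I := maximalIdeal C) fT _ hV
  have hUV' : iT ⁻¹' U = Set.range zT := hUV
  -- points over the closed point
  have hfib : ∀ t : T, fT t = closedPoint C → ∃ p, iT p = t := fun t ht => by
    obtain ⟨p, hp, -⟩ := Scheme.Pullback.exists_preimage_pullback (f := fT) (g := cpt C) t default
      (ht.trans (cpt_base C default).symm)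
    exact ⟨p, hp⟩
  have hUj : U ⊆ Set.range j := fun t ht => by
    by_contra hn
    obtain ⟨p, hp, hpm⟩ := exists_kpt_mem C fT (hU.1.inter j.isOpenEmbedding.isOpen_range.isClosed_compl)
      ⟨t, ht, hn⟩
    obtain ⟨q, hq⟩ := hfib (p default) (by rw [← Scheme.Hom.comp_apply, hp, cpt_base])
    rw [← hq] at hpm
    obtain ⟨w, rfl⟩ : q ∈ Set.range zT := hUV' ▸ hpm.1
    exact hpm.2 ⟨z w, by rw [← Scheme.Hom.comp_apply, ← hzT, Scheme.Hom.comp_apply]⟩
  let UO : T.Opens := ⟨U, hU.2⟩
  haveI : IsClosedImmersion UO.ι := .of_isPreimmersion _ (by rw [Scheme.Opens.range_ι]; exact hU.1)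
  have hl : Set.range UO.ι ⊆ Set.range j := by rw [Scheme.Opens.range_ι]; exact hUj
  let l := IsOpenImmersion.lift j UO.ι hl
  have hlj : l ≫ j = UO.ι := IsOpenImmersion.lift_fac _ _ _
  haveI : IsOpenImmersion (l ≫ j) := by rw [hlj]; infer_instance
  haveI : IsOpenImmersion l := IsOpenImmersion.of_comp l j
  let r := l ≫ π
  have hr : r = UO.ι ≫ ρ := by show l ≫ π = _; rw [← hjρ, reassoc_of% hlj]
  haveI : IsFinite r := by rw [hr]; infer_instance
  haveI : Etale r := inferInstance
  let z' : P ⟶ UO := IsOpenImmersion.lift UO.ι (zT ≫ iT) (by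
    rintro _ ⟨w, rfl⟩
    rw [Scheme.Opens.range_ι, Scheme.Hom.comp_apply]
    have : zT w ∈ iT ⁻¹' U := hUV'.ge ⟨w, rfl⟩
    exact this)
  have hz'ι : z' ≫ UO.ι = zT ≫ iT := IsOpenImmersion.lift_fac _ _ _
  have hz'l : z' ≫ l = z := by rw [← cancel_mono j, Category.assoc, hlj, hz'ι, hzT]
  have hz'r : z' ≫ r = i := by rw [← Category.assoc, hz'l, hz]
  haveI : Surjective r := by
    refine ⟨fun w => by_contra fun hw => ?_⟩
    obtain ⟨p, hp, hpm⟩ := exists_kpt_mem C f r.isOpenMap.isOpen_range.isClosed_compl ⟨w, hw⟩
    let p' : Spec (CommRingCat.of (ResidueField C)) ⟶ P := pullback.lift p (𝟙 _) (by rw [hp, Category.id_comp])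
    refine hpm ⟨(p' ≫ z') default, ?_⟩
    rw [← Scheme.Hom.comp_apply, Category.assoc, hz'r, pullback.lift_fst]
  haveI : Surjective (pullback.diagonal r) := by
    refine ⟨fun w => by_contra fun hw => ?_⟩
    let fU := (pullback.fst r r ≫ r) ≫ f
    haveI : UniversallyClosed fU := inferInstance
    obtain ⟨p, hp, hpm⟩ := exists_kpt_mem C fU (pullback.diagonal r).isOpenEmbedding.isOpen_range.isClosed_compl
      ⟨w, hw⟩
    let a := p ≫ pullback.fst r r
    let b := p ≫ pullback.snd r r
    have ha : a ≫ r ≫ f = cpt C := by simpa only [a, fU, Category.assoc] using hp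
    have hb : b ≫ r ≫ f = cpt C := by rw [← ha]; simp only [a, b, Category.assoc, pullback.condition_assoc]
    -- both come from the closed fibre
    have key : ∀ (c : Spec (CommRingCat.of (ResidueField C)) ⟶ UO) (hc : c ≫ r ≫ f = cpt C),
        c = pullback.lift (c ≫ r) (𝟙 _) (by rw [Category.assoc, Category.id_comp]; exact hc) ≫ z' := by
      intro c hc
      refine kpt_ext C (r ≫ f) hc ?_ ?_
      · rw [Category.assoc, reassoc_of% hz'r, pullback.lift_fst_assoc, Category.assoc, hc]
      · obtain ⟨q, hq⟩ := hfib (UO.ι (c default)) (by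
          rw [← Scheme.Hom.comp_apply, ← Scheme.Hom.comp_apply, show c ≫ UO.ι ≫ fT = cpt C by
            rw [← hc, hr]; simp [fT], cpt_base])
        obtain ⟨v, rfl⟩ : q ∈ Set.range zT := hUV' ▸ (show iT q ∈ U from hq ▸ (c default).2)
        have hv : c default = z' v := UO.ι.isOpenEmbedding.injective (hq.symm.trans (by
          rw [← Scheme.Hom.comp_apply, ← Scheme.Hom.comp_apply, hz'ι]))
        rw [Scheme.Hom.comp_apply, hv]
        congr 1
        apply i.isClosedEmbedding.injective
        rw [← Scheme.Hom.comp_apply (pullback.lift _ _ _) i, pullback.lift_fst, Scheme.Hom.comp_apply, hv,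
          ← Scheme.Hom.comp_apply, hz'r]
    have hab : a = b := by
      rw [key a ha, key b hb]
      congr 2
      simp only [a, b, Category.assoc, pullback.condition]
    refine hpm ⟨a default, ?_⟩
    rw [← Scheme.Hom.comp_apply, show a ≫ pullback.diagonal r = p from
      pullback.hom_ext (by simp [a]) (by simp only [Category.assoc, pullback.diagonal_snd, Category.comp_id]; exact hab)]
  haveI : IsIso (pullback.diagonal r) := (isIso_iff_isOpenImmersion_and_surjective _).2 ⟨inferInstance, inferInstance⟩
  haveI : Mono r := (pullback.isIso_diagonal_iff r).1 inferInstance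
  haveI : IsOpenImmersion r := IsOpenImmersion.of_flat_of_mono r
  haveI : IsIso r := (isIso_iff_isOpenImmersion_and_surjective _).2 ⟨inferInstance, inferInstance⟩
  refine ⟨inv r ≫ l, by rw [Category.assoc, show l ≫ π = r from rfl, IsIso.inv_hom_id], ?_⟩
  show i ≫ inv r ≫ l = z
  rw [← hz'r, Category.assoc, IsIso.hom_inv_id_assoc, hz'l]

end Groth.Agent.EtRep9
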