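import Groth.Agent.EtRep9.EffFinite
import Groth.Agent.EtRep9.ProperSection
import Groth.Agent.EtRep9.FiniteRefine

/-! Proper surjective morphisms are of effective descent for etale separated schemes over noetherian bases. -/

set_option autoImplicit false
set_option backward.isDefEq.respectTransparency false
set_option backward.isDefEq.respectTransparency.types false
set_option linter.style.haveILetI false
universe u

open CategoryTheory CategoryTheory.Limits AlgebraicGeometry IsLocalRing Desc

noncomputable section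

namespace Groth.Agent.EtRep9

open Groth.Agent.DescLib
open Groth.Agent.EtFound (cpt cpt_base)

/-- Compatible families over the closed point extend over a complete local ring. -/
theorem exists_compat_lift_proper (C : Type u) [CommRing C] [HenselianLocalRing C] [IsNoetherianRing C]
    [IsAdicComplete (maximalIdeal C) C] [IsAlgClosed (ResidueField C)]
    {S' : Scheme.{u}} {g : S' ⟶ Spec (CommRingCat.of C)} [IsProper g]
    {D : SchDDFam (fun _ : PUnit.{1} => g)} [Etale (D.obj PUnit.unit).hom] [QuasiCompact (D.obj PUnit.unit).hom]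
    [IsSeparated (D.obj PUnit.unit).hom] (γ : Compat D (cpt C)) :
    ∃ c : Compat D (𝟙 (Spec (CommRingCat.of C))), c.res (cpt C) (cpt C) (Category.comp_id _) = γ := by
  let E := D.obj PUnit.unit
  let z := γ.pt (pullback.snd g (cpt C)) (i := PUnit.unit) (pullback.fst g (cpt C)) pullback.condition
  obtain ⟨s, hs, hsz⟩ := exists_section_proper C g E.hom z.1 z.2
  have hsp : ∀ (p : Spec (CommRingCat.of (ResidueField C)) ⟶ S') (hp : p ≫ g = cpt C),
      p ≫ s = (γ.pt (𝟙 _) (i := PUnit.unit) p (by rw [Category.id_comp, hp])).1 := by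
    intro p hp
    let p' := pullback.lift (f := g) (g := cpt C) p (𝟙 _) (by rw [hp, Category.id_comp])
    have e : p' ≫ pullback.fst g (cpt C) = p := pullback.lift_fst _ _ _
    refine Eq.trans ?_ (γ.nat p' _ _ pullback.condition (𝟙 _) p (pullback.lift_snd _ _ _) e _).symm
    show p ≫ s = p' ≫ z.1
    rw [← hsz, reassoc_of% e]
  let a₁ := pullback.fst g g
  let a₂ := pullback.snd g g
  let v : Lifts E a₁ := ⟨a₁ ≫ s, by rw [Category.assoc, hs, Category.comp_id]⟩
  have key : (D.φ (i := PUnit.unit) (j := PUnit.unit) a₁ a₂ pullback.condition v).1 = a₂ ≫ s := by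
    haveI : UniversallyClosed (a₁ ≫ g) := inferInstance
    refine hom_ext_kpt C (a₁ ≫ g) E.hom ?_ fun p hp => ?_
    · rw [(D.φ (i := PUnit.unit) (j := PUnit.unit) a₁ a₂ pullback.condition v).2, Category.assoc, hs, Category.comp_id]
    · have h1 : (p ≫ a₁) ≫ g = cpt C := by rw [Category.assoc]; exact hp
      have h2 : (p ≫ a₂) ≫ g = cpt C := by rw [Category.assoc, ← pullback.condition]; exact hp
      rw [← D.φ_natural p a₁ a₂ pullback.condition (p ≫ a₁) (p ≫ a₂) rfl rfl (h1.trans h2.symm) v
        (γ.pt (𝟙 _) (i := PUnit.unit) (p ≫ a₁) (by rw [Category.id_comp, h1]))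
        (((hsp (p ≫ a₁) h1).symm).trans (Category.assoc _ _ _)),
        γ.comp (𝟙 _) (i := PUnit.unit) (k := PUnit.unit) (p ≫ a₁) (p ≫ a₂) _ (by rw [Category.id_comp, h2]),
        ← Category.assoc, hsp (p ≫ a₂) h2]
  refine ⟨{ pt := fun T t i y hy => ⟨y ≫ s, by rw [Category.assoc, hs, Category.comp_id]⟩
            nat := fun T T' r t i y hy t' y' hr hy' h' =>
              (congrArg (· ≫ s) hy'.symm).trans (Category.assoc r y s)
            comp := fun T t i k y y' hy hy' => ?_ }, ?_⟩
  · obtain ⟨⟩ := i
    obtain ⟨⟩ := k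
    refine Subtype.ext ?_
    let r : T ⟶ pullback g g := pullback.lift y y' (hy.trans hy'.symm)
    refine (D.φ_natural r a₁ a₂ pullback.condition y y' (pullback.lift_fst _ _ _) (pullback.lift_snd _ _ _) _ v _
      (by change y ≫ s = r ≫ a₁ ≫ s; rw [pullback.lift_fst_assoc])).trans ?_
    rw [key, pullback.lift_snd_assoc]
  · refine Compat.ext fun T t i y hy => ?_
    obtain ⟨⟩ := i
    refine Eq.trans ?_ (γ.nat (pullback.lift y t hy) _ _ pullback.condition t y (pullback.lift_snd _ _ _)
      (pullback.lift_fst _ _ _) hy).symm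
    show y ≫ s = pullback.lift y t hy ≫ z.1
    rw [← hsz, pullback.lift_fst_assoc]

theorem effective_proper_local : ∀ (n : ℕ) (R : CommRingCat.{u}) [IsLocalRing R] [IsNoetherianRing R],
    (maximalIdeal R).height < n → ∀ {S' : Scheme.{u}} (g : S' ⟶ Spec R) [IsProper g] [Surjective g]
      (D : SchDDFam (fun _ : PUnit.{1} => g)) [Etale (D.obj PUnit.unit).hom] [QuasiCompact (D.obj PUnit.unit).hom]
      [IsSeparated (D.obj PUnit.unit).hom],
      ∃ U : Over (Spec R), Etale U.hom ∧ IsRep D U := by
  intro n
  induction n with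
  | zero => intro R _ _ h; simp at h
  | succ n ih =>
    intro R _ _ hn S' g _ _ D _ _ _
    obtain ⟨C, _, _, φ, hφ, hhens, hcompl, halg, hht⟩ := exists_complete_cover R
    haveI : HenselianLocalRing C := hhens
    haveI : IsAlgClosed (ResidueField C) := halg
    haveI : IsAdicComplete (maximalIdeal C) C := hcompl
    let gC := pullback.snd g (Spec.map φ)
    let DC := Dj (Spec.map φ) D
    haveI : Etale (DC.obj PUnit.unit).hom :=
      inferInstanceAs (Etale (pullback.snd (D.obj PUnit.unit).hom (pullback.fst g (Spec.map φ))))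
    haveI : QuasiCompact (DC.obj PUnit.unit).hom :=
      inferInstanceAs (QuasiCompact (pullback.snd (D.obj PUnit.unit).hom (pullback.fst g (Spec.map φ))))
    haveI : IsSeparated (DC.obj PUnit.unit).hom :=
      inferInstanceAs (IsSeparated (pullback.snd (D.obj PUnit.unit).hom (pullback.fst g (Spec.map φ))))
    let W : (Spec C).Opens := punct C
    let gW := pullback.snd gC W.ι
    let DW := Dj W.ι DC
    haveI : Etale (DW.obj PUnit.unit).hom :=
      inferInstanceAs (Etale (pullback.snd (DC.obj PUnit.unit).hom (pullback.fst gC W.ι)))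
    haveI : QuasiCompact (DW.obj PUnit.unit).hom :=
      inferInstanceAs (QuasiCompact (pullback.snd (DC.obj PUnit.unit).hom (pullback.fst gC W.ι)))
    haveI : IsSeparated (DW.obj PUnit.unit).hom :=
      inferInstanceAs (IsSeparated (pullback.snd (DC.obj PUnit.unit).hom (pullback.fst gC W.ι)))
    haveI : IsLocallyNoetherian (Spec C) := inferInstance
    haveI : IsLocallyNoetherian (W : Scheme.{u}) := inferInstance
    haveI : LocallyOfFinitePresentation gW := inferInstance
    have hgW : SGA1.UnivSubmersive gW := univSubmersive_of_closed_surjective gW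
    obtain ⟨V, hV, ⟨I⟩⟩ := exists_descent_of_stalks hgW DW fun p => by
      let j := (W : Scheme.{u}).fromSpecStalk p
      haveI : Etale ((Dj j DW).obj PUnit.unit).hom :=
        inferInstanceAs (Etale (pullback.snd (DW.obj PUnit.unit).hom (pullback.fst gW j)))
      haveI : QuasiCompact ((Dj j DW).obj PUnit.unit).hom :=
        inferInstanceAs (QuasiCompact (pullback.snd (DW.obj PUnit.unit).hom (pullback.fst gW j)))
      haveI : IsSeparated ((Dj j DW).obj PUnit.unit).hom :=
        inferInstanceAs (IsSeparated (pullback.snd (DW.obj PUnit.unit).hom (pullback.fst gW j)))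
      have hlt := height_stalk_lt C W (fun x hx => hx) p
      rw [hht] at hlt
      have hn' : (maximalIdeal R).height ≤ n := by
        rw [Nat.cast_succ] at hn
        exact Order.le_of_lt_add_one hn
      obtain ⟨U, hU, h⟩ := ih ((W : Scheme.{u}).presheaf.stalk p) (lt_of_lt_of_le hlt hn') (pullback.snd gW j) (Dj j DW)
      exact ⟨U, hU, isRepOn_of_isRep h⟩
    haveI := hV
    obtain ⟨U, hU, h⟩ := exists_isRep_of_punct (g := gC) (D := DC) C
      (exists_compat_lift_proper C (g := gC) (D := DC)) (V := V)
      (isRepOn_of_isRep (isRep_of_iso I (isRep_canonical hgW V)))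
    haveI := hU
    have hj : IsRepOn D (Spec.map φ ≫ 𝟙 (Spec R)) U := by
      rw [Category.comp_id]
      exact isRepOn_of_isRep h
    obtain ⟨U', hU', h'⟩ := exists_isRepOn_of_flat_cover (univSubmersive_of_closed_surjective g) φ hφ (𝟙 (Spec R)) hj
    exact ⟨U', hU', isRep_of_isRepOn_id h'⟩

/-- Proper surjective morphisms are of effective descent for etale separated schemes over noetherian bases. -/
theorem effective_proper_noeth {S S' : Scheme.{u}} [IsLocallyNoetherian S] (g : S' ⟶ S) [IsProper g] [Surjective g]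
    (D : SchDD g) [QuasiCompact D.obj.hom] [IsSeparated D.obj.hom] [Etale D.obj.hom] :
    ∃ U : Over S, QuasiCompact U.hom ∧ IsSeparated U.hom ∧ Etale U.hom ∧ Nonempty ((toDD g).obj U ≅ D) := by
  have hg := univSubmersive_of_closed_surjective g
  haveI : LocallyOfFinitePresentation g := inferInstance
  let D' := (SchDDFam.ofSchDD.{0} g).obj D
  haveI : Etale (D'.obj PUnit.unit).hom := inferInstanceAs (Etale D.obj.hom)
  haveI : QuasiCompact (D'.obj PUnit.unit).hom := inferInstanceAs (QuasiCompact D.obj.hom)
  haveI : IsSeparated (D'.obj PUnit.unit).hom := inferInstanceAs (IsSeparated D.obj.hom)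
  obtain ⟨U, hU, ⟨I⟩⟩ := exists_descent_of_stalks hg D' fun a => by
    let q := S.fromSpecStalk a
    haveI : IsProper (pullback.snd g q) := inferInstance
    haveI : Surjective (pullback.snd g q) := MorphismProperty.pullback_snd _ _ inferInstance
    haveI : Etale ((Dj q D').obj PUnit.unit).hom :=
      inferInstanceAs (Etale (pullback.snd (D'.obj PUnit.unit).hom (pullback.fst g q)))
    haveI : QuasiCompact ((Dj q D').obj PUnit.unit).hom :=
      inferInstanceAs (QuasiCompact (pullback.snd (D'.obj PUnit.unit).hom (pullback.fst g q)))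
    haveI : IsSeparated ((Dj q D').obj PUnit.unit).hom :=
      inferInstanceAs (IsSeparated (pullback.snd (D'.obj PUnit.unit).hom (pullback.fst g q)))
    obtain ⟨n, hn⟩ := ENat.ne_top_iff_exists.1
      (Ideal.height_ne_top (maximalIdeal.isMaximal (S.presheaf.stalk a)).ne_top)
    obtain ⟨V, hV, hr⟩ := effective_proper_local (n + 1) (S.presheaf.stalk a)
      (by rw [← hn, Nat.cast_succ]; exact_mod_cast Nat.lt_succ_self n) (pullback.snd g q) (Dj q D')
    exact ⟨V, hV, isRepOn_of_isRep hr⟩
  haveI := hU
  obtain ⟨u, hu⟩ := exists_isMdl (isRepOn_id_of_isRep (isRep_of_iso I (isRep_canonical hg U)))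
  exact ⟨U, quasiCompact_of_isMdl hg hu, isSeparated_of_isMdl hg hu, hU,
    ⟨(SchDDFam.toSchDD g).mapIso I⟩⟩

end Groth.Agent.EtRep9
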