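import Groth.Agent.EtRep9.ActStage
import Groth.Agent.EtRep9.ActIso
import Groth.Agent.EtRep9.ProperLocal
import Groth.Agent.ConsPropLib.CoreProper
import Groth.Agent.ConsPropLib.NoethApprox
import Groth.Agent.ConsPropLib.Cores
import Groth.Agent.MorLib.DescendSep

/-! Descent of etale schemes along proper surjective morphisms of finite presentation. -/

set_option autoImplicit false
set_option backward.isDefEq.respectTransparency false
set_option backward.isDefEq.respectTransparency.types false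
set_option linter.style.haveILetI false
universe u

open CategoryTheory CategoryTheory.Limits AlgebraicGeometry Desc Groth.Agent.MorLib

noncomputable section

namespace Groth.Agent.EtRep9

variable {I : Type u} [SmallCategory I] [IsCofiltered I] (T : I ⥤ Scheme.{u}) (c : Cone T) (hc : IsLimit c)
  [∀ (i j : I) (f : i ⟶ j), IsAffineHom (T.map f)] [∀ i, CompactSpace (T.obj i)]
  [∀ i, QuasiSeparatedSpace (T.obj i)]

include hc in
/-- Models of a proper surjective morphism and of an etale separated scheme over it. -/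
theorem exists_models {S' E : Scheme.{u}} (g : S' ⟶ c.pt) [IsProper g] [Surjective g]
    [LocallyOfFinitePresentation g] (e : E ⟶ S') [Etale e] [IsSeparated e] [QuasiCompact e] :
    ∃ (i : I) (S₀ E₀ : Scheme.{u}) (g₀ : S₀ ⟶ T.obj i) (e₀ : E₀ ⟶ S₀) (qS : S' ⟶ S₀) (qE : E ⟶ E₀),
      IsPullback qS g g₀ (c.π.app i) ∧ IsPullback qE e e₀ qS ∧ IsProper g₀ ∧ Surjective g₀ ∧
      LocallyOfFinitePresentation g₀ ∧ Etale e₀ ∧ IsSeparated e₀ ∧ QuasiCompact e₀ := by
  haveI : ∀ {i j : I} (f : i ⟶ j), IsAffineHom (T.map f) := fun {i j} f => inferInstance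
  obtain ⟨i₀, G, f₀, q₀, hlfp, hqc, hqs, hsq⟩ := Groth.Agent.S0591.result T c hc S' g
  haveI := hlfp; haveI := hqc; haveI := hqs
  obtain ⟨i₁, φ₁, h₁⟩ := Desc.descend T c hc i₀ (P := @IsProper) (Q := @LocallyOfFinitePresentation)
    ConsPropLib.core_isProper f₀ inferInstance (Desc.of_two @IsProper hsq (IsPullback.of_hasPullback _ _) inferInstance)
  let m₁ := (ConsPropLib.IsModel.mk (c := c) (f := g) hlfp hqc hqs hsq).pushed φ₁
  let f₁ := pullback.snd f₀ (T.map φ₁)
  haveI : IsProper f₁ := h₁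
  haveI : LocallyOfFinitePresentation f₁ := inferInstance
  obtain ⟨i₂, φ₂, h₂⟩ := Desc.descend T c hc i₁ (P := @Surjective) (Q := @LocallyOfFinitePresentation)
    ConsPropLib.core_surjective f₁ inferInstance
    (Desc.of_two @Surjective m₁.sq (IsPullback.of_hasPullback _ _) inferInstance)
  let f₂ := pullback.snd f₁ (T.map φ₂)
  haveI : Surjective f₂ := h₂
  haveI : IsProper f₂ := MorphismProperty.pullback_snd _ _ inferInstance
  haveI : LocallyOfFinitePresentation f₂ := inferInstance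
  have sq₂ := (m₁.pushed φ₂).sq
  haveI : CompactSpace ↥(pullback f₁ (T.map φ₂)) := QuasiCompact.compactSpace_of_compactSpace f₂
  haveI : QuasiSeparatedSpace ↥(pullback f₁ (T.map φ₂)) := quasiSeparatedSpace_of_quasiSeparated f₂
  let B := BC.diag T f₂
  haveI : ∀ (j k : Over i₂) (f : j ⟶ k), IsAffineHom (B.map f) := fun _ _ f => BC.isAffineHom_map T f₂ f
  haveI : ∀ {j k : Over i₂} (f : j ⟶ k), IsAffineHom (B.map f) := fun f => BC.isAffineHom_map T f₂ f
  haveI : ∀ j, CompactSpace (B.obj j) := fun j => BC.compactSpace_obj T f₂ j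
  haveI : ∀ j, QuasiSeparatedSpace (B.obj j) := fun j => BC.quasiSeparatedSpace_obj T f₂ j
  let cB := BC.cone T f₂ sq₂
  have hcB := BC.isLimitCone T f₂ sq₂ hc
  haveI : LocallyOfFinitePresentation (show E ⟶ cB.pt from e) := inferInstanceAs (LocallyOfFinitePresentation e)
  haveI : QuasiCompact (show E ⟶ cB.pt from e) := ‹QuasiCompact e›
  haveI : QuasiSeparated (show E ⟶ cB.pt from e) := inferInstanceAs (QuasiSeparated e)
  obtain ⟨X₀, F, k₀, qF, klfp, kqc, kqs, ksq⟩ := Groth.Agent.S0591.result B cB hcB E e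
  haveI := klfp; haveI := kqc; haveI := kqs
  obtain ⟨X₁, ψ₁, hk₁⟩ := Desc.descend B cB hcB X₀ (P := @Etale) (Q := @LocallyOfFinitePresentation)
    Groth.Agent.LimSm.core_etale k₀ klfp
    (Desc.of_two @Etale ksq (IsPullback.of_hasPullback _ _) ‹Etale e›)
  let n₁ := (ConsPropLib.IsModel.mk (c := cB) (f := e) klfp kqc kqs ksq).pushed ψ₁
  haveI := n₁.qc; haveI := n₁.qs
  obtain ⟨X₂, ψ₂, hk₂⟩ := Desc.descend B cB hcB X₁ (P := @IsSeparated) (Q := (⊤ : MorphismProperty Scheme.{u}))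
    Desc.core_isSeparated (pullback.snd k₀ (B.map ψ₁)) trivial
    (Desc.of_two @IsSeparated n₁.sq (IsPullback.of_hasPullback _ _) ‹IsSeparated e›)
  let n₂ := n₁.pushed ψ₂
  haveI : Etale (pullback.snd k₀ (B.map ψ₁)) := hk₁
  refine ⟨X₂.left, _, _, pullback.snd f₂ (T.map X₂.hom), pullback.snd (pullback.snd k₀ (B.map ψ₁)) (B.map ψ₂),
    BC.proj T f₂ sq₂ X₂, n₁.push ψ₂, BC.isPullback_proj T f₂ sq₂ X₂, n₂.sq,
    MorphismProperty.pullback_snd _ _ inferInstance, MorphismProperty.pullback_snd _ _ inferInstance,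
    inferInstance, MorphismProperty.pullback_snd _ _ inferInstance, hk₂, n₂.qc⟩

include hc in
/-- A datum over the limit comes from an action at a stage. -/
theorem exists_action_stage {S' : Scheme.{u}} (g : S' ⟶ c.pt) [IsProper g] [Surjective g]
    [LocallyOfFinitePresentation g] (D : SchDD g) [QuasiCompact D.obj.hom] [IsSeparated D.obj.hom]
    [Etale D.obj.hom] :
    ∃ (i k : I) (φ : k ⟶ i) (S₀ E₀ : Scheme.{u}) (g₀ : S₀ ⟶ T.obj i) (e₀ : E₀ ⟶ S₀)
      (σ₀ : pullback (e₀ ≫ g₀) g₀ ⟶ E₀) (qS : S' ⟶ S₀) (qE : D.obj.left ⟶ E₀),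
      IsPullback qS g g₀ (c.π.app i) ∧ IsPullback qE D.obj.hom e₀ qS ∧ IsProper g₀ ∧ Surjective g₀ ∧
      Etale e₀ ∧ IsSeparated e₀ ∧ QuasiCompact e₀ ∧ ActEq g₀ e₀ σ₀ (T.map φ) ∧
      ∀ ⦃W : Scheme.{u}⦄ (r : W ⟶ pullback (e₀ ≫ g₀) g₀) (a : W ⟶ pullback (D.obj.hom ≫ g) g),
        r ≫ pullback.fst (e₀ ≫ g₀) g₀ = a ≫ pullback.fst (D.obj.hom ≫ g) g ≫ qE →
        r ≫ pullback.snd (e₀ ≫ g₀) g₀ = a ≫ pullback.snd (D.obj.hom ≫ g) g ≫ qS → r ≫ σ₀ = a ≫ sig D ≫ qE := by
  obtain ⟨i, S₀, E₀, g₀, e₀, qS, qE, sqS, sqE, hfin, hsurj, hlfp, het, hsep, hqc⟩ :=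
    exists_models T c hc g D.obj.hom
  haveI := hfin; haveI := hsurj; haveI := hlfp; haveI := het; haveI := hsep; haveI := hqc
  have sqA : IsPullback qE (D.obj.hom ≫ g) (e₀ ≫ g₀) (c.π.app i) := sqE.paste_vert sqS
  let hM := pullback.snd (e₀ ≫ g₀) g₀ ≫ g₀
  let qM : pullback (D.obj.hom ≫ g) g ⟶ pullback (e₀ ≫ g₀) g₀ :=
    pullback.map _ _ _ _ qE qS (c.π.app i) sqA.w.symm sqS.w.symm
  have sqM : IsPullback qM (pullback.snd (D.obj.hom ≫ g) g ≫ g) hM (c.π.app i) := by
    have h1 : IsPullback qM (pullback.snd (D.obj.hom ≫ g) g) (pullback.snd (e₀ ≫ g₀) g₀) qS := by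
      refine IsPullback.of_right ?_ (pullback.lift_snd _ _ _) (IsPullback.of_hasPullback (e₀ ≫ g₀) g₀)
      rw [show qM ≫ pullback.fst (e₀ ≫ g₀) g₀ = pullback.fst _ _ ≫ qE from pullback.lift_fst _ _ _, sqS.w]
      exact (IsPullback.of_hasPullback (D.obj.hom ≫ g) g).paste_horiz sqA
    exact h1.paste_vert sqS
  haveI : CompactSpace ↥(T.obj i) := inferInstance
  haveI : CompactSpace E₀ := QuasiCompact.compactSpace_of_compactSpace (e₀ ≫ g₀)
  haveI : QuasiSeparatedSpace E₀ := quasiSeparatedSpace_of_quasiSeparated (e₀ ≫ g₀)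
  haveI : CompactSpace ↥(pullback (e₀ ≫ g₀) g₀) := QuasiCompact.compactSpace_of_compactSpace hM
  haveI : QuasiSeparatedSpace ↥(pullback (e₀ ≫ g₀) g₀) := quasiSeparatedSpace_of_quasiSeparated hM
  obtain ⟨j, φ, fj, sX, sY, hfj, hX1, hX2, hY1, hY2, hs⟩ := Groth.Agent.S9218.result T c hc i hM (e₀ ≫ g₀)
    qM _ sqM qE _ sqA (sig D) (by rw [sig_hom_assoc])
  -- everything at stage `j`
  let τ := T.map φ
  let g₁ := pullback.snd g₀ τ
  let e₁ := pullback.snd e₀ (pullback.fst g₀ τ)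
  let qS₁ : S' ⟶ pullback g₀ τ := pullback.lift qS (g ≫ c.π.app j) (by rw [Category.assoc, c.w, sqS.w])
  let qE₁ : D.obj.left ⟶ pullback e₀ (pullback.fst g₀ τ) :=
    pullback.lift qE (D.obj.hom ≫ qS₁) (by rw [Category.assoc, pullback.lift_fst, sqE.w])
  have sqS₁ : IsPullback qS₁ g g₁ (c.π.app j) :=
    IsPullback.of_right (by rw [pullback.lift_fst, c.w]; exact sqS) (pullback.lift_snd _ _ _)
      (IsPullback.of_hasPullback g₀ τ)
  have sqE₁ : IsPullback qE₁ D.obj.hom e₁ qS₁ :=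
    IsPullback.of_right (by rw [pullback.lift_fst, pullback.lift_fst]; exact sqE) (pullback.lift_snd _ _ _)
      (IsPullback.of_hasPullback e₀ (pullback.fst g₀ τ))
  let u₀ : pullback (e₁ ≫ g₁) g₁ ⟶ pullback (e₀ ≫ g₀) g₀ := pullback.lift
    (pullback.fst (e₁ ≫ g₁) g₁ ≫ pullback.fst e₀ (pullback.fst g₀ τ))
    (pullback.snd (e₁ ≫ g₁) g₁ ≫ pullback.fst g₀ τ) (by
      simp only [Category.assoc, pullback.condition_assoc, pullback.condition (f := g₀)]
      exact pullback.condition_assoc τ)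
  let u : pullback (e₁ ≫ g₁) g₁ ⟶ pullback hM τ := pullback.lift u₀ (pullback.snd (e₁ ≫ g₁) g₁ ≫ g₁) (by
    simp only [u₀, hM, g₁, pullback.lift_snd_assoc, Category.assoc, pullback.condition])
  let v : pullback (e₀ ≫ g₀) τ ⟶ pullback e₀ (pullback.fst g₀ τ) := pullback.lift (pullback.fst _ _)
    (pullback.lift (pullback.fst (e₀ ≫ g₀) τ ≫ e₀) (pullback.snd _ _) (by rw [Category.assoc, pullback.condition]))
    (by rw [pullback.lift_fst])
  let σ₁ := u ≫ fj ≫ v
  have hv : v ≫ e₁ ≫ g₁ = pullback.snd (e₀ ≫ g₀) τ := by simp [v, e₁, g₁]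
  have hσ₁ : σ₁ ≫ e₁ ≫ g₁ = pullback.snd (e₁ ≫ g₁) g₁ ≫ g₁ := by
    show (u ≫ fj ≫ v) ≫ e₁ ≫ g₁ = _
    rw [Category.assoc, Category.assoc, hv, hfj]
    exact pullback.lift_snd _ _ _
  have hcompat : ∀ ⦃W : Scheme.{u}⦄ (r : W ⟶ pullback (e₁ ≫ g₁) g₁) (a : W ⟶ pullback (D.obj.hom ≫ g) g),
      r ≫ pullback.fst (e₁ ≫ g₁) g₁ = a ≫ pullback.fst (D.obj.hom ≫ g) g ≫ qE₁ →
      r ≫ pullback.snd (e₁ ≫ g₁) g₁ = a ≫ pullback.snd (D.obj.hom ≫ g) g ≫ qS₁ → r ≫ σ₁ = a ≫ sig D ≫ qE₁ := by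
    intro W r a h1 h2
    have e0 : r ≫ u = a ≫ sX := by
      refine pullback.hom_ext ?_ ?_
      · rw [Category.assoc, Category.assoc, hX1, pullback.lift_fst]
        refine pullback.hom_ext ?_ ?_
        · simp [u₀, qM, reassoc_of% h1, qE₁]
        · simp [u₀, qM, reassoc_of% h2, qS₁]
      · rw [Category.assoc, Category.assoc, hX2, pullback.lift_snd, reassoc_of% h2, pullback.lift_snd,
          Category.assoc]
    have e2 : sY ≫ v = qE₁ := by
      refine pullback.hom_ext ?_ ?_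
      · rw [Category.assoc, pullback.lift_fst, hY1, pullback.lift_fst]
      · rw [Category.assoc, pullback.lift_snd, pullback.lift_snd]
        refine pullback.hom_ext ?_ ?_
        · rw [Category.assoc, pullback.lift_fst, reassoc_of% hY1, sqE.w, Category.assoc, pullback.lift_fst]
        · rw [Category.assoc, pullback.lift_snd, hY2, Category.assoc, Category.assoc, pullback.lift_snd]
    show r ≫ u ≫ fj ≫ v = _
    rw [reassoc_of% e0, reassoc_of% hs, e2]
  haveI : IsProper g₁ := MorphismProperty.pullback_snd _ _ inferInstance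
  haveI : Etale e₁ := MorphismProperty.pullback_snd _ _ inferInstance
  haveI : QuasiCompact e₁ := MorphismProperty.pullback_snd _ _ inferInstance
  haveI : IsSeparated e₁ := MorphismProperty.pullback_snd _ _ inferInstance
  obtain ⟨k, ψ, H⟩ := exists_actEq_stage hc sqS₁ sqE₁ hσ₁ hcompat (sig_actEq D)
  exact ⟨j, k, ψ, _, _, g₁, e₁, σ₁, qS₁, qE₁, sqS₁, sqE₁, inferInstance,
    MorphismProperty.pullback_snd _ _ inferInstance, inferInstance, inferInstance, inferInstance, H, hcompat⟩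

/-- Over an affine base. -/
theorem effective_proper_affine {R : CommRingCat.{u}} {S' : Scheme.{u}} (g : S' ⟶ Spec R) [IsProper g]
    [Surjective g] [LocallyOfFinitePresentation g] (D : SchDD g) [QuasiCompact D.obj.hom]
    [IsSeparated D.obj.hom] [Etale D.obj.hom] :
    ∃ U : Over (Spec R), Etale U.hom ∧ Nonempty ((toDD g).obj U ≅ D) := by
  haveI : ∀ (i j : (Finset R)ᵒᵖ) (f : i ⟶ j), IsAffineHom ((ConsPropLib.NoethApprox.diagram R).map f) :=
    fun _ _ f => ConsPropLib.NoethApprox.isAffineHom_map R f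
  obtain ⟨i, k, φ, S₀, E₀, g₀, e₀, σ₀, qS, qE, sqS, sqE, hfin, hsurj, het, hsep, hqc, H, hσ⟩ :=
    exists_action_stage (ConsPropLib.NoethApprox.diagram R) (ConsPropLib.NoethApprox.cone R)
      (ConsPropLib.NoethApprox.isLimit R) g D
  haveI := hfin; haveI := hsurj; haveI := het; haveI := hsep; haveI := hqc
  let τ := (ConsPropLib.NoethApprox.diagram R).map φ
  let gk := pullback.snd g₀ τ
  haveI : IsProper gk := MorphismProperty.pullback_snd _ _ inferInstance
  haveI : Surjective gk := MorphismProperty.pullback_snd _ _ inferInstance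
  haveI : Etale (actDD H).obj.hom := MorphismProperty.pullback_snd _ _ inferInstance
  haveI : IsSeparated (actDD H).obj.hom := MorphismProperty.pullback_snd _ _ inferInstance
  haveI : QuasiCompact (actDD H).obj.hom := MorphismProperty.pullback_snd _ _ inferInstance
  haveI : IsLocallyNoetherian ((ConsPropLib.NoethApprox.diagram R).obj k) := inferInstance
  obtain ⟨Uk, -, -, hU, ⟨J⟩⟩ := effective_proper_noeth gk (actDD H)
  haveI := hU
  exact ⟨_, inferInstanceAs (Etale (pullback.snd Uk.hom ((ConsPropLib.NoethApprox.cone R).π.app k))),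
    nonempty_iso_of_actDD D sqS sqE hσ H _ ((ConsPropLib.NoethApprox.cone R).w φ) Uk J⟩

/-- Over any base. -/
theorem effective_proper_fp {S S' : Scheme.{u}} (g : S' ⟶ S) [IsProper g] [Surjective g]
    [LocallyOfFinitePresentation g] (D : SchDD g) [QuasiCompact D.obj.hom] [IsSeparated D.obj.hom]
    [Etale D.obj.hom] :
    ∃ U : Over S, QuasiCompact U.hom ∧ IsSeparated U.hom ∧ Etale U.hom ∧ Nonempty ((toDD g).obj U ≅ D) := by
  have hg := univSubmersive_of_closed_surjective g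
  let D' := (SchDDFam.ofSchDD.{0} g).obj D
  haveI : Etale (D'.obj PUnit.unit).hom := inferInstanceAs (Etale D.obj.hom)
  haveI : QuasiCompact (D'.obj PUnit.unit).hom := inferInstanceAs (QuasiCompact D.obj.hom)
  haveI : IsSeparated (D'.obj PUnit.unit).hom := inferInstanceAs (IsSeparated D.obj.hom)
  obtain ⟨U, hU, ⟨I⟩⟩ := exists_descent_of_stalks hg D' fun a => by
    let q := S.fromSpecStalk a
    let ga := pullback.snd g q
    haveI : IsProper ga := MorphismProperty.pullback_snd _ _ inferInstance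
    haveI : Surjective ga := MorphismProperty.pullback_snd _ _ inferInstance
    let Da := (SchDDFam.toSchDD ga).obj (Dj q D')
    haveI : Etale Da.obj.hom :=
      inferInstanceAs (Etale (pullback.snd (D'.obj PUnit.unit).hom (pullback.fst g q)))
    haveI : QuasiCompact Da.obj.hom :=
      inferInstanceAs (QuasiCompact (pullback.snd (D'.obj PUnit.unit).hom (pullback.fst g q)))
    haveI : IsSeparated Da.obj.hom :=
      inferInstanceAs (IsSeparated (pullback.snd (D'.obj PUnit.unit).hom (pullback.fst g q)))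
    obtain ⟨V, hV, ⟨J⟩⟩ := effective_proper_affine ga Da
    haveI := hV
    exact ⟨V, hV, isRepOn_of_isRep (isRep_of_iso ((SchDDFam.ofSchDD.{0} ga).mapIso J)
      (isRep_canonical (univSubmersive_snd hg q) V))⟩
  haveI := hU
  obtain ⟨u, hu⟩ := exists_isMdl (isRepOn_id_of_isRep (isRep_of_iso I (isRep_canonical hg U)))
  exact ⟨U, quasiCompact_of_isMdl hg hu, isSeparated_of_isMdl hg hu, hU, ⟨(SchDDFam.toSchDD g).mapIso I⟩⟩

/-- The finite case. -/
theorem effective_finite_fp {S S' : Scheme.{u}} (g : S' ⟶ S) [IsFinite g] [Surjective g]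
    [LocallyOfFinitePresentation g] (D : SchDD g) [QuasiCompact D.obj.hom] [IsSeparated D.obj.hom]
    [Etale D.obj.hom] :
    ∃ U : Over S, QuasiCompact U.hom ∧ IsSeparated U.hom ∧ Etale U.hom ∧ Nonempty ((toDD g).obj U ≅ D) :=
  effective_proper_fp g D

end Groth.Agent.EtRep9
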