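import Groth.Agent.EtRep9.Spread

/-! Compatible families glue along two opens. -/

set_option autoImplicit false
set_option backward.isDefEq.respectTransparency false
set_option backward.isDefEq.respectTransparency.types false
set_option linter.style.haveILetI false
universe u w

open CategoryTheory CategoryTheory.Limits AlgebraicGeometry Desc

noncomputable section

namespace Groth.Agent.EtRep9

open Groth.Agent.DescLib

section two

variable {A B X : Scheme.{u}} (a : A ⟶ X) (b : B ⟶ X) [IsOpenImmersion a] [IsOpenImmersion b]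

theorem hom_ext_two (hcov : ∀ x : X, x ∈ Set.range a ∨ x ∈ Set.range b) {Y : Scheme.{u}} {s t : X ⟶ Y}
    (ha : a ≫ s = a ≫ t) (hb : b ≫ s = b ≫ t) : s = t := by
  refine Scheme.Cover.hom_ext (Scheme.Cover.mkOfCovers (P := @IsOpenImmersion) (ULift.{u} Bool)
    (fun i => bif i.down then A else B) (fun i => match i with | ⟨true⟩ => a | ⟨false⟩ => b)
    (fun x => (hcov x).elim (fun ⟨y, hy⟩ => ⟨⟨true⟩, y, hy⟩) (fun ⟨y, hy⟩ => ⟨⟨false⟩, y, hy⟩))
    (fun i => match i with | ⟨true⟩ => ‹_› | ⟨false⟩ => ‹_›)) s t ?_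
  rintro ⟨_ | _⟩
  · exact hb
  · exact ha

theorem exists_glue_two (hcov : ∀ x : X, x ∈ Set.range a ∨ x ∈ Set.range b) {Y : Scheme.{u}}
    (fA : A ⟶ Y) (fB : B ⟶ Y)
    (h : ∀ ⦃T : Scheme.{u}⦄ (p : T ⟶ A) (q : T ⟶ B), p ≫ a = q ≫ b → p ≫ fA = q ≫ fB) :
    ∃ f : X ⟶ Y, a ≫ f = fA ∧ b ≫ f = fB := by
  let 𝒰 : X.OpenCover := Scheme.Cover.mkOfCovers (P := @IsOpenImmersion) (ULift.{u} Bool)
    (fun i => bif i.down then A else B) (fun i => match i with | ⟨true⟩ => a | ⟨false⟩ => b)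
    (fun x => (hcov x).elim (fun ⟨y, hy⟩ => ⟨⟨true⟩, y, hy⟩) (fun ⟨y, hy⟩ => ⟨⟨false⟩, y, hy⟩))
    (fun i => match i with | ⟨true⟩ => ‹_› | ⟨false⟩ => ‹_›)
  let φ : ∀ i : ULift.{u} Bool, 𝒰.X i ⟶ Y := fun i => match i with
    | ⟨true⟩ => fA
    | ⟨false⟩ => fB
  refine ⟨𝒰.glueMorphisms φ ?_, 𝒰.ι_glueMorphisms φ _ ⟨true⟩, 𝒰.ι_glueMorphisms φ _ ⟨false⟩⟩
  rintro ⟨_ | _⟩ ⟨_ | _⟩
  · exact congrArg (· ≫ fB) ((cancel_mono b).1 pullback.condition)
  · exact (h _ _ pullback.condition.symm).symm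
  · exact h _ _ pullback.condition
  · exact congrArg (· ≫ fA) ((cancel_mono a).1 pullback.condition)

theorem cover_pullback (hcov : ∀ x : X, x ∈ Set.range a ∨ x ∈ Set.range b) {T : Scheme.{u}} (t : T ⟶ X) (x : T) :
    x ∈ Set.range (pullback.fst t a) ∨ x ∈ Set.range (pullback.fst t b) := by
  rw [Scheme.Pullback.range_fst, Scheme.Pullback.range_fst]
  exact hcov (t x)

theorem cover_bcm (hcov : ∀ x : X, x ∈ Set.range a ∨ x ∈ Set.range b) {S S' : Scheme.{u}} (g : S' ⟶ S)
    {f : X ⟶ S} {fA : A ⟶ S} {fB : B ⟶ S} (ha : a ≫ f = fA) (hb : b ≫ f = fB) (x : ↥(pullback g f)) :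
    x ∈ Set.range (bcm g a ha) ∨ x ∈ Set.range (bcm g b hb) := by
  rcases hcov (pullback.snd g f x) with ⟨y, hy⟩ | ⟨y, hy⟩
  · obtain ⟨z, hz, -⟩ := Scheme.exists_preimage_of_isPullback (isPullback_bcm g a ha) x y hy.symm
    exact Or.inl ⟨z, hz⟩
  · obtain ⟨z, hz, -⟩ := Scheme.exists_preimage_of_isPullback (isPullback_bcm g b hb) x y hy.symm
    exact Or.inr ⟨z, hz⟩

end two

variable {S S' : Scheme.{u}} {g : S' ⟶ S} {D : SchDDFam (fun _ : PUnit.{w + 1} => g)}

/-- Compatible families glue along two opens. -/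
theorem exists_compat_glue {A B X : Scheme.{u}} (a : A ⟶ X) (b : B ⟶ X) [IsOpenImmersion a] [IsOpenImmersion b]
    (hcov : ∀ x : X, x ∈ Set.range a ∨ x ∈ Set.range b) (f : X ⟶ S) {fA : A ⟶ S} {fB : B ⟶ S}
    (ha : a ≫ f = fA) (hb : b ≫ f = fB) (cA : Compat D fA) (cB : Compat D fB)
    (h : ∀ ⦃T : Scheme.{u}⦄ (p : T ⟶ A) (q : T ⟶ B), p ≫ a = q ≫ b → ∀ (s : T ⟶ S) (hp : p ≫ fA = s)
      (hq : q ≫ fB = s), cA.res p s hp = cB.res q s hq) :
    ∃ c : Compat D f, c.res a fA ha = cA ∧ c.res b fB hb = cB := by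
  haveI : IsOpenImmersion (bcm g a ha) :=
    MorphismProperty.of_isPullback (P := @IsOpenImmersion) (isPullback_bcm g a ha).flip ‹IsOpenImmersion a›
  haveI : IsOpenImmersion (bcm g b hb) :=
    MorphismProperty.of_isPullback (P := @IsOpenImmersion) (isPullback_bcm g b hb).flip ‹IsOpenImmersion b›
  let zA := cA.pt (pullback.snd g fA) (i := PUnit.unit) (pullback.fst g fA) pullback.condition
  let zB := cB.pt (pullback.snd g fB) (i := PUnit.unit) (pullback.fst g fB) pullback.condition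
  have hz : ∀ {C : Scheme.{u}} {fC : C ⟶ S} (cC : Compat D fC) {T : Scheme.{u}} (m : T ⟶ pullback g fC) (t : T ⟶ C) (y : T ⟶ S')
      (_ : m ≫ pullback.snd g fC = t) (_ : m ≫ pullback.fst g fC = y) (hy : y ≫ g = t ≫ fC),
      (cC.pt t (i := PUnit.unit) y hy).1 =
        m ≫ (cC.pt (pullback.snd g fC) (i := PUnit.unit) (pullback.fst g fC) pullback.condition).1 :=
    by intro C fC cC T m t y e1 e2 hy; exact cC.nat m _ _ pullback.condition t y e1 e2 hy
  obtain ⟨u, huA, huB⟩ := exists_glue_two (bcm g a ha) (bcm g b hb) (cover_bcm a b hcov g ha hb) zA.1 zB.1 (by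
    intro T p q e
    have e1 := congrArg (· ≫ pullback.snd g f) e
    have e2 := congrArg (· ≫ pullback.fst g f) e
    simp only [Category.assoc, bcm_fst, bcm_snd] at e1 e2
    have hpa : (p ≫ pullback.fst g fA) ≫ g = (p ≫ pullback.snd g fA) ≫ fA := by
      simp only [Category.assoc, pullback.condition]
    have hqb : (q ≫ pullback.fst g fB) ≫ g = (q ≫ pullback.snd g fB) ≫ fB := by
      simp only [Category.assoc, pullback.condition]
    rw [← hz cA p _ _ rfl rfl hpa, ← hz cB q _ _ rfl rfl hqb]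
    have hs : (q ≫ pullback.snd g fB) ≫ fB = (p ≫ pullback.snd g fA) ≫ fA := by
      rw [← hqb, ← hpa, e2]
    have key := congrArg (fun c : Compat D ((p ≫ pullback.snd g fA) ≫ fA) =>
      (c.pt (𝟙 T) (i := PUnit.unit) (p ≫ pullback.fst g fA) (by rw [Category.id_comp]; exact hpa)).1)
      (h (p ≫ pullback.snd g fA) (q ≫ pullback.snd g fB) (by simpa only [Category.assoc] using e1) _ rfl hs)
    simp only [Compat.res_pt] at key
    exact ((cA.pt_congr (Category.id_comp _).symm rfl hpa _).trans key).trans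
      (cB.pt_congr (Category.id_comp _) e2 _ hqb))
  have hu : u ≫ (D.obj PUnit.unit).hom = pullback.fst g f := by
    refine hom_ext_two (bcm g a ha) (bcm g b hb) (cover_bcm a b hcov g ha hb) ?_ ?_
    · rw [reassoc_of% huA, bcm_fst]; exact zA.2
    · rw [reassoc_of% huB, bcm_fst]; exact zB.2
  have hA : ∀ {T : Scheme.{u}} (t : T ⟶ A) (t' : T ⟶ X) (_ : t ≫ a = t') (y : T ⟶ S') (h' : y ≫ g = t' ≫ f)
      (hy : y ≫ g = t ≫ fA), pullback.lift y t' h' ≫ u = (cA.pt t (i := PUnit.unit) y hy).1 := by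
    intro T t t' e y h' hy
    rw [hz cA (pullback.lift y t hy) t y (pullback.lift_snd _ _ _) (pullback.lift_fst _ _ _) hy]
    rw [show pullback.lift y t' h' = pullback.lift y t hy ≫ bcm g a ha from
      pullback.hom_ext (by simp) (by simp [e]), Category.assoc, huA]
  have hB : ∀ {T : Scheme.{u}} (t : T ⟶ B) (t' : T ⟶ X) (_ : t ≫ b = t') (y : T ⟶ S') (h' : y ≫ g = t' ≫ f)
      (hy : y ≫ g = t ≫ fB), pullback.lift y t' h' ≫ u = (cB.pt t (i := PUnit.unit) y hy).1 := by
    intro T t t' e y h' hy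
    rw [hz cB (pullback.lift y t hy) t y (pullback.lift_snd _ _ _) (pullback.lift_fst _ _ _) hy]
    rw [show pullback.lift y t' h' = pullback.lift y t hy ≫ bcm g b hb from
      pullback.hom_ext (by simp) (by simp [e]), Category.assoc, huB]
  refine ⟨{ pt := fun T t i y hy => ⟨pullback.lift y t hy ≫ u, by
              rw [Category.assoc, hu]; exact pullback.lift_fst _ _ _⟩
            nat := fun T T' r t i y hy t' y' hr hy' h' => by
              change pullback.lift y' t' h' ≫ u = r ≫ pullback.lift y t hy ≫ u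
              rw [← Category.assoc]
              congr 1
              exact pullback.hom_ext (by simp [hy']) (by simp [hr])
            comp := fun T t i k y y' hy hy' => ?_ }, ?_, ?_⟩
  · obtain ⟨⟩ := i
    obtain ⟨⟩ := k
    refine Subtype.ext ?_
    refine hom_ext_two (pullback.fst t a) (pullback.fst t b) (cover_pullback a b hcov t) ?_ ?_
    · let q := pullback.fst t a
      have e : pullback.snd t a ≫ a = q ≫ t := pullback.condition.symm
      have hq : ∀ (z : T ⟶ S') (hz : z ≫ g = t ≫ f), (q ≫ z) ≫ g = pullback.snd t a ≫ fA := fun z hz => by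
        rw [← ha, reassoc_of% e, Category.assoc, hz]
      have hlift : ∀ (z : T ⟶ S') (hz : z ≫ g = t ≫ f), q ≫ pullback.lift z t hz ≫ u =
          (cA.pt (pullback.snd t a) (i := PUnit.unit) (q ≫ z) (hq z hz)).1 := fun z hz => by
        rw [← Category.assoc, ← hA (pullback.snd t a) (q ≫ t) e (q ≫ z)
          (by rw [Category.assoc, hz, Category.assoc]) (hq z hz)]
        congr 1
        exact pullback.hom_ext (by simp) (by simp)
      refine Eq.trans ?_ (hlift y' hy').symm
      rw [← cA.comp (pullback.snd t a) (i := PUnit.unit) (k := PUnit.unit) (q ≫ y) (q ≫ y') (hq y hy) (hq y' hy')]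
      exact (D.φ_natural q y y' _ (q ≫ y) (q ≫ y') rfl rfl _ _ _ (hlift y hy).symm).symm
    · let q := pullback.fst t b
      have e : pullback.snd t b ≫ b = q ≫ t := pullback.condition.symm
      have hq : ∀ (z : T ⟶ S') (hz : z ≫ g = t ≫ f), (q ≫ z) ≫ g = pullback.snd t b ≫ fB := fun z hz => by
        rw [← hb, reassoc_of% e, Category.assoc, hz]
      have hlift : ∀ (z : T ⟶ S') (hz : z ≫ g = t ≫ f), q ≫ pullback.lift z t hz ≫ u =
          (cB.pt (pullback.snd t b) (i := PUnit.unit) (q ≫ z) (hq z hz)).1 := fun z hz => by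
        rw [← Category.assoc, ← hB (pullback.snd t b) (q ≫ t) e (q ≫ z)
          (by rw [Category.assoc, hz, Category.assoc]) (hq z hz)]
        congr 1
        exact pullback.hom_ext (by simp) (by simp)
      refine Eq.trans ?_ (hlift y' hy').symm
      rw [← cB.comp (pullback.snd t b) (i := PUnit.unit) (k := PUnit.unit) (q ≫ y) (q ≫ y') (hq y hy) (hq y' hy')]
      exact (D.φ_natural q y y' _ (q ≫ y) (q ≫ y') rfl rfl _ _ _ (hlift y hy).symm).symm
  · exact Compat.ext fun T t i y hy => hA t (t ≫ a) rfl y (by rw [hy, ← ha, Category.assoc]) hy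
  · exact Compat.ext fun T t i y hy => hB t (t ≫ b) rfl y (by rw [hy, ← hb, Category.assoc]) hy

end Groth.Agent.EtRep9
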