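import Groth.Agent.EtRep9.KPt
import Groth.Agent.EtRep9.TwoOpen
import Groth.Agent.EtRep9.Nbhd

/-! Descent of etale schemes along finite morphisms over a strictly henselian ring, given it on the punctured spectrum. -/

set_option autoImplicit false
set_option backward.isDefEq.respectTransparency false
set_option backward.isDefEq.respectTransparency.types false
set_option linter.style.haveILetI false
universe u

open CategoryTheory CategoryTheory.Limits AlgebraicGeometry IsLocalRing Desc

noncomputable section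

namespace Groth.Agent.EtRep9

open Groth.Agent.DescLib
open Groth.Agent.EtFound (cpt cpt_base)

theorem univSubmersive_of_closed_surjective {X Y : Scheme.{u}} (f : X ⟶ Y) [UniversallyClosed f] [Surjective f] :
    SGA1.UnivSubmersive f := by
  intro X' Y' i₁ i₂ f' sq
  haveI : UniversallyClosed f' := MorphismProperty.of_isPullback sq.flip ‹UniversallyClosed f›
  haveI : Surjective f' := MorphismProperty.of_isPullback sq.flip ‹Surjective f›
  exact f'.isClosedMap.isQuotientMap f'.continuous f'.surjective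

variable {S S' : Scheme.{u}} {g : S' ⟶ S} {D : SchDDFam (fun _ : PUnit.{1} => g)}

theorem isRepOn_id_of_isRep {U : Over S} (h : IsRep D U) : IsRepOn D (𝟙 S) U := by
  obtain ⟨c₀, hu⟩ := h
  refine ⟨c₀.res (𝟙 _) (U.hom ≫ 𝟙 S) (by simp), fun T x s hs c => ?_⟩
  obtain rfl : x = s := by rw [← hs, Category.comp_id]
  obtain ⟨p, hp, huniq⟩ := hu x c
  refine ⟨p, (Compat.res_res _ _ _ _ _ _ _ _ (Category.comp_id _) _).trans hp, fun q hq => huniq q ?_⟩
  exact (Compat.res_res _ _ _ _ _ _ _ _ (Category.comp_id _) _).symm.trans hq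

theorem isRep_of_isRepOn_id {U : Over S} (h : IsRepOn D (𝟙 S) U) : IsRep D U := by
  obtain ⟨c₀, hu⟩ := h
  refine ⟨c₀.res (𝟙 _) U.hom (by simp), fun T s c => ?_⟩
  obtain ⟨p, hp, huniq⟩ := hu s s (Category.comp_id s) c
  refine ⟨p, (Compat.res_res _ _ _ _ _ _ _ _ (Category.comp_id _) _).trans hp, fun q hq => huniq q ?_⟩
  exact (Compat.res_res _ _ _ _ _ _ _ _ (Category.comp_id _) _).symm.trans hq

section local_

variable (C : Type u) [CommRing C] [HenselianLocalRing C] [IsAlgClosed (ResidueField C)]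
  {S' : Scheme.{u}} {g : S' ⟶ Spec (CommRingCat.of C)} [UniversallyClosed g] [LocallyOfFiniteType g] [Surjective g]
  {D : SchDDFam (fun _ : PUnit.{1} => g)} [Etale (D.obj PUnit.unit).hom] [QuasiCompact (D.obj PUnit.unit).hom]

theorem finite_compat_cpt : Finite (Compat D (cpt C)) := by
  let E := D.obj PUnit.unit
  obtain ⟨x₁, -⟩ := g.surjective (closedPoint C)
  obtain ⟨p₀, hp₀, -⟩ := exists_kpt_mem C g isClosed_univ ⟨x₁, trivial⟩
  have h0 : p₀ ≫ g = 𝟙 _ ≫ cpt C := by rw [Category.id_comp, hp₀]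
  let F : Compat D (cpt C) → (E.hom ⁻¹' {p₀ default} : Set E.left) := fun c =>
    ⟨(c.pt (𝟙 _) (i := PUnit.unit) p₀ h0).1 default, by
      show E.hom _ = p₀ default
      rw [← Scheme.Hom.comp_apply, (c.pt (𝟙 _) (i := PUnit.unit) p₀ h0).2]⟩
  haveI : LocallyQuasiFinite E.hom := inferInstance
  haveI : Finite (E.hom ⁻¹' {p₀ default} : Set E.left) :=
    (E.hom.finite_preimage_singleton (p₀ default)).to_subtype
  refine Finite.of_injective F fun c c' e => compat_ext p₀ h0 ?_
  refine kpt_ext C (E.hom ≫ g) ?_ ?_ (congrArg Subtype.val e)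
  · rw [← Category.assoc, (c.pt (𝟙 _) (i := PUnit.unit) p₀ h0).2, hp₀]
  · rw [← Category.assoc, (c'.pt (𝟙 _) (i := PUnit.unit) p₀ h0).2, hp₀]

theorem exists_compat_lift [IsFinite g] (γ : Compat D (cpt C)) :
    ∃ c : Compat D (𝟙 (Spec (CommRingCat.of C))), c.res (cpt C) (cpt C) (Category.comp_id _) = γ := by
  let E := D.obj PUnit.unit
  obtain ⟨s, hs, hsp⟩ := exists_section C g E.hom
    fun p hp => ⟨(γ.pt (𝟙 _) (i := PUnit.unit) p (by rw [Category.id_comp, hp])).1, (γ.pt _ _ _).2⟩
  let a₁ := pullback.fst g g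
  let a₂ := pullback.snd g g
  let v : Lifts E a₁ := ⟨a₁ ≫ s, by rw [Category.assoc, hs, Category.comp_id]⟩
  have key : (D.φ (i := PUnit.unit) (j := PUnit.unit) a₁ a₂ pullback.condition v).1 = a₂ ≫ s := by
    refine hom_ext_kpt C (a₁ ≫ g) E.hom ?_ fun p hp => ?_
    · rw [(D.φ (i := PUnit.unit) (j := PUnit.unit) a₁ a₂ pullback.condition v).2, Category.assoc, hs, Category.comp_id]
    · have h1 : (p ≫ a₁) ≫ g = cpt C := by rw [Category.assoc]; exact hp
      have h2 : (p ≫ a₂) ≫ g = cpt C := by rw [Category.assoc, ← pullback.condition]; exact hp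
      rw [← D.φ_natural p a₁ a₂ pullback.condition (p ≫ a₁) (p ≫ a₂) rfl rfl (h1.trans h2.symm) v
        (γ.pt (𝟙 _) (i := PUnit.unit) (p ≫ a₁) (by rw [Category.id_comp, h1]))
        (((hsp (p ≫ a₁) h1).symm).trans (Category.assoc _ _ _)),
        γ.comp (𝟙 _) (i := PUnit.unit) (k := PUnit.unit) (p ≫ a₁) (p ≫ a₂) _ (by rw [Category.id_comp, h2]),
        ← Category.assoc, hsp (p ≫ a₂) h2]
  refine ⟨{ pt := fun T t i y hy => ⟨y ≫ s, by rw [Category.assoc, hs, Category.comp_id]⟩
            nat := fun T T' r t i y hy t' y' hr hy' h' =>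
              (congrArg (· ≫ s) hy'.symm).trans (Category.assoc r y s)
            comp := fun T t i k y y' hy hy' => ?_ }, ?_⟩
  · obtain ⟨⟩ := i
    obtain ⟨⟩ := k
    refine Subtype.ext ?_
    let r : T ⟶ pullback g g := pullback.lift y y' (hy.trans hy'.symm)
    refine (D.φ_natural r a₁ a₂ pullback.condition y y' (pullback.lift_fst _ _ _) (pullback.lift_snd _ _ _) _ v _
      (by change y ≫ s = r ≫ a₁ ≫ s; rw [pullback.lift_fst_assoc])).trans ?_
    rw [key, pullback.lift_snd_assoc]
  · refine Compat.ext fun T t i y hy => ?_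
    obtain ⟨⟩ := i
    -- compare at the rational points of the fibre
    let P := pullback g (cpt C)
    let z := γ.pt (pullback.snd g (cpt C)) (i := PUnit.unit) (pullback.fst g (cpt C)) pullback.condition
    haveI : IsClosedImmersion (cpt C) := IsClosedImmersion.spec_of_surjective _ Ideal.Quotient.mk_surjective
    haveI : IsFinite (pullback.snd g (cpt C) ≫ cpt C) := inferInstance
    have e : pullback.fst g (cpt C) ≫ s = z.1 := by
      refine hom_ext_kpt C (pullback.snd g (cpt C) ≫ cpt C) E.hom ?_ fun p hp => ?_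
      · rw [Category.assoc, hs, Category.comp_id]; exact z.2.symm
      · have h1 : (p ≫ pullback.fst g (cpt C)) ≫ g = cpt C := by
          rw [Category.assoc, pullback.condition]; exact hp
        have hp' : p ≫ pullback.snd g (cpt C) = 𝟙 _ := by
          rw [← cancel_mono (cpt C), Category.assoc, hp, Category.id_comp]
        rw [← Category.assoc, hsp _ h1]
        exact γ.nat p _ _ pullback.condition (𝟙 _) _ hp' rfl _
    refine Eq.trans ?_ (γ.nat (pullback.lift y t hy) _ _ pullback.condition t y (pullback.lift_snd _ _ _)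
      (pullback.lift_fst _ _ _) hy).symm
    change y ≫ s = _
    rw [← e, pullback.lift_fst_assoc]

/-- The punctured spectrum. -/
def punct : (Spec (CommRingCat.of C)).Opens :=
  ⟨({closedPoint C} : Set (PrimeSpectrum C))ᶜ, (PrimeSpectrum.isClosed_singleton_iff_isMaximal _).2
    (maximalIdeal.isMaximal C) |>.isOpen_compl⟩

variable {C}

/-- Over the punctured spectrum it represents, over the closed point it takes the values `Γ`. -/
structure Good (Γ : Finset (Compat D (cpt C))) {X : Scheme.{u}} (f : X ⟶ Spec (CommRingCat.of C))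
    (c : Compat D f) : Prop where
  etale : Etale f
  univ : ∀ ⦃T : Scheme.{u}⦄ (x : T ⟶ Spec (CommRingCat.of C)), Set.range x ⊆ punct C → ∀ d : Compat D x,
    ∃! p : Lifts (Over.mk f) x, c.res p.1 x p.2 = d
  surj : ∀ γ ∈ Γ, ∃ p : Lifts (Over.mk f) (cpt C), c.res p.1 _ p.2 = γ
  inj : ∀ p q : Lifts (Over.mk f) (cpt C), c.res p.1 _ p.2 = c.res q.1 _ q.2 → p = q
  mem : ∀ p : Lifts (Over.mk f) (cpt C), c.res p.1 _ p.2 ∈ Γ

theorem cpt_notMem (p : ↥(Spec (CommRingCat.of (ResidueField C)))) : (cpt C) p ∉ punct C := fun h =>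
  h (cpt_base C p)

theorem exists_good_empty {V : Over (punct C : Scheme.{u})} [Etale V.hom] (h : IsRepOn D (punct C).ι V) :
    ∃ (X : Scheme.{u}) (f : X ⟶ Spec (CommRingCat.of C)) (c : Compat D f), Good ∅ f c := by
  obtain ⟨c₀, hu⟩ := h
  have hno : ∀ p : Lifts (Over.mk (V.hom ≫ (punct C).ι)) (cpt C), False := fun p => by
    have e : p.1 ≫ V.hom ≫ (punct C).ι = cpt C := p.2
    have h1 := cpt_notMem (C := C) default
    apply h1
    rw [← e, ← Category.assoc, Scheme.Hom.comp_apply]
    exact ((p.1 ≫ V.hom) default).2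
  refine ⟨V.left, V.hom ≫ (punct C).ι, c₀, inferInstance, fun T x hx d => ?_, by simp,
    fun p _ _ => (hno p).elim, fun p => (hno p).elim⟩
  let x₀ := IsOpenImmersion.lift (punct C).ι x (by rw [Scheme.Opens.range_ι]; exact hx)
  have hx₀ : x₀ ≫ (punct C).ι = x := IsOpenImmersion.lift_fac _ _ _
  obtain ⟨p, hp, huniq⟩ := hu x₀ x hx₀ d
  refine ⟨⟨p.1, by show p.1 ≫ V.hom ≫ _ = x; rw [← Category.assoc, p.2, hx₀]⟩, hp, fun q hq => ?_⟩
  have e : q.1 ≫ V.hom ≫ (punct C).ι = x := q.2
  refine Subtype.ext (congrArg Subtype.val (huniq ⟨q.1, ?_⟩ hq) : _)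
  rw [← cancel_mono (punct C).ι, Category.assoc, e, hx₀]

theorem exists_good_insert
    (hlift : ∀ γ : Compat D (cpt C), ∃ c : Compat D (𝟙 (Spec (CommRingCat.of C))),
      c.res (cpt C) (cpt C) (Category.comp_id _) = γ)
    {Γ : Finset (Compat D (cpt C))} {X : Scheme.{u}} {f : X ⟶ Spec (CommRingCat.of C)}
    {c : Compat D f} (h : Good Γ f c) [DecidableEq (Compat D (cpt C))] (γ : Compat D (cpt C)) (hγ : γ ∉ Γ) :
    ∃ (X' : Scheme.{u}) (f' : X' ⟶ Spec (CommRingCat.of C)) (c' : Compat D f'), Good (insert γ Γ) f' c' := by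
  haveI := h.etale
  obtain ⟨cγ, hcγ⟩ := hlift γ
  let ι := (punct C).ι
  have hι : Set.range ι ⊆ punct C := by rw [Scheme.Opens.range_ι]
  obtain ⟨⟨s, hs⟩, hsc, -⟩ := h.univ ι hι (cγ.res ι ι (Category.comp_id _))
  have hs' : s ≫ f = ι := hs
  haveI : Etale s := MorphismProperty.of_postcomp (W := @Etale) (W' := @Etale) s f ‹Etale f› (by
    rw [hs']; infer_instance)
  haveI : Mono s := mono_of_mono_fac hs'
  haveI : IsOpenImmersion s := IsOpenImmersion.of_flat_of_mono s
  let X' := pushout s ι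
  let il : X ⟶ X' := pushout.inl s ι
  let ir : Spec (CommRingCat.of C) ⟶ X' := pushout.inr s ι
  haveI : IsOpenImmersion il := inferInstanceAs (IsOpenImmersion (colimit.ι (span s ι) WalkingSpan.left))
  haveI : IsOpenImmersion ir := inferInstanceAs (IsOpenImmersion (colimit.ι (span s ι) WalkingSpan.right))
  let f' : X' ⟶ Spec (CommRingCat.of C) := pushout.desc f (𝟙 _) (by rw [hs', Category.comp_id])
  have hl : il ≫ f' = f := pushout.inl_desc _ _ _
  have hr : ir ≫ f' = 𝟙 _ := pushout.inr_desc _ _ _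
  have hcov : ∀ y : X', y ∈ Set.range il ∨ y ∈ Set.range ir := fun y => by
    obtain ⟨i, z, rfl⟩ := Scheme.IsLocallyDirected.ι_jointly_surjective (span s ι) y
    rcases i with - | (- | -)
    · refine Or.inl ⟨s z, ?_⟩
      show pushout.inl s ι (s z) = _
      rw [← Scheme.Hom.comp_apply, ← colimit.w (span s ι) WalkingSpan.Hom.fst]
      rfl
    · exact Or.inl ⟨z, rfl⟩
    · exact Or.inr ⟨z, rfl⟩
  have hmeet : ∀ (a : X) (b : ↥(Spec (CommRingCat.of C))), il a = ir b → b ∈ punct C := fun a b e => by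
    obtain ⟨k, fi, fj, x, -, hj⟩ := Scheme.IsLocallyDirected.ι_eq_ι_iff _ |>.1
      (show colimit.ι (span s ι) WalkingSpan.left a = colimit.ι (span s ι) WalkingSpan.right b from e)
    rcases k with - | (- | -)
    · rw [Subsingleton.elim fj WalkingSpan.Hom.snd] at hj
      rw [← hj]
      exact x.2
    · exact nomatch fj
    · exact nomatch fi
  have hEt : Etale f' := by
    rw [IsZariskiLocalAtSource.iff_of_openCover (P := @Etale) (Scheme.Cover.mkOfCovers (P := @IsOpenImmersion)
      (ULift.{u} Bool) (fun i => bif i.down then X else Spec (CommRingCat.of C))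
      (fun i => match i with | ⟨true⟩ => il | ⟨false⟩ => ir)
      (fun x => (hcov x).elim (fun ⟨y, hy⟩ => ⟨⟨true⟩, y, hy⟩) (fun ⟨y, hy⟩ => ⟨⟨false⟩, y, hy⟩))
      (fun i => match i with | ⟨true⟩ => ‹_› | ⟨false⟩ => ‹_›))]
    rintro ⟨_ | _⟩
    · show Etale (ir ≫ f')
      rw [hr]; infer_instance
    · show Etale (il ≫ f')
      rw [hl]; infer_instance
  obtain ⟨c', hc'l, hc'r⟩ := exists_compat_glue il ir hcov f' hl hr c cγ (by
    intro T p q e σ hp hq
    have hq' : Set.range q ⊆ Set.range ι := by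
      rw [Scheme.Opens.range_ι]
      rintro _ ⟨t, rfl⟩
      exact hmeet (p t) (q t) (by rw [← Scheme.Hom.comp_apply, e, Scheme.Hom.comp_apply])
    let q₀ := IsOpenImmersion.lift ι q hq'
    have hq₀ : q₀ ≫ ι = q := IsOpenImmersion.lift_fac _ _ _
    have hpq : p = q₀ ≫ s := by
      rw [← cancel_mono il, e, ← hq₀, Category.assoc, Category.assoc]
      exact congrArg (q₀ ≫ ·) pushout.condition.symm
    have e1 : q₀ ≫ ι = σ := by rw [hq₀, ← hq, Category.comp_id]
    have := congrArg (fun d : Compat D ι => d.res q₀ σ e1) hsc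
    exact ((Compat.res_res _ _ _ _ _ _ _ _ hpq.symm hp).symm.trans this).trans
      (Compat.res_res _ _ _ _ _ _ _ _ hq₀ hq))
  have hresl : ∀ {T : Scheme.{u}} (p : T ⟶ X) (x : T ⟶ Spec (CommRingCat.of C)) (hp : p ≫ f = x)
      (h' : (p ≫ il) ≫ f' = x), c'.res (p ≫ il) x h' = c.res p x hp := fun p x hp h' => by
    rw [← hc'l]; exact (Compat.res_res _ _ _ _ _ _ _ _ rfl _).symm
  refine ⟨X', f', c', hEt, fun T x hx d => ?_, fun δ hδ => ?_, fun p q e => ?_, fun p => ?_⟩
  · obtain ⟨⟨p, hp⟩, hpd, huniq⟩ := h.univ x hx d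
    have hp' : p ≫ f = x := hp
    refine ⟨⟨p ≫ il, by show (p ≫ il) ≫ f' = x; rw [Category.assoc, hl, hp']⟩, ?_, fun q hq => ?_⟩
    · exact (hresl p x hp' _).trans hpd
    · have hqx : q.1 ≫ f' = x := q.2
      have hr' : Set.range q.1 ⊆ Set.range il := by
        rintro _ ⟨t, rfl⟩
        rcases hcov (q.1 t) with hh | ⟨b, hb⟩
        · exact hh
        · have hbx : b = x t := by
            rw [← hqx, Scheme.Hom.comp_apply, ← hb]
            exact ((Scheme.Hom.comp_apply ir f' b).symm.trans (by rw [hr]; rfl)).symm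
          obtain ⟨b₀, hb₀⟩ : b ∈ Set.range ι := by rw [Scheme.Opens.range_ι, hbx]; exact hx ⟨t, rfl⟩
          refine ⟨s b₀, ?_⟩
          rw [← hb, ← hb₀]
          exact ((Scheme.Hom.comp_apply s il b₀).symm.trans (by rw [show s ≫ il = ι ≫ ir from pushout.condition])).trans
            (Scheme.Hom.comp_apply ι ir b₀)
      let q₀ := IsOpenImmersion.lift il q.1 hr'
      have hq₀ : q₀ ≫ il = q.1 := IsOpenImmersion.lift_fac _ _ _
      have hq₀x : q₀ ≫ f = x := by rw [← hl, reassoc_of% hq₀, hqx]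
      have e := huniq ⟨q₀, hq₀x⟩ ((hresl q₀ x hq₀x (by rw [hq₀, hqx])).symm.trans
        ((Compat.res_congr _ hq₀ _ _ hqx).trans hq))
      refine Subtype.ext ?_
      change q.1 = p ≫ il
      rw [← hq₀, show q₀ = p from congrArg Subtype.val e]
  · rcases Finset.mem_insert.1 hδ with rfl | hδ
    · refine ⟨⟨cpt C ≫ ir, by show (cpt C ≫ ir) ≫ f' = _; rw [Category.assoc, hr, Category.comp_id]⟩, ?_⟩
      rw [← hcγ, ← hc'r]
      exact (Compat.res_res _ _ _ _ _ _ _ _ rfl _).symm
    · obtain ⟨p, hp⟩ := h.surj δ hδ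
      have hp' : p.1 ≫ f = cpt C := p.2
      exact ⟨⟨p.1 ≫ il, by show (p.1 ≫ il) ≫ f' = _; rw [Category.assoc, hl, hp']⟩,
        (hresl p.1 _ hp' _).trans hp⟩
  · -- injectivity
    have hsplit : ∀ p : Lifts (Over.mk f') (cpt C),
        (∃ p₀ : Lifts (Over.mk f) (cpt C), p.1 = p₀.1 ≫ il ∧ c'.res p.1 _ p.2 = c.res p₀.1 _ p₀.2) ∨
          (p.1 = cpt C ≫ ir ∧ c'.res p.1 _ p.2 = γ) := by
      intro p
      have hp : p.1 ≫ f' = cpt C := p.2
      rcases hcov (p.1 default) with hh | hh
      · left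
        have hr' : Set.range p.1 ⊆ Set.range il := by
          rintro _ ⟨t, rfl⟩; rw [Subsingleton.elim t default]; exact hh
        let p₀ := IsOpenImmersion.lift il p.1 hr'
        have hp₀ : p₀ ≫ il = p.1 := IsOpenImmersion.lift_fac _ _ _
        have hp₀x : p₀ ≫ f = cpt C := by rw [← hl, reassoc_of% hp₀, hp]
        exact ⟨⟨p₀, hp₀x⟩, hp₀.symm, (Compat.res_congr _ hp₀.symm _ _ (by rw [hp₀, hp])).trans
          (hresl p₀ _ hp₀x (by rw [hp₀, hp]))⟩
      · right
        have hr' : Set.range p.1 ⊆ Set.range ir := by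
          rintro _ ⟨t, rfl⟩; rw [Subsingleton.elim t default]; exact hh
        let q := IsOpenImmersion.lift ir p.1 hr'
        have hq : q ≫ ir = p.1 := IsOpenImmersion.lift_fac _ _ _
        have hq' : q = cpt C := by rw [← hp, ← hq, Category.assoc, hr, Category.comp_id]
        rw [hq'] at hq
        refine ⟨hq.symm, ?_⟩
        rw [← hcγ, ← hc'r]
        exact (Compat.res_congr _ hq.symm _ _ (by rw [Category.assoc, hr, Category.comp_id])).trans
          (Compat.res_res _ _ _ _ _ _ _ _ rfl _).symm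
    rcases hsplit p with ⟨p₀, hp1, hp2⟩ | ⟨hp1, hp2⟩ <;> rcases hsplit q with ⟨q₀, hq1, hq2⟩ | ⟨hq1, hq2⟩
    · refine Subtype.ext ?_
      rw [hp1, hq1, h.inj p₀ q₀ (hp2.symm.trans (e.trans hq2))]
    · exact absurd ((hp2.symm.trans (e.trans hq2)) ▸ h.mem p₀) hγ
    · exact absurd ((hq2.symm.trans (e.symm.trans hp2)) ▸ h.mem q₀) hγ
    · exact Subtype.ext (hp1.trans hq1.symm)
  · have hp : p.1 ≫ f' = cpt C := p.2
    rcases hcov (p.1 default) with hh | hh
    · have hr' : Set.range p.1 ⊆ Set.range il := by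
        rintro _ ⟨t, rfl⟩; rw [Subsingleton.elim t default]; exact hh
      let p₀ := IsOpenImmersion.lift il p.1 hr'
      have hp₀ : p₀ ≫ il = p.1 := IsOpenImmersion.lift_fac _ _ _
      have hp₀x : p₀ ≫ f = cpt C := by rw [← hl, reassoc_of% hp₀, hp]
      rw [(Compat.res_congr c' hp₀.symm _ _ (by rw [hp₀, hp])).trans (hresl p₀ _ hp₀x (by rw [hp₀, hp]))]
      exact Finset.mem_insert_of_mem (h.mem ⟨p₀, hp₀x⟩)
    · have hr' : Set.range p.1 ⊆ Set.range ir := by
        rintro _ ⟨t, rfl⟩; rw [Subsingleton.elim t default]; exact hh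
      let q := IsOpenImmersion.lift ir p.1 hr'
      have hq : q ≫ ir = p.1 := IsOpenImmersion.lift_fac _ _ _
      have hq' : q = cpt C := by rw [← hp, ← hq, Category.assoc, hr, Category.comp_id]
      rw [hq'] at hq
      rw [Compat.res_congr c' hq.symm _ _ (by rw [Category.assoc, hr, Category.comp_id]),
        show c'.res (cpt C ≫ ir) (cpt C) (by rw [Category.assoc, hr, Category.comp_id]) = γ by
          rw [← hcγ, ← hc'r]; exact (Compat.res_res _ _ _ _ _ _ _ _ rfl _).symm]
      exact Finset.mem_insert_self _ _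

theorem exists_pt {K : Scheme.{u}} (fK : K ⟶ Spec (CommRingCat.of C)) [LocallyOfFiniteType fK]
    (z : K) (hzc : fK z = closedPoint C → IsClosed ({z} : Set K)) :
    ∃ (T : Scheme.{u}) (m : T ⟶ K), z ∈ Set.range m ∧ (Set.range (m ≫ fK) ⊆ punct C ∨
      ∃ e : Spec (CommRingCat.of (ResidueField C)) ⟶ T, IsIso e ∧ e ≫ m ≫ fK = cpt C) := by
  by_cases hz : fK z = closedPoint C
  · obtain ⟨p, hp, hpz⟩ := exists_kpt_of_isClosed C fK z hz (hzc hz)
    exact ⟨_, p, ⟨default, hpz⟩, Or.inr ⟨𝟙 _, inferInstance, by rw [Category.id_comp, hp]⟩⟩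
  · refine ⟨_, K.fromSpecResidueField z, ⟨default, Scheme.fromSpecResidueField_apply _ _⟩, Or.inl ?_⟩
    rintro _ ⟨t, rfl⟩
    rw [Scheme.Hom.comp_apply, Scheme.fromSpecResidueField_apply]
    exact hz

omit [HenselianLocalRing C] [IsAlgClosed (ResidueField C)] in
/-- An open subset containing the points over the punctured spectrum and the closed points is everything. -/
theorem mem_of_closedPoints [IsLocalRing C] {K : Scheme.{u}} (fK : K ⟶ Spec (CommRingCat.of C)) [LocallyOfFiniteType fK]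
    {U : Set K} (hU : IsOpen U)
    (h : ∀ z : K, (fK z = closedPoint C → IsClosed ({z} : Set K)) → z ∈ U) (z : K) : z ∈ U := by
  by_contra hz
  by_cases hc : fK z = closedPoint C
  swap
  · exact hz (h z fun e => absurd e hc)
  let i := Spec.map (CommRingCat.ofHom (residue C))
  haveI : IsClosedImmersion i := IsClosedImmersion.spec_of_surjective _ Ideal.Quotient.mk_surjective
  haveI : JacobsonSpace ↥(pullback fK i) := LocallyOfFiniteType.jacobsonSpace (pullback.snd fK i)
  have hi : ∀ w : ↥(Spec (CommRingCat.of (ResidueField C))), i w = closedPoint C := fun w => by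
    have : w.asIdeal = ⊥ := (Ideal.eq_bot_or_top w.asIdeal).resolve_right w.2.ne_top
    refine PrimeSpectrum.ext ?_
    show w.asIdeal.comap (residue C) = _
    rw [this]
    exact Ideal.mk_ker
  obtain ⟨w, hw, -⟩ := Scheme.Pullback.exists_preimage_pullback (f := fK) (g := i) z default (hc.trans (hi _).symm)
  obtain ⟨m, hm, hmc⟩ := nonempty_inter_closedPoints (Z := pullback.fst fK i ⁻¹' Uᶜ) ⟨w, by
    show pullback.fst fK i w ∈ Uᶜ
    rw [hw]; exact hz⟩ ((hU.isClosed_compl.preimage (pullback.fst fK i).continuous).isLocallyClosed)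
  refine hm (h _ fun _ => ?_)
  rw [← Set.image_singleton]
  exact (pullback.fst fK i).isClosedEmbedding.isClosedMap _ (mem_closedPoints_iff.1 hmc)

variable (C) in
/-- Descent over the strictly henselian base from descent over its punctured spectrum. -/
theorem exists_isRep_of_punct
    (hlift : ∀ γ : Compat D (cpt C), ∃ c : Compat D (𝟙 (Spec (CommRingCat.of C))),
      c.res (cpt C) (cpt C) (Category.comp_id _) = γ) {V : Over (punct C : Scheme.{u})} [Etale V.hom] (hV : IsRepOn D (punct C).ι V) :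
    ∃ U : Over (Spec (CommRingCat.of C)), Etale U.hom ∧ IsRep D U := by
  classical
  haveI := finite_compat_cpt C (D := D)
  haveI : Fintype (Compat D (cpt C)) := Fintype.ofFinite _
  obtain ⟨X, f, c, h⟩ : ∃ (X : Scheme.{u}) (f : X ⟶ Spec (CommRingCat.of C)) (c : Compat D f),
      Good Finset.univ f c := by
    suffices H : ∀ Γ : Finset (Compat D (cpt C)),
        ∃ (X : Scheme.{u}) (f : X ⟶ Spec (CommRingCat.of C)) (c : Compat D f), Good Γ f c from H _
    intro Γ
    induction Γ using Finset.induction with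
    | empty => exact exists_good_empty hV
    | insert γ Γ hγ ih =>
      obtain ⟨X, f, c, h⟩ := ih
      exact exists_good_insert hlift h γ hγ
  haveI := h.etale
  let E := D.obj PUnit.unit
  let f₁ := f ≫ 𝟙 (Spec (CommRingCat.of C))
  have hf₁ : f₁ = f := Category.comp_id f
  have hcond : pullback.fst g f₁ ≫ g = pullback.snd g f₁ ≫ f := by rw [← hf₁, pullback.condition]
  let z := c.pt (pullback.snd g f₁) (i := PUnit.unit) (pullback.fst g f₁) hcond
  have hz : ∀ {T : Scheme.{u}} (b : T ⟶ pullback g f₁) (t : T ⟶ X) (y : T ⟶ S'),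
      b ≫ pullback.snd g f₁ = t → b ≫ pullback.fst g f₁ = y →
      ∀ h : y ≫ g = t ≫ f, (c.pt t (i := PUnit.unit) y h).1 = b ≫ z.1 :=
    fun b t y e1 e2 h => c.nat b _ _ hcond t y e1 e2 h
  have hcomm : ∀ ⦃T : Scheme.{u}⦄ (a b : T ⟶ pullback g f₁) (hab : a ≫ pullback.snd g f₁ = b ≫ pullback.snd g f₁)
      (hh : (a ≫ pullback.fst g f₁) ≫ g = (b ≫ pullback.fst g f₁) ≫ g)
      (v : Lifts E (a ≫ pullback.fst g f₁)), v.1 = a ≫ z.1 →
      (D.φ (i := PUnit.unit) (j := PUnit.unit) (a ≫ pullback.fst g f₁) (b ≫ pullback.fst g f₁) hh v).1 = b ≫ z.1 := by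
    intro T a b hab hh v hv
    have ha : (a ≫ pullback.fst g f₁) ≫ g = (a ≫ pullback.snd g f₁) ≫ f := by simp only [Category.assoc, hcond]
    have hb : (b ≫ pullback.fst g f₁) ≫ g = (a ≫ pullback.snd g f₁) ≫ f := by
      rw [hab]; simp only [Category.assoc, hcond]
    rw [← hz b _ _ hab.symm rfl hb, ← c.comp (a ≫ pullback.snd g f₁) (i := PUnit.unit) (k := PUnit.unit) _ _ ha hb]
    exact congrArg (fun v => (D.φ (i := PUnit.unit) (j := PUnit.unit) _ _ hh v).1) (Subtype.ext (hv.trans (hz a _ _ rfl rfl ha).symm))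
  have hM : IsMdl D (𝟙 _) f z.1 := by
    refine ⟨z.2, ?_, fun T a b hab => hcomm a b hab _ _ rfl⟩
    let Q := pullback (E.hom ≫ g) (𝟙 (Spec (CommRingCat.of C)))
    let θ := th (D := D) (j := 𝟙 (Spec (CommRingCat.of C))) f z.1 (hw_of_hu z.2)
    show IsIso θ
    haveI : Etale θ := MorphismProperty.of_postcomp (W := @Etale) (W' := @Etale) θ
      (pullback.fst (E.hom ≫ g) (𝟙 _) ≫ E.hom) inferInstance (by
        rw [pullback.lift_fst_assoc, show z.1 ≫ E.hom = _ from z.2]
        haveI : Etale f₁ := inferInstanceAs (Etale (f ≫ 𝟙 _))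
        exact inferInstanceAs (Etale (pullback.fst g f₁)))
    -- it is a monomorphism
    let K := pullback θ θ
    let fK := pullback.fst θ θ ≫ pullback.snd g f₁ ≫ f
    haveI : LocallyOfFiniteType fK := inferInstance
    haveI : Surjective (pullback.diagonal θ) := by
      refine ⟨mem_of_closedPoints fK (pullback.diagonal θ).isOpenEmbedding.isOpen_range fun w hwc => ?_⟩
      obtain ⟨T, m, ⟨t, ht⟩, hm⟩ := exists_pt fK w hwc
      let a := m ≫ pullback.fst θ θ
      let b := m ≫ pullback.snd θ θ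
      have e : a ≫ θ = b ≫ θ := by simp only [a, b, Category.assoc, pullback.condition]
      have e1 : a ≫ z.1 = b ≫ z.1 := by
        have := congrArg (· ≫ pullback.fst (E.hom ≫ g) (𝟙 _)) e
        have hθ : θ ≫ pullback.fst (E.hom ≫ g) (𝟙 _) = z.1 := pullback.lift_fst _ _ _
        simp only [Category.assoc] at this
        rw [hθ] at this
        exact this
      have e2 : a ≫ pullback.fst g f₁ = b ≫ pullback.fst g f₁ := by
        rw [← show z.1 ≫ E.hom = pullback.fst g f₁ from z.2, reassoc_of% e1]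
      let xa := a ≫ pullback.snd g f₁
      let xb := b ≫ pullback.snd g f₁
      have hxa : xa ≫ f = m ≫ fK := by simp only [xa, a, fK, Category.assoc]
      have hya : (a ≫ pullback.fst g f₁) ≫ g = xa ≫ f := by simp only [xa, Category.assoc, hcond]
      have hyb : (b ≫ pullback.fst g f₁) ≫ g = xb ≫ f := by simp only [xb, Category.assoc, hcond]
      have hxb : xb ≫ f = m ≫ fK := by rw [← hxa, ← hya, ← hyb, e2]
      have hres : c.res xa (m ≫ fK) hxa = c.res xb (m ≫ fK) hxb := by
        refine compat_ext (a ≫ pullback.fst g f₁) (by rw [Category.id_comp, ← hxa, hya]) ?_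
        simp only [Compat.res_pt]
        rw [hz a (𝟙 T ≫ xa) _ (Category.id_comp _).symm rfl, hz b (𝟙 T ≫ xb) _ (Category.id_comp _).symm e2.symm, e1]
      have hab : xa = xb := by
        rcases hm with hm | ⟨d, hd, hd'⟩
        · exact congrArg Subtype.val ((h.univ (m ≫ fK) hm _).unique (y₁ := ⟨xa, hxa⟩) (y₂ := ⟨xb, hxb⟩) hres rfl)
        · rw [← cancel_epi d]
          refine congrArg Subtype.val (h.inj ⟨d ≫ xa, by show (d ≫ xa) ≫ f = _; rw [Category.assoc, hxa, hd']⟩
            ⟨d ≫ xb, by show (d ≫ xb) ≫ f = _; rw [Category.assoc, hxb, hd']⟩ ?_)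
          have := congrArg (fun q : Compat D (m ≫ fK) => q.res d _ hd') hres
          exact ((Compat.res_res _ _ _ _ _ _ _ _ rfl _).symm.trans this).trans (Compat.res_res _ _ _ _ _ _ _ _ rfl _)
      have hm2 : m = a ≫ pullback.diagonal θ := by
        refine pullback.hom_ext (by simp [a]) ?_
        rw [Category.assoc, pullback.diagonal_snd]
        exact (pullback.hom_ext e2 hab).symm.trans (Category.comp_id a).symm
      exact ⟨a t, by rw [← Scheme.Hom.comp_apply, ← hm2, ht]⟩
    haveI : IsIso (pullback.diagonal θ) := (isIso_iff_isOpenImmersion_and_surjective _).2 ⟨inferInstance, inferInstance⟩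
    haveI : Mono θ := ⟨fun a b e => by
      have : pullback.lift a b e = (pullback.lift a b e ≫ inv (pullback.diagonal θ)) ≫ pullback.diagonal θ := by simp
      have h1 := congrArg (· ≫ pullback.fst θ θ) this
      have h2 := congrArg (· ≫ pullback.snd θ θ) this
      simp only [Category.assoc, pullback.diagonal_fst, pullback.diagonal_snd, Category.comp_id,
        pullback.lift_fst, pullback.lift_snd] at h1 h2
      exact h1.trans h2.symm⟩
    haveI : IsOpenImmersion θ := IsOpenImmersion.of_flat_of_mono θ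
    -- it is surjective
    haveI : Surjective θ := by
      let fQ := pullback.snd (E.hom ≫ g) (𝟙 (Spec (CommRingCat.of C)))
      refine ⟨mem_of_closedPoints fQ θ.isOpenEmbedding.isOpen_range fun w hwc => ?_⟩
      obtain ⟨T, m, ⟨t, ht⟩, hm⟩ := exists_pt fQ w hwc
      let x := m ≫ fQ
      let y := m ≫ pullback.fst (E.hom ≫ g) (𝟙 _) ≫ E.hom
      have hy : y ≫ g = x := by
        simp only [y, x, fQ, Category.assoc]
        rw [pullback.condition, Category.comp_id]
      let d := Compat.ofPoint D (i := PUnit.unit)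
        (⟨m ≫ pullback.fst (E.hom ≫ g) (𝟙 _), Category.assoc _ _ _⟩ : Lifts E y) x hy
      obtain ⟨p, hpx, hpd⟩ : ∃ (p : T ⟶ X) (hp : p ≫ f = x), c.res p x hp = d := by
        rcases hm with hm | ⟨e, he, he'⟩
        · obtain ⟨p, hp, -⟩ := h.univ x hm d
          exact ⟨p.1, p.2, hp⟩
        · obtain ⟨p, hp⟩ := h.surj (d.res e (cpt C) he') (Finset.mem_univ _)
          have hp' : p.1 ≫ f = cpt C := p.2
          have hpx : (inv e ≫ p.1) ≫ f = x := by rw [Category.assoc, hp', IsIso.inv_comp_eq, he']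
          refine ⟨inv e ≫ p.1, hpx, ?_⟩
          have := congrArg (fun q : Compat D (cpt C) => q.res (inv e) x (by rw [IsIso.inv_comp_eq, he'])) hp
          refine ((Compat.res_res _ _ _ _ _ _ _ _ rfl _).symm.trans this).trans ?_
          exact (Compat.res_res _ _ _ _ _ _ _ _ (IsIso.inv_hom_id e) (Category.id_comp _)).trans (Compat.res_id _ _)
      let r : T ⟶ pullback g f₁ := pullback.lift y p (by rw [hy, hf₁, hpx])
      have hru : r ≫ z.1 = m ≫ pullback.fst (E.hom ≫ g) (𝟙 _) := by
        rw [← hz r (𝟙 T ≫ p) y (by simp [r]) (pullback.lift_fst _ _ _) (by rw [Category.id_comp, hy, hpx])]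
        refine Eq.trans ?_ (Compat.ofPoint_pt_self (D := D) (i := PUnit.unit)
          (⟨m ≫ pullback.fst (E.hom ≫ g) (𝟙 _), Category.assoc _ _ _⟩ : Lifts E y) hy (by rw [Category.id_comp]; exact hy))
        change _ = (d.pt (𝟙 T) (i := PUnit.unit) y _).1
        rw [← hpd]; rfl
      have hrm : r ≫ θ = m := by
        refine pullback.hom_ext ?_ ?_
        · rw [Category.assoc, pullback.lift_fst, hru]
        · rw [Category.assoc, pullback.lift_snd, pullback.lift_snd_assoc, hpx]
      exact ⟨r t, by rw [← Scheme.Hom.comp_apply, hrm, ht]⟩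
    exact (isIso_iff_isOpenImmersion_and_surjective _).2 ⟨inferInstance, inferInstance⟩
  exact ⟨Over.mk f, h.etale, isRep_of_isRepOn_id
    (isRepOn_of_isMdl (univSubmersive_of_closed_surjective g) hM)⟩

end local_

end Groth.Agent.EtRep9
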