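import Groth.Agent.EtRep9.Basic
import Groth.Agent.S2906
import Mathlib.AlgebraicGeometry.Sites.Fpqc

/-! Representability of compatible families is fpqc local on the base. -/

set_option autoImplicit false
set_option backward.isDefEq.respectTransparency false
set_option backward.isDefEq.respectTransparency.types false
set_option linter.style.haveILetI false
universe u w

open CategoryTheory CategoryTheory.Limits AlgebraicGeometry Desc

noncomputable section

namespace Groth.Agent.EtRep9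

open Groth.Agent.DescLib

variable {S S' : Scheme.{u}} {g : S' ⟶ S} {D : SchDDFam (fun _ : PUnit.{w + 1} => g)}

section descend

variable {T Q : Scheme.{u}} (π : Q ⟶ T) [Flat π] [Surjective π] [QuasiCompact π] {s : T ⟶ S}

theorem res_injective {sQ : Q ⟶ S} (hs : π ≫ s = sQ) :
    Function.Injective fun c : Compat D s => c.res π sQ hs := by
  intro c c' e
  refine Compat.ext fun T' t i y hy => ?_
  have key : ∀ d : Compat D s, pullback.fst t π ≫ (d.pt t y hy).1 =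
      ((d.res π sQ hs).pt (pullback.snd t π) (i := i) (pullback.fst t π ≫ y)
        (by rw [Category.assoc, hy, pullback.condition_assoc, hs])).1 := fun d => by
    rw [Compat.res_pt]
    exact (d.nat (pullback.fst t π) t y hy _ _ pullback.condition rfl _).symm
  rw [← cancel_epi (pullback.fst t π), key c, key c']
  exact congrArg (fun d : Compat D sQ => (d.pt (pullback.snd t π) (i := i) (pullback.fst t π ≫ y) (by
    rw [Category.assoc, hy, pullback.condition_assoc, hs])).1) e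

theorem exists_res {sQ : Q ⟶ S} (hs : π ≫ s = sQ) (cQ : Compat D sQ)
    (hagree : ∀ {T' : Scheme.{u}} (a b : T' ⟶ Q), a ≫ π = b ≫ π → ∀ (s' : T' ⟶ S) (ha : a ≫ sQ = s')
      (hb : b ≫ sQ = s'), cQ.res a s' ha = cQ.res b s' hb) :
    ∃ c : Compat D s, c.res π sQ hs = cQ := by
  have hco : ∀ {T' : Scheme.{u}} (t : T' ⟶ T) {i : PUnit.{w + 1}} (y : T' ⟶ S') (hy : y ≫ g = t ≫ s),
      (pullback.fst t π ≫ y) ≫ g = pullback.snd t π ≫ sQ := fun t i y hy => by
    rw [Category.assoc, hy, pullback.condition_assoc, hs]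
  have hex : ∀ {T' : Scheme.{u}} (t : T' ⟶ T) {i : PUnit.{w + 1}} (y : T' ⟶ S') (hy : y ≫ g = t ≫ s),
      ∃ z : T' ⟶ (D.obj i).left, pullback.fst t π ≫ z =
        (cQ.pt (pullback.snd t π) (i := i) (pullback.fst t π ≫ y) (hco (i := i) t y hy)).1 := by
    intro T' t i y hy
    have heq : ∀ {Z : Scheme.{u}} (a b : Z ⟶ pullback t π), a ≫ pullback.fst t π = b ≫ pullback.fst t π →
        a ≫ (cQ.pt (pullback.snd t π) (i := i) (pullback.fst t π ≫ y) (hco (i := i) t y hy)).1 =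
          b ≫ (cQ.pt (pullback.snd t π) (i := i) (pullback.fst t π ≫ y) (hco (i := i) t y hy)).1 := by
      intro Z a b hab
      have e1 : ∀ (d : Z ⟶ pullback t π) (hd : d ≫ pullback.fst t π = a ≫ pullback.fst t π),
          d ≫ (cQ.pt (pullback.snd t π) (i := i) (pullback.fst t π ≫ y) (hco (i := i) t y hy)).1 =
            ((cQ.res (d ≫ pullback.snd t π) (a ≫ pullback.fst t π ≫ t ≫ s) (by
              rw [Category.assoc, ← reassoc_of% hd, pullback.condition_assoc, hs])).pt (𝟙 Z) (i := i)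
                ((a ≫ pullback.fst t π) ≫ y) (by rw [Category.id_comp, Category.assoc, hy, Category.assoc])).1 := by
        intro d hd
        rw [Compat.res_pt]
        exact (cQ.nat d (pullback.snd t π) _ (hco (i := i) t y hy) _ _ (Category.id_comp _).symm
          (by rw [reassoc_of% hd, Category.assoc]) _).symm
      rw [e1 a rfl, e1 b hab.symm]
      rw [hagree (a ≫ pullback.snd t π) (b ≫ pullback.snd t π) (by
        rw [Category.assoc, Category.assoc, ← pullback.condition, reassoc_of% hab]) _ _ _]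
    exact ⟨EffectiveEpi.desc (pullback.fst t π) _ (fun a b hab => heq a b hab), EffectiveEpi.fac _ _ _⟩
  have hL : ∀ {T' : Scheme.{u}} (t : T' ⟶ T) {i : PUnit.{w + 1}} (y : T' ⟶ S') (hy : y ≫ g = t ≫ s),
      ∃ z : Lifts (D.obj i) y, pullback.fst t π ≫ z.1 =
        (cQ.pt (pullback.snd t π) (i := i) (pullback.fst t π ≫ y) (hco (i := i) t y hy)).1 := fun t i y hy => by
    obtain ⟨z, hz⟩ := hex (i := i) t y hy
    refine ⟨⟨z, ?_⟩, hz⟩
    rw [← cancel_epi (pullback.fst t π), reassoc_of% hz]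
    exact (cQ.pt _ _ _).2
  choose L hL using @hL
  refine ⟨{ pt := fun T' t i y hy => L t (i := i) y hy, nat := ?_, comp := ?_ }, ?_⟩
  · intro T' T'' r t i y hy t' y' hr hy₁ hy'
    subst hr hy₁
    rw [← cancel_epi (pullback.fst (r ≫ t) π), hL]
    let m : pullback (r ≫ t) π ⟶ pullback t π :=
      pullback.lift (pullback.fst _ _ ≫ r) (pullback.snd _ _) (by rw [Category.assoc, pullback.condition])
    have hm : m ≫ pullback.fst t π = pullback.fst (r ≫ t) π ≫ r := pullback.lift_fst _ _ _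
    refine Eq.trans ?_ (((congrArg (m ≫ ·) (hL t (i := i) y hy)).symm).trans
      (((Category.assoc _ _ _).symm.trans (congrArg (· ≫ (L t (i := i) y hy).1) hm)).trans (Category.assoc _ _ _)))
    exact cQ.nat m (pullback.snd t π) _ (hco (i := i) t y hy) _ _ (pullback.lift_snd _ _ _)
      ((Category.assoc _ _ _).symm.trans ((congrArg (· ≫ y) hm).trans (Category.assoc _ _ _))) _
  · intro T' t i k y y' h h'
    refine Subtype.ext ?_
    rw [← cancel_epi (pullback.fst t π), hL, ← cQ.comp (pullback.snd t π) (i := i) (k := k) (pullback.fst t π ≫ y)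
      (pullback.fst t π ≫ y') (hco (i := i) t y h) (hco (i := k) t y' h')]
    exact (D.φ_natural (pullback.fst t π) y y' _ _ _ rfl rfl _ _ _ (hL t (i := i) y h).symm).symm
  · refine Compat.ext fun T' t i y hy => ?_
    rw [Compat.res_pt, ← cancel_epi (pullback.fst (t ≫ π) π), hL]
    have hy2 : (pullback.fst (t ≫ π) π ≫ y) ≫ g = (pullback.fst (t ≫ π) π ≫ t) ≫ sQ := by
      rw [Category.assoc, Category.assoc]
      exact congrArg (pullback.fst (t ≫ π) π ≫ ·) hy
    rw [← cQ.nat (pullback.fst (t ≫ π) π) t y hy _ _ rfl rfl hy2]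
    have hcond : pullback.snd (t ≫ π) π ≫ π = (pullback.fst (t ≫ π) π ≫ t) ≫ π := by
      rw [← pullback.condition, Category.assoc]
    have key := hagree (pullback.snd (t ≫ π) π) (pullback.fst (t ≫ π) π ≫ t) hcond
      ((pullback.fst (t ≫ π) π ≫ t) ≫ sQ) (by rw [← hs, reassoc_of% hcond]; simp) rfl
    have := congrArg (fun d : Compat D ((pullback.fst (t ≫ π) π ≫ t) ≫ sQ) =>
      (d.pt (𝟙 _) (i := i) (pullback.fst (t ≫ π) π ≫ y) (by rw [Category.id_comp]; exact hy2)).1) key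
    simp only [Compat.res_pt] at this
    refine Eq.trans ?_ (this.trans (cQ.pt_congr (Category.id_comp _) rfl _ _))
    exact cQ.pt_congr (Category.id_comp _).symm rfl _ _

end descend

section main

variable {S₁ : Scheme.{u}} {p : S₁ ⟶ S} [Flat p] [Surjective p] [QuasiCompact p]

/-- An etale separated quasi-compact scheme representing the datum over a cover descends. -/
theorem exists_isRep_of_cover {U₁ : Over S₁} [QuasiCompact U₁.hom] [IsSeparated U₁.hom] [Etale U₁.hom]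
    (h : IsRep (Dj p D) U₁) :
    ∃ U : Over S, Etale U.hom ∧ IsSeparated U.hom ∧ QuasiCompact U.hom ∧ IsRep D U := by
  obtain ⟨c₁, hu₁⟩ := repOn_of_isRep h
  let ev : ∀ {T : Scheme.{u}} (x : T ⟶ S₁) (_ : Lifts U₁ x) (s : T ⟶ S) (_ : x ≫ p = s), Compat D s :=
    fun x v s hx => c₁.res v.1 s (by rw [← Category.assoc, v.2, hx])
  have hev : ∀ {T : Scheme.{u}} (x : T ⟶ S₁) (s : T ⟶ S) (hx : x ≫ p = s) (c : Compat D s),
      ∃! v : Lifts U₁ x, ev x v s hx = c := fun x s hx c => by subst hx; exact hu₁ x c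
  have hinj : ∀ {T : Scheme.{u}} (x : T ⟶ S₁) (s : T ⟶ S) (hx : x ≫ p = s) (v v' : Lifts U₁ x),
      ev x v s hx = ev x v' s hx → v = v' := fun x s hx v v' e => (hev x s hx _).unique e rfl
  choose F hF _ using fun {T : Scheme.{u}} (x₀ x₁ : T ⟶ S₁) (h : x₀ ≫ p = x₁ ≫ p) (v : Lifts U₁ x₀) =>
    hev x₁ (x₁ ≫ p) rfl (ev x₀ v (x₁ ≫ p) h)
  have hF' : ∀ {T : Scheme.{u}} (x₀ x₁ : T ⟶ S₁) (h : x₀ ≫ p = x₁ ≫ p) (v : Lifts U₁ x₀) (s : T ⟶ S)
      (hs : x₁ ≫ p = s), ev x₁ (F x₀ x₁ h v) s hs = ev x₀ v s (h.trans hs) := fun x₀ x₁ h v s hs => by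
    subst hs; exact hF x₀ x₁ h v
  have hFcomp : ∀ {T : Scheme.{u}} (x₀ x₁ x₂ : T ⟶ S₁) (h₀₁ : x₀ ≫ p = x₁ ≫ p) (h₁₂ : x₁ ≫ p = x₂ ≫ p)
      (v : Lifts U₁ x₀), F x₁ x₂ h₁₂ (F x₀ x₁ h₀₁ v) = F x₀ x₂ (h₀₁.trans h₁₂) v := fun x₀ x₁ x₂ h₀₁ h₁₂ v =>
    hinj x₂ (x₂ ≫ p) rfl _ _ (by rw [hF' _ _ _ _ _ rfl, hF' _ _ _ _ _ h₁₂, hF' _ _ _ _ _ rfl])
  have hFself : ∀ {T : Scheme.{u}} (x : T ⟶ S₁) (v : Lifts U₁ x), F x x rfl v = v := fun x v =>
    hinj x (x ≫ p) rfl _ _ (hF x x rfl v)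
  let DD : SchDD p :=
    { obj := U₁
      φ := fun T x₀ x₁ h => ⟨F x₀ x₁ h, F x₁ x₀ h.symm,
        fun v => (hFcomp _ _ _ _ _ v).trans (hFself x₀ v), fun v => (hFcomp _ _ _ _ _ v).trans (hFself x₁ v)⟩
      φ_natural := fun T T' r x₀ x₁ h h' v v' hv => by
        let v₂ : Lifts U₁ (r ≫ x₁) := ⟨r ≫ (F x₀ x₁ h v).1, by rw [Category.assoc, (F x₀ x₁ h v).2]⟩
        refine congrArg Subtype.val (hinj (r ≫ x₁) ((r ≫ x₁) ≫ p) rfl (F _ _ h' v') v₂ ?_)
        rw [hF]
        have e2 : ev (r ≫ x₁) v₂ ((r ≫ x₁) ≫ p) rfl =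
            (ev x₁ (F x₀ x₁ h v) (x₁ ≫ p) rfl).res r _ (Category.assoc _ _ _).symm :=
          (Compat.res_res _ _ _ _ _ _ _ _ rfl _).symm
        rw [e2, hF]
        exact (Compat.res_res _ _ _ _ _ _ _ _ hv.symm _).symm
      φ_self := fun T x v => hFself x v
      φ_comp := fun T x₀ x₁ x₂ h₀₁ h₁₂ v => hFcomp x₀ x₁ x₂ h₀₁ h₁₂ v }
  haveI : QuasiCompact DD.obj.hom := inferInstanceAs (QuasiCompact U₁.hom)
  haveI : IsSeparated DD.obj.hom := inferInstanceAs (IsSeparated U₁.hom)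
  haveI : Etale DD.obj.hom := inferInstanceAs (Etale U₁.hom)
  obtain ⟨U, hUqc, hUsep, hUet, ⟨I⟩⟩ := Groth.Agent.S2906.result p DD
  refine ⟨U, hUet, hUsep, hUqc, ?_⟩
  let ψ : pullback p U.hom ⟶ U₁.left := I.hom.hom.left
  let ψ' : U₁.left ⟶ pullback p U.hom := I.inv.hom.left
  have hψψ' : ψ ≫ ψ' = 𝟙 _ := congrArg (fun f => Over.Hom.left (SchDD.Hom.hom f)) I.hom_inv_id
  have hψ'ψ : ψ' ≫ ψ = 𝟙 _ := congrArg (fun f => Over.Hom.left (SchDD.Hom.hom f)) I.inv_hom_id
  have hψw : ψ ≫ U₁.hom = pullback.fst p U.hom := Over.w I.hom.hom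
  have hψ'w : ψ' ≫ pullback.fst p U.hom = U₁.hom := Over.w I.inv.hom
  let sQ : pullback p U.hom ⟶ S := pullback.snd p U.hom ≫ U.hom
  let cQ : Compat D sQ := c₁.res ψ sQ (by rw [reassoc_of% hψw, pullback.condition])
  obtain ⟨c₀, hc₀⟩ := exists_res (pullback.snd p U.hom) (s := U.hom) rfl cQ fun {T'} a b hab s' ha hb => by
    have hab' : (a ≫ pullback.fst p U.hom) ≫ p = (b ≫ pullback.fst p U.hom) ≫ p := by
      simp only [Category.assoc, pullback.condition, reassoc_of% hab]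
    let va : Lifts U₁ (a ≫ pullback.fst p U.hom) := ⟨a ≫ ψ, by rw [Category.assoc, hψw]⟩
    let vb : Lifts U₁ (b ≫ pullback.fst p U.hom) := ⟨b ≫ ψ, by rw [Category.assoc, hψw]⟩
    have hb' : (b ≫ pullback.fst p U.hom) ≫ p = s' := by
      rw [Category.assoc, pullback.condition]; exact hb
    have hvb : F _ _ hab' va = vb := by
      refine Subtype.ext ((I.hom.comm _ _ hab' ⟨a, rfl⟩ va rfl).trans ?_)
      change _ ≫ ψ = b ≫ ψ
      congr 1
      change pullback.lift _ _ _ = b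
      exact pullback.hom_ext (pullback.lift_fst _ _ _) ((pullback.lift_snd _ _ _).trans hab)
    have e := hF' _ _ hab' va s' hb'
    rw [hvb] at e
    refine ((Compat.res_res _ _ _ _ _ _ _ _ rfl ?_).trans e.symm).trans (Compat.res_res _ _ _ _ _ _ _ _ rfl _).symm
    rw [Category.assoc, reassoc_of% hψw, pullback.condition]
    exact ha
  have hkey : ∀ {T : Scheme.{u}} (x : T ⟶ S₁) (v : Lifts U (x ≫ p)) (b : T ⟶ pullback p U.hom),
      b ≫ pullback.fst p U.hom = x → b ≫ pullback.snd p U.hom = v.1 → ∀ hbb : (b ≫ ψ) ≫ U₁.hom = x,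
      c₀.res v.1 (x ≫ p) v.2 = ev x ⟨b ≫ ψ, hbb⟩ (x ≫ p) rfl := by
    intro T x v b hb1 hb2 hbb
    have hsq : b ≫ sQ = x ≫ p := by
      change b ≫ pullback.snd p U.hom ≫ U.hom = _
      rw [reassoc_of% hb2]; exact v.2
    refine Eq.trans ?_ (((congrArg (fun d : Compat D sQ => d.res b (x ≫ p) hsq) hc₀)).trans
      (Compat.res_res _ _ _ _ _ _ _ _ rfl _))
    exact ((Compat.res_res _ _ _ _ _ _ _ _ hb2 _)).symm
  have hQ : ∀ {T : Scheme.{u}} (x : T ⟶ S₁) (c : Compat D (x ≫ p)),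
      ∃! w : Lifts U (x ≫ p), c₀.res w.1 (x ≫ p) w.2 = c := by
    intro T x c
    obtain ⟨v, hv, huniq⟩ := hev x (x ≫ p) rfl c
    let b : T ⟶ pullback p U.hom := v.1 ≫ ψ'
    have hb : b ≫ pullback.fst p U.hom = x := by rw [Category.assoc, hψ'w]; exact v.2
    have hbw : (b ≫ pullback.snd p U.hom) ≫ U.hom = x ≫ p := by
      rw [Category.assoc, ← pullback.condition, reassoc_of% hb]
    have hbψ : b ≫ ψ = v.1 := by rw [Category.assoc, hψ'ψ, Category.comp_id]
    refine ⟨⟨b ≫ pullback.snd p U.hom, hbw⟩, ?_, fun q hq => ?_⟩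
    · refine (hkey x ⟨_, hbw⟩ b hb rfl (by rw [hbψ]; exact v.2)).trans ?_
      rw [show (⟨b ≫ ψ, _⟩ : Lifts U₁ x) = v from Subtype.ext hbψ]
      exact hv
    · let bq : T ⟶ pullback p U.hom := pullback.lift x q.1 q.2.symm
      have hbq : (bq ≫ ψ) ≫ U₁.hom = x := by rw [Category.assoc, hψw]; exact pullback.lift_fst _ _ _
      have e := huniq ⟨bq ≫ ψ, hbq⟩ ((hkey x q bq (pullback.lift_fst _ _ _) (pullback.lift_snd _ _ _) hbq).symm.trans hq)
      refine Subtype.ext ?_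
      change q.1 = b ≫ _
      have e' : bq = b := by
        have e1 : bq ≫ ψ = v.1 := congrArg Subtype.val e
        calc bq = bq ≫ ψ ≫ ψ' := by rw [hψψ', Category.comp_id]
          _ = v.1 ≫ ψ' := by rw [← Category.assoc, e1]
      rw [← e']; exact (pullback.lift_snd _ _ _).symm
  refine ⟨c₀, fun T s c => ?_⟩
  let q := pullback.snd p s
  let x := pullback.fst p s
  have hq : q ≫ s = x ≫ p := pullback.condition.symm
  obtain ⟨w, hw, -⟩ := hQ x (c.res q _ hq)
  have hco : ∀ {Z : Scheme.{u}} (a b : Z ⟶ pullback p s), a ≫ q = b ≫ q → a ≫ w.1 = b ≫ w.1 := by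
    intro Z a b hab
    have hbs : (b ≫ w.1) ≫ U.hom = (a ≫ x) ≫ p := by
      rw [Category.assoc, w.2, ← hq, ← reassoc_of% hab, hq, Category.assoc]
    have has : (a ≫ w.1) ≫ U.hom = (a ≫ x) ≫ p := by rw [Category.assoc, w.2, Category.assoc]
    refine congrArg Subtype.val ((hQ (a ≫ x) (c.res (a ≫ q) _ (by rw [Category.assoc, hq, Category.assoc]))).unique
      (y₁ := ⟨a ≫ w.1, has⟩) (y₂ := ⟨b ≫ w.1, hbs⟩) ?_ ?_)
    · have := congrArg (fun d : Compat D (x ≫ p) => d.res a ((a ≫ x) ≫ p) (Category.assoc _ _ _).symm) hw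
      exact ((Compat.res_res _ _ _ _ _ _ _ _ rfl _).symm.trans this).trans (Compat.res_res _ _ _ _ _ _ _ _ rfl _)
    · have hbx : b ≫ x ≫ p = (a ≫ x) ≫ p := by rw [← hq, ← reassoc_of% hab, hq, Category.assoc]
      have := congrArg (fun d : Compat D (x ≫ p) => d.res b ((a ≫ x) ≫ p) hbx) hw
      exact ((Compat.res_res _ _ _ _ _ _ _ _ rfl _).symm.trans this).trans (Compat.res_res _ _ _ _ _ _ _ _ hab.symm _)
  let a : T ⟶ U.left := EffectiveEpi.desc q w.1 (fun a b hab => hco a b hab)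
  have hqa : q ≫ a = w.1 := EffectiveEpi.fac _ _ _
  have ha : a ≫ U.hom = s := by rw [← cancel_epi q, reassoc_of% hqa, w.2, hq]
  refine ⟨⟨a, ha⟩, res_injective q hq ?_, fun b hb => Subtype.ext ?_⟩
  · exact ((Compat.res_res _ _ _ _ _ _ _ _ hqa _).trans hw)
  · rw [← cancel_epi q, hqa]
    refine congrArg Subtype.val ((hQ x (c.res q _ hq)).unique (y₁ := ⟨q ≫ b.1, by rw [Category.assoc, b.2, hq]⟩) ?_ hw)
    rw [← hb]
    exact (Compat.res_res _ _ _ _ _ _ _ _ rfl _).symm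

end main

end Groth.Agent.EtRep9
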