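import Groth.Agent.EtFound.Henselian
import Groth.Agent.Hensel.Local
import Groth.Agent.Pi1X.FEtBasic
import Groth.Agent.S0505
import Mathlib.AlgebraicGeometry.AlgClosed.Basic

/-! Closed points and sections of etale schemes over strictly henselian rings. -/

set_option autoImplicit false
set_option backward.isDefEq.respectTransparency false
set_option backward.isDefEq.respectTransparency.types false
set_option linter.style.haveILetI false
universe u

open CategoryTheory CategoryTheory.Limits AlgebraicGeometry IsLocalRing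

noncomputable section

namespace Groth.Agent.EtRep9

open Groth.Agent.EtFound (cpt cpt_base)

variable (R : Type u) [CommRing R] [HenselianLocalRing R] [IsAlgClosed (ResidueField R)]

/-- A closed point over the closed point is rational. -/
theorem exists_kpt_of_isClosed {W : Scheme.{u}} (f : W ⟶ Spec (CommRingCat.of R)) [LocallyOfFiniteType f]
    (x : W) (hx : f x = closedPoint R) (hc : IsClosed ({x} : Set W)) :
    ∃ p : Spec (CommRingCat.of (ResidueField R)) ⟶ W, p ≫ f = cpt R ∧ p default = x := by
  obtain ⟨z, hz, -⟩ := Scheme.Pullback.exists_preimage_pullback (f := f) (g := cpt R) x default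
    (hx.trans (cpt_base R default).symm)
  let q := pullback.snd f (cpt R)
  haveI : IsClosedImmersion (cpt R) :=
    IsClosedImmersion.spec_of_surjective _ Ideal.Quotient.mk_surjective
  have hzc : IsClosed ({z} : Set ↥(pullback f (cpt R))) := by
    rw [← Set.preimage_image_eq {z} (pullback.fst f (cpt R)).isClosedEmbedding.injective, Set.image_singleton, hz]
    exact hc.preimage (pullback.fst f (cpt R)).continuous
  refine ⟨pointOfClosedPoint q z hzc ≫ pullback.fst f (cpt R), ?_, ?_⟩
  · rw [Category.assoc, pullback.condition, pointOfClosedPoint_comp_assoc]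
  · rw [Scheme.Hom.comp_apply, pointOfClosedPoint_apply, hz]

/-- A closed subset of a scheme universally closed over the base has a rational point. -/
theorem exists_kpt_mem {W : Scheme.{u}} (f : W ⟶ Spec (CommRingCat.of R)) [LocallyOfFiniteType f]
    [UniversallyClosed f] {Z : Set W} (hZ : IsClosed Z) (hne : Z.Nonempty) :
    ∃ p : Spec (CommRingCat.of (ResidueField R)) ⟶ W, p ≫ f = cpt R ∧ p default ∈ Z := by
  haveI : CompactSpace W := QuasiCompact.compactSpace_of_compactSpace f
  obtain ⟨m, hm, hmc⟩ := hZ.exists_closed_singleton hne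
  have hfm : f m = closedPoint R := by
    have hc : IsClosed ({f m} : Set ↥(Spec (CommRingCat.of R))) := by
      rw [← Set.image_singleton]
      exact f.isClosedMap _ hmc
    exact ((specializes_closedPoint (f m)).mem_closed hc rfl).symm
  obtain ⟨p, hp, hpm⟩ := exists_kpt_of_isClosed R f m hfm hmc
  exact ⟨p, hp, hpm ▸ hm⟩

/-- A point of a locally quasi-finite scheme over the closed point is rational. -/
theorem exists_kpt {W : Scheme.{u}} (f : W ⟶ Spec (CommRingCat.of R)) [LocallyOfFiniteType f]
    [LocallyQuasiFinite f] (x : W) (hx : f x = closedPoint R) :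
    ∃ p : Spec (CommRingCat.of (ResidueField R)) ⟶ W, p ≫ f = cpt R ∧ p default = x := by
  obtain ⟨z, hz, -⟩ := Scheme.Pullback.exists_preimage_pullback (f := f) (g := cpt R) x default
    (hx.trans (cpt_base R default).symm)
  let q := pullback.snd f (cpt R)
  have hd : DiscreteTopology ↥(pullback f (cpt R)) := by
    rw [← isDiscrete_univ_iff]
    have h := q.isDiscrete_preimage_singleton default
    rwa [show q ⁻¹' {(default : ↥(Spec (CommRingCat.of (ResidueField R))))} = Set.univ from
      Set.eq_univ_of_forall fun a => Subsingleton.elim _ _] at h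
  refine ⟨pointOfClosedPoint q z (isClosed_discrete _) ≫ pullback.fst f (cpt R), ?_, ?_⟩
  · rw [Category.assoc, pullback.condition, pointOfClosedPoint_comp_assoc]
  · rw [Scheme.Hom.comp_apply, pointOfClosedPoint_apply, hz]

/-- A rational point is determined by its image. -/
theorem kpt_ext {W : Scheme.{u}} (f : W ⟶ Spec (CommRingCat.of R)) [LocallyOfFiniteType f]
    {p q : Spec (CommRingCat.of (ResidueField R)) ⟶ W} (hp : p ≫ f = cpt R) (hq : q ≫ f = cpt R)
    (e : p default = q default) : p = q := by
  let p' := pullback.lift p (𝟙 _) (hp.trans (Category.id_comp _).symm)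
  let q' := pullback.lift q (𝟙 _) (hq.trans (Category.id_comp _).symm)
  haveI : IsClosedImmersion (cpt R) :=
    IsClosedImmersion.spec_of_surjective _ Ideal.Quotient.mk_surjective
  have e' : p' (IsLocalRing.closedPoint _) = q' (IsLocalRing.closedPoint _) := by
    apply (pullback.fst f (cpt R)).isClosedEmbedding.injective
    rw [← Scheme.Hom.comp_apply, ← Scheme.Hom.comp_apply, pullback.lift_fst, pullback.lift_fst]
    convert e using 2 <;> exact Subsingleton.elim _ _
  have := ext_of_apply_closedPoint_eq (pullback.snd f (cpt R)) (pullback.lift_snd _ _ _)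
    (pullback.lift_snd _ _ _) e'
  rw [← pullback.lift_fst (f := f) (g := cpt R) p (𝟙 _) (hp.trans (Category.id_comp _).symm), this,
    pullback.lift_fst]

/-- Two morphisms of a finite scheme into an etale one agreeing at the rational points agree. -/
theorem hom_ext_kpt {W E Z : Scheme.{u}} (f : W ⟶ Spec (CommRingCat.of R)) [LocallyOfFiniteType f] [UniversallyClosed f]
    (π : E ⟶ Z) [Etale π]
    {s t : W ⟶ E} (h : s ≫ π = t ≫ π)
    (hk : ∀ p : Spec (CommRingCat.of (ResidueField R)) ⟶ W, p ≫ f = cpt R → p ≫ s = p ≫ t) : s = t := by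
  let u₁ : Over.mk (s ≫ π) ⟶ Over.mk π := Over.homMk s rfl
  let v₁ : Over.mk (s ≫ π) ⟶ Over.mk π := Over.homMk t h.symm
  haveI : FormallyUnramified (Over.mk π).hom := inferInstanceAs (FormallyUnramified π)
  haveI : LocallyOfFiniteType (Over.mk π).hom := inferInstanceAs (LocallyOfFiniteType π)
  haveI := Groth.Agent.Pi1X.isOpenImmersion_equalizer_ι_left u₁ v₁
  let i := (equalizer.ι u₁ v₁).left
  haveI : Surjective i := by
    refine ⟨fun x => ?_⟩
    obtain ⟨p, hp, hm⟩ := exists_kpt_mem R f (isClosed_closure (s := ({x} : Set W))) ⟨x, subset_closure rfl⟩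
    let z : Over.mk (p ≫ s ≫ π) ⟶ Over.mk (s ≫ π) := Over.homMk p rfl
    have hz : z ≫ u₁ = z ≫ v₁ := Over.OverMorphism.ext (hk p hp)
    refine ((specializes_iff_mem_closure.2 hm).mem_open i.isOpenEmbedding.isOpen_range ?_)
    refine ⟨(equalizer.lift z hz).left (default : ↥(Spec (CommRingCat.of (ResidueField R)))), ?_⟩
    rw [← Scheme.Hom.comp_apply, ← Over.comp_left, equalizer.lift_ι]
    rfl
  haveI : IsIso i := (isIso_iff_isOpenImmersion_and_surjective _).2 ⟨inferInstance, inferInstance⟩
  rw [← cancel_epi i]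
  exact congr($(equalizer.condition u₁ v₁).left)

/-- Prescribed values at the rational points extend uniquely to a section. -/
theorem exists_section {W E : Scheme.{u}} (f : W ⟶ Spec (CommRingCat.of R)) [IsFinite f] (π : E ⟶ W) [Etale π]
    (e : ∀ p : Spec (CommRingCat.of (ResidueField R)) ⟶ W, p ≫ f = cpt R →
      { a : Spec (CommRingCat.of (ResidueField R)) ⟶ E // a ≫ π = p }) :
    ∃ s : W ⟶ E, s ≫ π = 𝟙 W ∧
      ∀ (p : Spec (CommRingCat.of (ResidueField R)) ⟶ W) (hp : p ≫ f = cpt R), p ≫ s = (e p hp).1 := by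
  classical
  haveI : IsAffine W := isAffine_of_isAffineHom f
  let B := Γ(W, ⊤)
  let φ : CommRingCat.of R ⟶ B := Spec.preimage (W.isoSpec.inv ≫ f)
  have hφ : Spec.map φ = W.isoSpec.inv ≫ f := Spec.map_preimage _
  have hfin : φ.hom.Finite := by
    have h : IsFinite (Spec.map φ) := by rw [hφ]; infer_instance
    exact (IsFinite.SpecMap_iff φ).1 h
  letI : Algebra R B := φ.hom.toAlgebra
  haveI : Module.Finite R B := hfin
  obtain ⟨_, ei, he, hM⟩ := Groth.Agent.Hensel.exists_idempotents_of_henselian R B
  obtain ⟨ι, hι, A, hA, hloc, ⟨eq⟩⟩ := Groth.Agent.Hensel.exists_ringEquiv_pi_isLocalRing_of_idempotents he hM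
  let T : ι → Scheme.{u} := fun i => Spec (CommRingCat.of (A i))
  let G : (∐ T) ⟶ W := sigmaSpec (fun i => CommRingCat.of (A i)) ≫
    Spec.map (CommRingCat.ofHom eq.toRingHom) ≫ W.isoSpec.inv
  haveI : IsIso (CommRingCat.ofHom eq.toRingHom) := eq.toCommRingCatIso.isIso_hom
  haveI : IsIso (sigmaSpec fun i => CommRingCat.of (A i)) := inferInstance
  haveI : IsIso G := inferInstance
  let w : ∀ i, T i ⟶ W := fun i => Sigma.ι T i ≫ G
  have hw : ∀ i, w i ≫ f = Spec.map (φ ≫ CommRingCat.ofHom eq.toRingHom ≫
      CommRingCat.ofHom (Pi.evalRingHom _ i)) := by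
    intro i
    simp only [w, G, Category.assoc, T]
    rw [ι_sigmaSpec_assoc, ← hφ, ← Spec.map_comp_assoc, ← Spec.map_comp]
  have key : ∀ i, ∃ s : T i ⟶ E, s ≫ π = w i ∧
      ∀ (q : Spec (CommRingCat.of (ResidueField R)) ⟶ T i) (hq : q ≫ w i ≫ f = cpt R),
        q ≫ s = (e (q ≫ w i) (by rw [Category.assoc]; exact hq)).1 := by
    intro i
    haveI := hloc i
    let r : R →+* A i := ((Pi.evalRingHom _ i).comp eq.toRingHom).comp φ.hom
    have hr : w i ≫ f = Spec.map (CommRingCat.ofHom r) := hw i
    letI : Algebra R (A i) := r.toAlgebra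
    haveI : Module.Finite R (A i) :=
      Module.Finite.of_surjective (({ (Pi.evalRingHom _ i).comp eq.toRingHom with
        commutes' := fun _ => rfl } : B →ₐ[R] A i)).toLinearMap
        ((Function.surjective_eval i).comp eq.surjective)
    haveI : HenselianLocalRing (A i) := Groth.Agent.S0505.result R (A i)
    haveI : IsLocalHom (algebraMap R (A i)) := ⟨fun a ha => by_contra fun hna => by
      have hm : (maximalIdeal (A i)).comap (algebraMap R (A i)) = maximalIdeal R :=
        IsLocalRing.eq_maximalIdeal (Ideal.isMaximal_comap_of_isIntegral_of_isMaximal _)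
      exact (mem_maximalIdeal _).1 (Ideal.mem_comap.1 (hm.ge ((mem_maximalIdeal a).2 hna))) ha⟩
    have hbij : Function.Bijective (algebraMap (ResidueField R) (ResidueField (A i))) :=
      IsAlgClosed.algebraMap_bijective_of_isIntegral
    haveI : IsAlgClosed (ResidueField (A i)) := IsAlgClosed.of_ringEquiv _ _ (RingEquiv.ofBijective _ hbij)
    let ρ : CommRingCat.of (ResidueField R) ⟶ CommRingCat.of (ResidueField (A i)) :=
      CommRingCat.ofHom (algebraMap (ResidueField R) (ResidueField (A i)))
    haveI : IsIso ρ := (ConcreteCategory.isIso_iff_bijective _).2 hbij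
    let q₀ : Spec (CommRingCat.of (ResidueField R)) ⟶ T i := inv (Spec.map ρ) ≫ cpt (A i)
    have hq₀ : q₀ ≫ w i ≫ f = cpt R := by
      rw [hr, Category.assoc, IsIso.inv_comp_eq, ← Spec.map_comp, ← Spec.map_comp]
      congr 1
    let a := (e (q₀ ≫ w i) (by rw [Category.assoc]; exact hq₀))
    let u₀ : Spec (CommRingCat.of (ResidueField (A i))) ⟶ pullback π (w i) :=
      pullback.lift (Spec.map ρ ≫ a.1) (cpt (A i)) (by
        rw [Category.assoc, a.2]; simp [q₀])
    obtain ⟨σ, ⟨hσ₁, hσ₂⟩, -⟩ :=
      Groth.Agent.EtFound.existsUnique_section (A i) (pullback.snd π (w i)) u₀ (pullback.lift_snd _ _ _)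
    refine ⟨σ ≫ pullback.fst π (w i), ?_, fun q hq => ?_⟩
    · rw [Category.assoc, pullback.condition, reassoc_of% hσ₁]
    · haveI : LocallyOfFiniteType (w i ≫ f) := by
        rw [hr]
        exact (HasRingHomProperty.Spec_iff (P := @LocallyOfFiniteType)).2
          (RingHom.finiteType_algebraMap.2 inferInstance)
      obtain rfl : q = q₀ := by
        refine kpt_ext R (w i ≫ f) hq hq₀ ?_
        have hsp : ∀ t : T i, f (w i t) = closedPoint R → t = closedPoint (A i) := fun t ht => by
          haveI : IsIntegralHom (Spec.map (CommRingCat.ofHom r)) := by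
            rw [IsIntegralHom.SpecMap_iff]
            exact algebraMap_isIntegral_iff.2 inferInstance
          refine PrimeSpectrum.ext (IsLocalRing.eq_maximalIdeal ?_)
          refine Ideal.isMaximal_of_isIntegral_of_isMaximal_comap (R := R) _ ?_
          have e1 : Spec.map (CommRingCat.ofHom r) t = closedPoint R := by
            rw [← hr, Scheme.Hom.comp_apply]; exact ht
          have e2 := congrArg PrimeSpectrum.asIdeal e1
          exact (show Ideal.comap (algebraMap R (A i)) t.asIdeal = maximalIdeal R from e2) ▸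
            maximalIdeal.isMaximal R
        rw [hsp (q default) (by rw [← Scheme.Hom.comp_apply, ← Scheme.Hom.comp_apply, hq]; exact cpt_base R default),
          hsp (q₀ default) (by rw [← Scheme.Hom.comp_apply, ← Scheme.Hom.comp_apply, hq₀]; exact cpt_base R default)]
      change (inv (Spec.map ρ) ≫ cpt (A i)) ≫ σ ≫ pullback.fst π (w i) = a.1
      rw [Category.assoc, reassoc_of% hσ₂, pullback.lift_fst, IsIso.inv_hom_id_assoc]
  choose s hs₁ hs₂ using key
  refine ⟨inv G ≫ Sigma.desc s, ?_, fun p hp => ?_⟩
  · rw [Category.assoc, IsIso.inv_comp_eq, Category.comp_id]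
    exact Sigma.hom_ext _ _ fun i => by rw [Sigma.ι_desc_assoc, hs₁]
  · obtain ⟨i, y, hy⟩ := (sigmaOpenCover T).exists_eq ((p ≫ inv G) default)
    have hr : Set.range (p ≫ inv G) ⊆ Set.range (Sigma.ι T i) := by
      rintro _ ⟨b, rfl⟩
      rw [Subsingleton.elim b default]
      exact ⟨y, hy⟩
    let q := IsOpenImmersion.lift (Sigma.ι T i) (p ≫ inv G) hr
    have hq : q ≫ Sigma.ι T i = p ≫ inv G := IsOpenImmersion.lift_fac _ _ _
    have hqw : q ≫ w i = p := by simp only [w]; rw [reassoc_of% hq, IsIso.inv_hom_id, Category.comp_id]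
    rw [← reassoc_of% hq, Sigma.ι_desc, hs₂ i q (by rw [← Category.assoc, hqw]; exact hp)]
    have key : ∀ (p' : Spec (CommRingCat.of (ResidueField R)) ⟶ W) (hp' : p' ≫ f = cpt R), p' = p →
        (e p' hp').1 = (e p hp).1 := by rintro p' hp' rfl; rfl
    exact key _ _ hqw

end Groth.Agent.EtRep9
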