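import Groth.Agent.EtRep9.Basic

/-! Representing schemes in terms of one morphism, and change of the base. -/

set_option autoImplicit false
set_option backward.isDefEq.respectTransparency false
set_option backward.isDefEq.respectTransparency.types false
set_option linter.style.haveILetI false
universe u w

open CategoryTheory CategoryTheory.Limits AlgebraicGeometry Desc

noncomputable section

namespace Groth.Agent.EtRep9

open Groth.Agent.DescLib

variable {S S' : Scheme.{u}} {g : S' ⟶ S} (D : SchDDFam (fun _ : PUnit.{w + 1} => g))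
  {S₁ : Scheme.{u}} (j : S₁ ⟶ S)

/-- `U` represents the compatible families on schemes over `S₁`. -/
def IsRepOn (U : Over S₁) : Prop :=
  ∃ c₀ : Compat D (U.hom ≫ j), ∀ ⦃T : Scheme.{u}⦄ (x : T ⟶ S₁) (s : T ⟶ S) (hs : x ≫ j = s) (c : Compat D s),
    ∃! p : Lifts U x, c₀.res p.1 s (by rw [← Category.assoc, p.2, hs]) = c

variable {D j}

theorem isRepOn_of_isRep {U : Over S₁} (h : IsRep (Dj j D) U) : IsRepOn D j U := by
  obtain ⟨c₀, hu⟩ := repOn_of_isRep h
  exact ⟨c₀, fun T x s hs c => by subst hs; exact hu x c⟩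

theorem isRep_of_isRepOn {U : Over S₁} (h : IsRepOn D j U) : IsRep (Dj j D) U := by
  obtain ⟨c₀, hu⟩ := h
  refine ⟨c₀.pull _ rfl, fun T x c' => ?_⟩
  obtain ⟨c, rfl⟩ := (pull_bijective (j := j) (x := x) rfl).2 c'
  obtain ⟨p, hp, huniq⟩ := hu x (x ≫ j) rfl c
  have hj : ∀ q : Lifts U x, q.1 ≫ U.hom ≫ j = x ≫ j := fun q => by rw [← Category.assoc, q.2]
  refine ⟨p, ?_, fun q hq => huniq q ((pull_bijective (j := j) rfl).1 ?_)⟩
  · exact (Compat.pull_res _ rfl c₀ p.1 x p.2 _ (hj p) rfl).symm.trans (congrArg (Compat.pull _ rfl) hp)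
  · exact (Compat.pull_res _ rfl c₀ q.1 x q.2 _ (hj q) rfl).trans hq

/-- Change of the base. -/
theorem isRepOn_bc {S₂ : Scheme.{u}} (k : S₂ ⟶ S₁) {j' : S₂ ⟶ S} (hk : k ≫ j = j') {U : Over S₁}
    (h : IsRepOn D j U) : IsRepOn D j' (Over.mk (pullback.snd U.hom k)) := by
  obtain ⟨c₀, hu⟩ := h
  refine ⟨c₀.res (pullback.fst U.hom k) (pullback.snd U.hom k ≫ j')
    (by rw [← hk, pullback.condition_assoc]), fun T x s hs c => ?_⟩
  obtain ⟨p, hp, huniq⟩ := hu (x ≫ k) s (by rw [Category.assoc, hk, hs]) c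
  refine ⟨⟨pullback.lift p.1 x p.2, pullback.lift_snd _ _ _⟩, ?_, fun q hq => ?_⟩
  · refine Eq.trans ?_ hp
    exact Compat.res_res _ _ _ _ _ _ _ _ (pullback.lift_fst _ _ _) _
  · have e : q.1 ≫ pullback.snd U.hom k = x := q.2
    refine Subtype.ext (pullback.hom_ext ?_ (e.trans (pullback.lift_snd _ _ _).symm))
    refine Eq.trans ?_ (pullback.lift_fst _ _ _).symm
    refine congrArg Subtype.val (huniq ⟨q.1 ≫ pullback.fst U.hom k,
      by rw [Category.assoc, pullback.condition, reassoc_of% e]⟩ ?_)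
    exact (Compat.res_res _ _ _ _ _ _ _ _ rfl _).symm.trans hq

/-- The comparison with the base change of the scheme of the datum. -/
abbrev th {U : Scheme.{u}} (f : U ⟶ S₁) (u : pullback g (f ≫ j) ⟶ (D.obj PUnit.unit).left)
    (hw : u ≫ (D.obj PUnit.unit).hom ≫ g = (pullback.snd g (f ≫ j) ≫ f) ≫ j) :
    pullback g (f ≫ j) ⟶ pullback ((D.obj PUnit.unit).hom ≫ g) j :=
  pullback.lift u (pullback.snd g (f ≫ j) ≫ f) hw

theorem hw_of_hu {U : Scheme.{u}} {f : U ⟶ S₁} {u : pullback g (f ≫ j) ⟶ (D.obj PUnit.unit).left}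
    (hu : u ≫ (D.obj PUnit.unit).hom = pullback.fst g (f ≫ j)) :
    u ≫ (D.obj PUnit.unit).hom ≫ g = (pullback.snd g (f ≫ j) ≫ f) ≫ j := by
  rw [reassoc_of% hu, pullback.condition, Category.assoc]

variable (D j)

/-- A scheme over `S₁` whose base change to `S'` is the scheme of the datum, compatibly with the gluing. -/
structure IsMdl {U : Scheme.{u}} (f : U ⟶ S₁) (u : pullback g (f ≫ j) ⟶ (D.obj PUnit.unit).left) : Prop where
  hu : u ≫ (D.obj PUnit.unit).hom = pullback.fst g (f ≫ j)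
  iso : IsIso (th f u (hw_of_hu hu))
  comm : ∀ ⦃T : Scheme.{u}⦄ (a b : T ⟶ pullback g (f ≫ j))
    (h : a ≫ pullback.snd g (f ≫ j) = b ≫ pullback.snd g (f ≫ j)),
    (D.φ (a ≫ pullback.fst g (f ≫ j)) (b ≫ pullback.fst g (f ≫ j))
      (by simp only [Category.assoc, pullback.condition, reassoc_of% h]) ⟨a ≫ u, by rw [Category.assoc, hu]⟩).1 = b ≫ u

variable {D j}

theorem compat_ext {T : Scheme.{u}} {s : T ⟶ S} {c c' : Compat D s} (y : T ⟶ S') (h : y ≫ g = 𝟙 T ≫ s)
    (e : (c.pt (𝟙 T) (i := PUnit.unit) y h).1 = (c'.pt (𝟙 T) (i := PUnit.unit) y h).1) : c = c' := by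
  rw [← c.eq_ofPoint (i := PUnit.unit) y h, ← c'.eq_ofPoint (i := PUnit.unit) y h]
  congr 1
  exact Subtype.ext e

theorem exists_isMdl {U : Over S₁} (h : IsRepOn D j U) : ∃ u, IsMdl D j U.hom u := by
  obtain ⟨c₀, hu⟩ := h
  have hc : pullback.fst g (U.hom ≫ j) ≫ g = pullback.snd g (U.hom ≫ j) ≫ U.hom ≫ j := pullback.condition
  let z := c₀.pt (pullback.snd g (U.hom ≫ j)) (i := PUnit.unit) (pullback.fst g (U.hom ≫ j)) hc
  have hz : ∀ {T : Scheme.{u}} (b : T ⟶ pullback g (U.hom ≫ j)) (t : T ⟶ U.left) (y : T ⟶ S'),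
      b ≫ pullback.snd g (U.hom ≫ j) = t → b ≫ pullback.fst g (U.hom ≫ j) = y →
      ∀ h : y ≫ g = t ≫ U.hom ≫ j, (c₀.pt t (i := PUnit.unit) y h).1 = b ≫ z.1 :=
    fun b t y e1 e2 h => c₀.nat b _ _ hc t y e1 e2 h
  refine ⟨z.1, z.2, ?_, fun T a b h => ?_⟩
  · let E := D.obj PUnit.unit
    let Q := pullback (E.hom ≫ g) j
    let x : Q ⟶ S₁ := pullback.snd (E.hom ≫ g) j
    let y : Q ⟶ S' := pullback.fst (E.hom ≫ g) j ≫ E.hom
    have hy : y ≫ g = x ≫ j := by
      simp only [y, x, Category.assoc]; exact pullback.condition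
    let c : Compat D (x ≫ j) := Compat.ofPoint D (i := PUnit.unit) ⟨pullback.fst (E.hom ≫ g) j, rfl⟩ (x ≫ j) hy
    obtain ⟨p, hp, -⟩ := hu x (x ≫ j) rfl c
    have hq : y ≫ g = p.1 ≫ U.hom ≫ j := by rw [hy, ← Category.assoc p.1, p.2]
    let inv' : Q ⟶ pullback g (U.hom ≫ j) := pullback.lift y p.1 hq
    have e1 : inv' ≫ z.1 = pullback.fst (E.hom ≫ g) j := by
      rw [← hz inv' p.1 y (pullback.lift_snd _ _ _) (pullback.lift_fst _ _ _) hq]
      refine Eq.trans ?_ (Compat.ofPoint_pt_self (D := D) (i := PUnit.unit)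
        (⟨pullback.fst (E.hom ≫ g) j, rfl⟩ : Lifts E y) hy (by rw [Category.id_comp]; exact hy))
      change _ = (c.pt (𝟙 Q) (i := PUnit.unit) y _).1
      rw [← hp, Compat.res_pt]
      exact c₀.pt_congr (Category.id_comp _).symm rfl _ _
    refine ⟨inv', ?_, ?_⟩
    · let θ := th U.hom z.1 (hw_of_hu z.2)
      have eθ : θ ≫ y = pullback.fst g (U.hom ≫ j) := by
        refine (Category.assoc _ _ _).symm.trans ?_
        rw [pullback.lift_fst]; exact z.2
      refine pullback.hom_ext ?_ ?_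
      · rw [Category.assoc, pullback.lift_fst, Category.id_comp]; exact eθ
      · rw [Category.assoc, pullback.lift_snd, Category.id_comp]
        have hs : (pullback.snd g (U.hom ≫ j) ≫ U.hom) ≫ j = θ ≫ x ≫ j := by
          rw [← Category.assoc θ]
          exact congrArg (· ≫ j) (pullback.lift_snd _ _ _).symm
        refine congrArg Subtype.val ((hu (pullback.snd g (U.hom ≫ j) ≫ U.hom) _ hs (c.res θ _ rfl)).unique
          (y₁ := ⟨θ ≫ p.1, by rw [Category.assoc, p.2]; exact pullback.lift_snd _ _ _⟩)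
          (y₂ := ⟨pullback.snd g (U.hom ≫ j), rfl⟩) ?_ ?_)
        · rw [← hp]; exact (Compat.res_res _ _ _ _ _ _ _ _ rfl _).symm
        · have h1 : pullback.fst g (U.hom ≫ j) ≫ g = 𝟙 _ ≫ θ ≫ x ≫ j := by
            rw [Category.id_comp, hc, ← Category.assoc]; exact hs
          refine compat_ext (pullback.fst g (U.hom ≫ j)) h1 ?_
          simp only [Compat.res_pt]
          rw [hz (𝟙 _) (𝟙 _ ≫ pullback.snd g (U.hom ≫ j)) (pullback.fst g (U.hom ≫ j)) rfl (Category.id_comp _) _,
            Category.id_comp z.1]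
          rw [c.nat θ (𝟙 Q) y (by rw [Category.id_comp]; exact hy) (𝟙 _ ≫ θ) _
            (by rw [Category.id_comp, Category.comp_id]) eθ _, Compat.ofPoint_pt_self]
          exact (pullback.lift_fst _ _ _).symm
    · refine pullback.hom_ext ?_ ?_
      · rw [Category.assoc, pullback.lift_fst, e1, Category.id_comp]
      · rw [Category.assoc, pullback.lift_snd, Category.id_comp, ← Category.assoc, pullback.lift_snd]
        exact p.2
  · have ha : (a ≫ pullback.fst g (U.hom ≫ j)) ≫ g = (a ≫ pullback.snd g (U.hom ≫ j)) ≫ U.hom ≫ j := by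
      simp only [Category.assoc, hc]
    have hb : (b ≫ pullback.fst g (U.hom ≫ j)) ≫ g = (a ≫ pullback.snd g (U.hom ≫ j)) ≫ U.hom ≫ j := by
      rw [h]; simp only [Category.assoc, hc]
    rw [← hz b _ _ h.symm rfl hb, ← c₀.comp (a ≫ pullback.snd g (U.hom ≫ j)) (i := PUnit.unit) (k := PUnit.unit) _ _ ha hb]
    exact congrArg (fun v => (D.φ _ _ (ha.trans hb.symm) v).1) (Subtype.ext (hz a _ _ rfl rfl ha).symm)

theorem isRepOn_of_isMdl (hg : SGA1.UnivSubmersive g) {U : Scheme.{u}} {f : U ⟶ S₁} [Etale f]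
    {u : pullback g (f ≫ j) ⟶ (D.obj PUnit.unit).left} (h : IsMdl D j f u) :
    IsRepOn D j (Over.mk f) := by
  haveI : Etale (Over.mk f).hom := inferInstanceAs (Etale f)
  have hg₁ : SGA1.UnivSubmersive (pullback.snd g j) :=
    MorphismProperty.of_isPullback (P := MorphismProperty.universally _) (IsPullback.of_hasPullback g j) hg
  haveI := h.iso
  let E := D.obj PUnit.unit
  let θ := th f u (hw_of_hu h.hu)
  have hθi : inv θ ≫ u = pullback.fst (E.hom ≫ g) j := by
    rw [IsIso.inv_comp_eq]; exact (pullback.lift_fst _ _ _).symm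
  have hθs : inv θ ≫ pullback.snd g (f ≫ j) ≫ f = pullback.snd (E.hom ≫ g) j := by
    rw [IsIso.inv_comp_eq]; exact (pullback.lift_snd _ _ _).symm
  have hθf : inv θ ≫ pullback.fst g (f ≫ j) = pullback.fst (E.hom ≫ g) j ≫ E.hom := by
    rw [← h.hu, ← Category.assoc, hθi]
  let A := (toDDFam (fun _ : PUnit.{w + 1} => pullback.snd g j)).obj (Over.mk f)
  have hA : ∀ {T : Scheme.{u}} (z : T ⟶ pullback g j) (v : Lifts (Over.mk (pullback.fst (pullback.snd g j) f)) z),
      (z ≫ pullback.fst g j) ≫ g = (v.1 ≫ pullback.snd (pullback.snd g j) f) ≫ f ≫ j := by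
    intro T z v
    have e : v.1 ≫ pullback.fst (pullback.snd g j) f = z := v.2
    rw [Category.assoc, pullback.condition]
    refine (congrArg (· ≫ pullback.snd g j ≫ j) e).symm.trans ?_
    simp [pullback.condition_assoc]
  let pt : ∀ {T : Scheme.{u}} (z : T ⟶ pullback g j) (_ : Lifts (Over.mk (pullback.fst (pullback.snd g j) f)) z),
      T ⟶ pullback g (f ≫ j) := fun z v =>
    pullback.lift (z ≫ pullback.fst g j) (v.1 ≫ pullback.snd (pullback.snd g j) f) (hA z v)
  have hB : ∀ {T : Scheme.{u}} (z : T ⟶ pullback g j) (e : Lifts E (z ≫ pullback.fst g j)),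
      e.1 ≫ E.hom ≫ g = (z ≫ pullback.snd g j) ≫ j := by
    intro T z e
    rw [← Category.assoc, e.2, Category.assoc, pullback.condition, Category.assoc]
  have hBz : ∀ {T : Scheme.{u}} (z : T ⟶ pullback g j) (e : Lifts E (z ≫ pullback.fst g j)),
      z ≫ pullback.snd g j = (pullback.lift e.1 (z ≫ pullback.snd g j) (hB z e) ≫ inv θ ≫
        pullback.snd g (f ≫ j)) ≫ f := by
    intro T z e
    simp only [Category.assoc]
    rw [hθs, pullback.lift_snd]
  let pe : ∀ {T : Scheme.{u}} (z : T ⟶ pullback g j),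
      Lifts (Over.mk (pullback.fst (pullback.snd g j) f)) z ≃ Lifts E (z ≫ pullback.fst g j) := fun {T} z =>
    { toFun := fun v => ⟨pt z v ≫ u, by rw [Category.assoc, h.hu]; exact pullback.lift_fst _ _ _⟩
      invFun := fun e => ⟨pullback.lift z (pullback.lift e.1 (z ≫ pullback.snd g j) (hB z e) ≫ inv θ ≫
          pullback.snd g (f ≫ j)) (hBz z e), pullback.lift_fst _ _ _⟩
      left_inv := fun v => Subtype.ext (pullback.hom_ext (by rw [pullback.lift_fst]; exact v.2.symm) (by
        rw [pullback.lift_snd, ← Category.assoc]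
        have e : pullback.lift (pt z v ≫ u) (z ≫ pullback.snd g j) (hB z ⟨_, by
            rw [Category.assoc, h.hu]; exact pullback.lift_fst _ _ _⟩) = pt z v ≫ θ := by
          refine pullback.hom_ext ?_ ?_
          · rw [pullback.lift_fst, Category.assoc, pullback.lift_fst]
          · rw [pullback.lift_snd, Category.assoc, pullback.lift_snd, pullback.lift_snd_assoc, Category.assoc,
              ← pullback.condition, ← Category.assoc]
            exact congrArg (· ≫ _) v.2.symm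
        simp only [e, Category.assoc, IsIso.hom_inv_id_assoc]
        exact pullback.lift_snd _ _ _))
      right_inv := fun e => Subtype.ext (by
        change pt z _ ≫ u = _
        have ee : pt z ⟨_, pullback.lift_fst z _ (hBz z e)⟩ =
            pullback.lift e.1 (z ≫ pullback.snd g j) (hB z e) ≫ inv θ := by
          refine pullback.hom_ext ?_ ?_
          · rw [pullback.lift_fst, Category.assoc, hθf, pullback.lift_fst_assoc]
            exact e.2.symm
          · simp only [pt, pullback.lift_snd, Category.assoc]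
        rw [ee, Category.assoc, hθi, pullback.lift_fst]) }
  obtain ⟨I, -⟩ := exists_iso_of_points (A := A) (B := Dj j D)
    (fun _ T z => (pe z).trans (liftsPullbackEquiv E (pullback.fst g j) z).symm)
    (fun _ T T' r x y hy v v' hv => by
      refine lpe_symm_natural _ _ r x y hy _ _ ?_
      change pt y v' ≫ u = r ≫ pt x v ≫ u
      rw [← Category.assoc r]
      congr 1
      subst hy
      refine pullback.hom_ext ?_ ?_
      · simp [pt]
      · simp [pt, hv])
    (fun T i k x₀ x₁ hx v => by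
      obtain ⟨⟩ := i
      obtain ⟨⟩ := k
      change (liftsPullbackEquiv E (pullback.fst g j) x₁).symm (D.φ (x₀ ≫ pullback.fst g j) (x₁ ≫ pullback.fst g j) _
        (liftsPullbackEquiv E (pullback.fst g j) x₀ ((liftsPullbackEquiv E (pullback.fst g j) x₀).symm (pe x₀ v)))) = _
      rw [Equiv.apply_symm_apply]
      refine congrArg (liftsPullbackEquiv E (pullback.fst g j) x₁).symm (Subtype.ext ?_)
      have hsnd : pt x₀ v ≫ pullback.snd g (f ≫ j) = pt x₁ (A.φ (i := PUnit.unit) (j := PUnit.unit) x₀ x₁ hx v) ≫ pullback.snd g (f ≫ j) := by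
        simp [pt, A, toDDFam, canonicalDDFam]
      have key : ∀ (a a' : T ⟶ S') (_ : a = x₀ ≫ pullback.fst g j) (_ : a' = x₁ ≫ pullback.fst g j)
          (hh : a ≫ g = a' ≫ g) (hh' : (x₀ ≫ pullback.fst g j) ≫ g = (x₁ ≫ pullback.fst g j) ≫ g)
          (w : Lifts E a) (w' : Lifts E (x₀ ≫ pullback.fst g j)), w.1 = w'.1 →
          (D.φ (i := PUnit.unit) (j := PUnit.unit) a a' hh w).1 = (D.φ _ _ hh' w').1 := by
        rintro a a' rfl rfl hh hh' w w' hw
        rw [Subtype.ext hw]
      exact (key _ _ (pullback.lift_fst _ _ _) (pullback.lift_fst _ _ _) _ _ _ (pe x₀ v) rfl).symm.trans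
        (h.comm (pt x₀ v) (pt x₁ (A.φ (i := PUnit.unit) (j := PUnit.unit) x₀ x₁ hx v)) hsnd))
  exact isRepOn_of_isRep (isRep_of_iso I (isRep_canonical hg₁ _))

end Groth.Agent.EtRep9
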