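import Groth.Agent.EtRep9.StableUnion
import Groth.Agent.GrpdLib.OrbitTop
import Groth.Agent.IsoNatLib.TrivLocus

/-! Effective descent for separated etale schemes that need not be quasi-compact. -/

set_option autoImplicit false
set_option backward.isDefEq.respectTransparency false
set_option backward.isDefEq.respectTransparency.types false
set_option linter.style.haveILetI false
universe u

open CategoryTheory CategoryTheory.Limits AlgebraicGeometry Desc Topology
open Groth.Agent.DescLib.IndQA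

noncomputable section

namespace Groth.Agent.EtRep9

open Groth.Agent.DescLib

/-- Specialisation pairs lift along surjective universally open morphisms. -/
theorem univSSubtrusive_of_open {X Y : Scheme.{u}} (f : X ⟶ Y) [UniversallyOpen f] [Surjective f] :
    Subtr.UnivSSubtrusive f := by
  intro X' Y' i₁ i₂ f' h y y' hy
  haveI : UniversallyOpen f' := MorphismProperty.of_isPullback h.flip ‹_›
  haveI : Surjective f' := MorphismProperty.of_isPullback h.flip ‹_›
  obtain ⟨x, rfl⟩ := f'.surjective y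
  haveI : QuasiCompact (Y'.fromSpecResidueField y') := ⟨fun V _ _ => (Set.Finite.subset (Set.finite_univ) (Set.subset_univ _)).isCompact⟩
  haveI : QuasiCompact (f'.fiberι y') := MorphismProperty.pullback_fst _ _ inferInstance
  have hx : x ∈ closure (f'.fiberι y' '' Set.univ) := by
    rw [Set.image_univ, Scheme.Hom.range_fiberι, mem_closure_iff]
    intro U hU hxU
    obtain ⟨x', hx', e⟩ := hy.mem_open (f'.isOpenMap U hU) ⟨x, hxU, rfl⟩
    exact ⟨x', hx', e⟩
  obtain ⟨a, -, ha⟩ := ProConsLib.exists_specializes_of_mem_closure_image_scheme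
    (GrpdLib.isProConstructible_of_isClosed isClosed_univ) (f'.fiberι y') hx
  exact ⟨x, f'.fiberι y' a, ha, rfl, (Scheme.Hom.range_fiberι f' y').le ⟨a, rfl⟩⟩

variable {X S : Scheme.{u}} {p : X ⟶ S}

/-- The universally open quasi-compact case for a covering that need not be quasi-compact. -/
theorem effective_univOpen [UniversallyOpen p] [Surjective p]
    (D : SchDD p) [QuasiCompact D.obj.hom] [IsSeparated D.obj.hom] [Etale D.obj.hom] :
    ∃ U : Over S, Etale U.hom ∧ Nonempty ((toDD p).obj U ≅ D) := by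
  have hp : SGA1.UnivSubmersive p := univSubmersive_of_univOpen p
  let D' := (SchDDFam.ofSchDD.{0} p).obj D
  haveI : Etale (D'.obj PUnit.unit).hom := inferInstanceAs (Etale D.obj.hom)
  haveI : QuasiCompact (D'.obj PUnit.unit).hom := inferInstanceAs (QuasiCompact D.obj.hom)
  haveI : IsSeparated (D'.obj PUnit.unit).hom := inferInstanceAs (IsSeparated D.obj.hom)
  obtain ⟨U, hU, ⟨I⟩⟩ := (Groth.Agent.S5123.result p hp D' (fun V : S.affineOpens => (V : S.Opens))
      (iSup_affineOpens_eq_top S)).2 fun V => by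
    let R := Γ(S, (V : S.Opens))
    let q : Spec R ⟶ S := V.2.isoSpec.inv ≫ (V : S.Opens).ι
    let W := pullback p q
    let gq := pullback.snd p q
    haveI : UniversallyOpen gq := MorphismProperty.pullback_snd _ _ inferInstance
    haveI : Surjective gq := MorphismProperty.pullback_snd _ _ inferInstance
    let 𝒰 := W.affineCover
    haveI : ∀ i, UniversallyOpen (𝒰.f i ≫ gq) := fun i => inferInstance
    obtain ⟨t, ht⟩ := isCompact_univ.elim_finite_subcover (fun i => Set.range (𝒰.f i ≫ gq))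
      (fun i => (𝒰.f i ≫ gq).isOpenMap.isOpen_range) fun a _ => by
        obtain ⟨w, rfl⟩ := gq.surjective a
        obtain ⟨i, w', rfl⟩ := 𝒰.exists_eq w
        exact Set.mem_iUnion.2 ⟨i, w', Scheme.Hom.comp_apply _ _ _⟩
    let W₀ := ∐ fun i : t => 𝒰.X i.1
    let h : W₀ ⟶ W := Limits.Sigma.desc fun i : t => 𝒰.f i.1
    let g₀ := h ≫ gq
    haveI : UniversallyOpen h := IsZariskiLocalAtSource.sigmaDesc fun i => inferInstance
    haveI : Surjective g₀ := ⟨fun a => by
      obtain ⟨i, hi, w, rfl⟩ := Set.mem_iUnion₂.1 (ht (Set.mem_univ a))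
      refine ⟨Limits.Sigma.ι (fun i : t => 𝒰.X i.1) ⟨i, hi⟩ w, ?_⟩
      rw [← Scheme.Hom.comp_apply, Limits.Sigma.ι_desc_assoc]⟩
    haveI : ∀ i : t, IsAffine (𝒰.X i.1) := fun i => by dsimp [𝒰]; infer_instance
    haveI : IsAffine W₀ := inferInstanceAs (IsAffine (∐ fun i : t => 𝒰.X i.1))
    haveI : IsAffineHom g₀ := isAffineHom_of_isAffine _
    let DC := Dj q D'
    haveI : Etale (DC.obj PUnit.unit).hom :=
      inferInstanceAs (Etale (pullback.snd (D'.obj PUnit.unit).hom (pullback.fst p q)))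
    haveI : QuasiCompact (DC.obj PUnit.unit).hom :=
      inferInstanceAs (QuasiCompact (pullback.snd (D'.obj PUnit.unit).hom (pullback.fst p q)))
    haveI : IsSeparated (DC.obj PUnit.unit).hom :=
      inferInstanceAs (IsSeparated (pullback.snd (D'.obj PUnit.unit).hom (pullback.fst p q)))
    let D₀ := Dr h (rfl : h ≫ gq = g₀) DC
    haveI : Etale (D₀.obj PUnit.unit).hom := inferInstanceAs (Etale (pullback.snd (DC.obj PUnit.unit).hom h))
    haveI : QuasiCompact (D₀.obj PUnit.unit).hom :=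
      inferInstanceAs (QuasiCompact (pullback.snd (DC.obj PUnit.unit).hom h))
    haveI : IsSeparated (D₀.obj PUnit.unit).hom :=
      inferInstanceAs (IsSeparated (pullback.snd (DC.obj PUnit.unit).hom h))
    obtain ⟨U, hU, hr⟩ := exists_isRep_affine_general D₀ (univSSubtrusive_of_open g₀)
    haveI := hU
    have hr' := isRepOn_of_isRep (isRep_of_refine (univSubmersive_of_univOpen g₀) hr)
    exact ⟨_, inferInstanceAs (Etale (pullback.snd U.hom V.2.isoSpec.hom)),
      iso_of_isRep (isRep_of_isRepOn (isRepOn_bc V.2.isoSpec.hom (Iso.hom_inv_id_assoc _ _) hr'))⟩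
  haveI := hU
  exact ⟨U, hU, ⟨(SchDDFam.toSchDD p).mapIso I⟩⟩

theorem isIso_lift_d₁ (D : SchDD p) :
    IsIso (groupoid p D).i := by
  let i : pullback (sv p D) p ⟶ pullback (sv p D) p := (groupoid p D).i
  have hit : i ≫ d₁ p D = pullback.fst (sv p D) p := (groupoid p D).i_t
  have hs : i ≫ pullback.fst (sv p D) p = d₁ p D := (groupoid p D).i_s
  have hii : i ≫ i = 𝟙 _ := by
    apply pullback.hom_ext
    · rw [Category.assoc, hs, hit, Category.id_comp]
    · have h2 : i ≫ pullback.snd (sv p D) p = pullback.fst (sv p D) p ≫ D.obj.hom := pullback.lift_snd _ _ _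
      rw [Category.assoc, h2, ← Category.assoc, hs, d₁_hom, Category.id_comp]
  exact ⟨i, hii, hii⟩

variable (D : SchDD p)

/-- A stable open gives an effective subdatum, given effectivity for quasi-compact data. -/
theorem exists_effective_sub [IsSeparated D.obj.hom] [Etale D.obj.hom]
    (heff : ∀ (D' : SchDD p), QuasiCompact D'.obj.hom → IsSeparated D'.obj.hom → Etale D'.obj.hom →
      ∃ U : Over S, Etale U.hom ∧ Nonempty ((toDD p).obj U ≅ D'))
    (O : D.obj.left.Opens) (hO : pullback.fst (sv p D) p ⁻¹ᵁ O = d₁ p D ⁻¹ᵁ O)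
    [QuasiCompact (O.ι ≫ D.obj.hom)] :
    ∃ (D' : SchDD p) (j : D' ⟶ D), IsOpenImmersion j.hom.left ∧ Set.range j.hom.left = (O : Set D.obj.left) ∧
      ∃ U' : Over S, Etale U'.hom ∧ Nonempty ((toDD p).obj U' ≅ D') := by
  obtain ⟨D', j, hj, hr⟩ := exists_subDatum p D O hO
  haveI := hj
  let e := IsOpenImmersion.isoOfRangeEq j.hom.left O.ι (hr.trans O.range_ι.symm)
  have he : e.hom ≫ O.ι ≫ D.obj.hom = D'.obj.hom := by
    rw [IsOpenImmersion.isoOfRangeEq_hom_fac_assoc]; exact Over.w j.hom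
  haveI : QuasiCompact D'.obj.hom := he ▸ inferInstance
  haveI : IsSeparated D'.obj.hom := he ▸ inferInstance
  haveI : Etale D'.obj.hom := he ▸ inferInstance
  exact ⟨D', j, hj, hr, heff D' inferInstance inferInstance inferInstance⟩

/-- Universally open coverings. -/
theorem effective_sep_univOpen [QuasiSeparatedSpace S] [UniversallyOpen p] [Surjective p]
    [IsSeparated D.obj.hom] [Etale D.obj.hom] :
    ∃ U : Over S, IsSeparated U.hom ∧ Etale U.hom ∧ Nonempty ((toDD p).obj U ≅ D) := by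
  refine Stable.effective_of_stable_cover (univSubmersive_of_univOpen p) D fun v => ?_
  obtain ⟨W, hW, hv⟩ : ∃ W : D.obj.left.Opens, IsAffineOpen W ∧ v ∈ W := by
    obtain ⟨_, ⟨W, hW, rfl⟩, hv, -⟩ :=
      D.obj.left.isBasis_affineOpens.exists_subset_of_mem_open (Set.mem_univ v) isOpen_univ
    exact ⟨W, hW, hv⟩
  let G := groupoid p D
  haveI : UniversallyOpen (pullback.fst (sv p D) p) := MorphismProperty.pullback_fst _ _ inferInstance
  haveI := isIso_lift_d₁ D
  have ht : IsOpenMap (d₁ p D) := by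
    have : UniversallyOpen (d₁ p D) := by
      rw [← show (groupoid p D).i ≫ pullback.fst (sv p D) p = d₁ p D from (groupoid p D).i_s]
      infer_instance
    exact (d₁ p D).isOpenMap
  let O : D.obj.left.Opens := ⟨GrpdLib.sat G (W : Set D.obj.left),
    ht _ (W.isOpen.preimage (pullback.fst (sv p D) p).continuous)⟩
  haveI : QuasiCompact (O.ι ≫ D.obj.hom) := by
    rw [quasiCompact_iff_forall_isAffineOpen]
    intro A hA
    haveI : CompactSpace (W : Scheme.{u}) := isCompact_iff_compactSpace.mp hW.isCompact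
    haveI : CompactSpace (A : Scheme.{u}) := isCompact_iff_compactSpace.mp hA.isCompact
    haveI : IsAffine (W : Scheme.{u}) := hW
    haveI : QuasiSeparated (W.ι ≫ sv p D) := QuasiSeparated.of_comp (W.ι ≫ sv p D) (terminal.from S)
    haveI : QuasiCompact (W.ι ≫ sv p D) := by infer_instance
    haveI : CompactSpace ↥(pullback (W.ι ≫ sv p D) (A.ι ≫ p)) :=
      QuasiCompact.compactSpace_of_compactSpace (pullback.snd (W.ι ≫ sv p D) (A.ι ≫ p))
    let m : pullback (W.ι ≫ sv p D) (A.ι ≫ p) ⟶ pullback (sv p D) p :=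
      pullback.map _ _ _ _ W.ι A.ι (𝟙 S) (Category.comp_id _) (Category.comp_id _)
    have hm : Set.range m = pullback.fst (sv p D) p ⁻¹' (W : Set D.obj.left) ∩
        pullback.snd (sv p D) p ⁻¹' (A : Set X) := by
      rw [Scheme.Pullback.range_map, Scheme.Opens.range_ι, Scheme.Opens.range_ι]
    have key : (O.ι '' ((O.ι ≫ D.obj.hom) ⁻¹ᵁ A : Set (O : Scheme.{u}))) = d₁ p D '' Set.range m := by
      rw [hm]
      ext x
      constructor
      · rintro ⟨x, hx, rfl⟩
        obtain ⟨r, hr, e⟩ := x.2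
        refine ⟨r, ⟨hr, ?_⟩, e⟩
        show pullback.snd (sv p D) p r ∈ A
        rw [← d₁_hom, Scheme.Hom.comp_apply]
        rw [show d₁ p D r = O.ι x from e]
        exact hx
      · rintro ⟨r, ⟨hr, hA'⟩, rfl⟩
        refine ⟨⟨_, ⟨r, hr, rfl⟩⟩, ?_, rfl⟩
        show D.obj.hom (d₁ p D r) ∈ A
        rw [← Scheme.Hom.comp_apply, d₁_hom]
        exact hA'
    rw [O.ι.isEmbedding.isCompact_iff, key]
    exact (isCompact_range m.continuous).image (d₁ p D).continuous
  obtain ⟨D', j, hj, hr, hU⟩ := exists_effective_sub D (fun D' _ _ _ => effective_univOpen D') O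
    (TopologicalSpace.Opens.ext (GrpdLib.preimage_sat G _))
  exact ⟨D', j, hj, (show v ∈ Set.range j.hom.left by rw [hr]; exact GrpdLib.subset_sat G _ hv), hU⟩

/-- Universally closed coverings of finite presentation. -/
theorem effective_sep_univClosed [QuasiSeparatedSpace X] [UniversallyClosed p] [Surjective p]
    [LocallyOfFinitePresentation p] [QuasiCompact p] [QuasiSeparated p]
    [IsSeparated D.obj.hom] [Etale D.obj.hom] :
    ∃ U : Over S, IsSeparated U.hom ∧ Etale U.hom ∧ Nonempty ((toDD p).obj U ≅ D) := by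
  have hs := univSSubtrusive_of_closed p
  refine Stable.effective_of_stable_cover (univSubmersive_of_univSSubtrusive p hs) D fun v => ?_
  obtain ⟨W, hW, hv⟩ : ∃ W : D.obj.left.Opens, IsAffineOpen W ∧ v ∈ W := by
    obtain ⟨_, ⟨W, hW, rfl⟩, hv, -⟩ :=
      D.obj.left.isBasis_affineOpens.exists_subset_of_mem_open (Set.mem_univ v) isOpen_univ
    exact ⟨W, hW, hv⟩
  let E := D.obj.left
  haveI : QuasiSeparatedSpace E := quasiSeparatedSpace_of_quasiSeparated D.obj.hom
  let G := groupoid p D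
  let d₀ := pullback.fst (sv p D) p
  let d := d₁ p D
  haveI := isIso_lift_d₁ D
  have hd : (groupoid p D).i ≫ d₀ = d := (groupoid p D).i_s
  haveI : QuasiCompact d₀ := MorphismProperty.pullback_fst _ _ inferInstance
  haveI : UniversallyClosed d₀ := MorphismProperty.pullback_fst _ _ inferInstance
  haveI : LocallyOfFinitePresentation d₀ := MorphismProperty.pullback_fst _ _ inferInstance
  haveI : QuasiSeparated d₀ := MorphismProperty.pullback_fst _ _ inferInstance
  haveI : QuasiCompact d := hd ▸ inferInstance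
  haveI : UniversallyClosed d := hd ▸ inferInstance
  haveI : LocallyOfFinitePresentation d := hd ▸ inferInstance
  haveI : QuasiSeparated d := hd ▸ inferInstance
  have hK : IsCompact (GrpdLib.sat G (W : Set E)) := (d₀.isCompact_preimage hW.isCompact).image d.continuous
  obtain ⟨O₁, hO₁, hKO, -⟩ := MorLib.IQA.exists_compact_between (U := (⊤ : E.Opens)) hK (Set.subset_univ _)
  let O : E.Opens := ⟨(d '' (d₀ ⁻¹' (O₁ : Set E)ᶜ))ᶜ,
    (d.isClosedMap _ (O₁.isOpen.isClosed_compl.preimage d₀.continuous)).isOpen_compl⟩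
  have hOle : O ≤ O₁ := fun x hx => by
    by_contra h
    obtain ⟨r, hr, rfl⟩ := GrpdLib.subset_sat G ((O₁ : Set E)ᶜ) h
    exact hx ⟨r, hr, rfl⟩
  have hOc : IsCompact (O : Set E) := by
    haveI : CompactSpace (O₁ : Scheme.{u}) := isCompact_iff_compactSpace.mp hO₁
    haveI : QuasiSeparatedSpace (O₁ : Scheme.{u}) := O₁.ι.isOpenEmbedding.quasiSeparatedSpace
    let d' := d ∣_ O₁
    haveI : LocallyOfFinitePresentation d' := inferInstance
    haveI : QuasiCompact d' := inferInstance
    haveI : CompactSpace (d ⁻¹ᵁ O₁ : Scheme.{u}) := QuasiCompact.compactSpace_of_compactSpace d'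
    haveI : QuasiSeparatedSpace (d ⁻¹ᵁ O₁ : Scheme.{u}) := quasiSeparatedSpace_of_quasiSeparated d'
    let P : Set (d ⁻¹ᵁ O₁ : Scheme.{u}) := ((d ⁻¹ᵁ O₁).ι ≫ d₀) ⁻¹' (O₁ : Set E)
    haveI : QuasiCompact ((d ⁻¹ᵁ O₁).ι ≫ d₀) := by
      haveI : QuasiSeparatedSpace E := ‹_›
      infer_instance
    have hP : IsCompact P := ((d ⁻¹ᵁ O₁).ι ≫ d₀).isCompact_preimage hO₁
    have hPo : IsOpen P := O₁.isOpen.preimage ((d ⁻¹ᵁ O₁).ι ≫ d₀).continuous
    have h1 := (d'.isConstructible_image (hP.isConstructible hPo).compl).compl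
    have h2 := (IsoNatLib.isCompact_of_isConstructible h1).image O₁.ι.continuous
    convert h2 using 1
    ext x
    constructor
    · intro hx
      refine ⟨⟨x, hOle hx⟩, ?_, rfl⟩
      rintro ⟨r, hr, e⟩
      refine hx ⟨(d ⁻¹ᵁ O₁).ι r, fun h => hr h, ?_⟩
      rw [← Scheme.Hom.comp_apply, ← morphismRestrict_ι, Scheme.Hom.comp_apply, e]
      rfl
    · rintro ⟨y, hy, rfl⟩ ⟨r, hr, e⟩
      have hr' : d r ∈ O₁ := by rw [e]; exact y.2
      refine hy ⟨⟨r, hr'⟩, fun h => hr h, O₁.ι.isOpenEmbedding.injective ?_⟩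
      rw [← Scheme.Hom.comp_apply, morphismRestrict_ι, Scheme.Hom.comp_apply]
      exact e
  have hst : d₀ ⁻¹ᵁ O = d ⁻¹ᵁ O :=
    TopologicalSpace.Opens.ext (congrArg compl (GrpdLib.preimage_sat G ((O₁ : Set E)ᶜ)))
  have hvO : v ∈ O := by
    rintro ⟨r, hr, e⟩
    refine hr (hKO ?_)
    exact (GrpdLib.mem_sat_iff G _ r).2 (show d r ∈ GrpdLib.sat G (W : Set E) by rw [e]; exact GrpdLib.subset_sat G _ hv)
  haveI : CompactSpace (O : Scheme.{u}) := isCompact_iff_compactSpace.mp hOc
  haveI : QuasiCompact (O.ι ≫ D.obj.hom) := inferInstance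
  obtain ⟨D', j, hj, hr, hU⟩ := exists_effective_sub D (fun D' _ _ _ => by
    obtain ⟨U, -, -, h1, h2⟩ := effective_qc_subtrusive hs D'
    exact ⟨U, h1, h2⟩) O hst
  exact ⟨D', j, hj, (show v ∈ Set.range j.hom.left by rw [hr]; exact hvO), hU⟩

end Groth.Agent.EtRep9
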