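import Groth.Agent.EtRep9.Model

/-! Representability may be checked on a finer universally submersive covering. -/

set_option autoImplicit false
set_option backward.isDefEq.respectTransparency false
set_option backward.isDefEq.respectTransparency.types false
set_option linter.style.haveILetI false
universe u w

open CategoryTheory CategoryTheory.Limits AlgebraicGeometry Desc

noncomputable section

namespace Groth.Agent.EtRep9

open Groth.Agent.DescLib

/-- Morphisms into an etale scheme descend along a universally submersive morphism. -/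
theorem existsUnique_desc {A A' X Y : Scheme.{u}} {r : A' ⟶ A} (hr : SGA1.UnivSubmersive r)
    (p : X ⟶ A) (q : Y ⟶ A) [Etale q] (u : pullback p r ⟶ Y) (hu : u ≫ q = pullback.fst p r ≫ p)
    (hc : ∀ ⦃W : Scheme.{u}⦄ (a b : W ⟶ pullback p r),
      a ≫ pullback.fst p r = b ≫ pullback.fst p r → a ≫ u = b ≫ u) :
    ∃! v : X ⟶ Y, v ≫ q = p ∧ pullback.fst p r ≫ v = u := by
  have hs : Function.Surjective (pullback.fst p r) :=
    (hr (i₁ := pullback.snd p r) (i₂ := p) (f' := pullback.fst p r) (IsPullback.of_hasPullback p r)).surjective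
  have hq : Topology.IsQuotientMap (pullback.snd r (pullback.fst p q ≫ p)) :=
    hr _ _ _ (IsPullback.of_hasPullback r (pullback.fst p q ≫ p)).flip
  let f' : pullback p r ⟶ pullback q r := pullback.lift u (pullback.snd p r) (hu.trans pullback.condition)
  obtain ⟨v, ⟨hv₁, hv₂⟩, huniq⟩ := existsUnique_descend_etale r p q hs hq f' (pullback.lift_snd _ _ _) (by
    simp only [f', pullback.lift_fst]
    exact hc _ _ (by simp))
  rw [pullback.lift_fst] at hv₂
  exact ⟨v, ⟨hv₁, hv₂.symm⟩, fun v' hv' => huniq v' ⟨hv'.1, by simpa [f'] using hv'.2.symm⟩⟩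

theorem hom_ext_desc {A A' X Y : Scheme.{u}} {r : A' ⟶ A} (hr : SGA1.UnivSubmersive r)
    (p : X ⟶ A) (q : Y ⟶ A) [Etale q] {v v' : X ⟶ Y} (hv : v ≫ q = p) (hv' : v' ≫ q = p)
    (e : pullback.fst p r ≫ v = pullback.fst p r ≫ v') : v = v' :=
  (existsUnique_desc hr p q (pullback.fst p r ≫ v') (by rw [Category.assoc, hv'])
    fun W a b h => by rw [reassoc_of% h]).unique ⟨hv, e⟩ ⟨hv', rfl⟩

variable {S S' : Scheme.{u}} {g : S' ⟶ S} {D : SchDDFam (fun _ : PUnit.{w + 1} => g)}
  {S'' : Scheme.{u}} (h : S'' ⟶ S') {g₀ : S'' ⟶ S} (e : h ≫ g = g₀)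

/-- The datum on the finer covering. -/
abbrev Dr (D : SchDDFam (fun _ : PUnit.{w + 1} => g)) : SchDDFam (fun _ : PUnit.{w + 1} => g₀) :=
  (pullDDFam (f := fun _ : PUnit.{w + 1} => g) (f' := fun _ : PUnit.{w + 1} => g₀)
    (α := id) (p := 𝟙 S) (p' := fun _ => h) (fun _ => e.trans (Category.comp_id _).symm)).obj D

variable {h e}

theorem refine_bijective (hg₀ : SGA1.UnivSubmersive g₀) [Etale (D.obj PUnit.unit).hom]
    {T : Scheme.{u}} {s : T ⟶ S} :
    Function.Bijective (Compat.pull (f := fun _ : PUnit.{w + 1} => g) (f' := fun _ : PUnit.{w + 1} => g₀)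
      (α := id) (g := fun _ => h) (fun _ => e.trans (Category.comp_id _).symm) (Category.comp_id s) (D := D)) := by
  let E := D.obj PUnit.unit
  let r := pullback.fst g g₀
  have hr : SGA1.UnivSubmersive r :=
    MorphismProperty.of_isPullback (P := MorphismProperty.universally _) (IsPullback.of_hasPullback g g₀).flip hg₀
  have hz : ∀ {T' : Scheme.{u}} (y : T' ⟶ S'),
      ((pullback.snd y r ≫ pullback.snd g g₀) ≫ h) ≫ g = (pullback.fst y r ≫ y) ≫ g := by
    intro T' y
    simp only [Category.assoc, e, pullback.condition_assoc, r]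
    rw [← pullback.condition]
  constructor
  · intro c c' ec
    refine Compat.ext fun T' t i y hy => ?_
    obtain ⟨⟩ := i
    have hy' : (pullback.fst y r ≫ y) ≫ g = (pullback.fst y r ≫ t) ≫ s := by rw [Category.assoc, hy, Category.assoc]
    have h0 : ((pullback.snd y r ≫ pullback.snd g g₀) ≫ h) ≫ g = (pullback.fst y r ≫ t) ≫ s :=
      (hz y).trans hy'
    have h0' : (pullback.snd y r ≫ pullback.snd g g₀) ≫ g₀ = (pullback.fst y r ≫ t) ≫ s := by
      rw [← h0, Category.assoc _ h, e]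
    refine hom_ext_desc hr y E.hom (c.pt t y hy).2 (c'.pt t y hy).2 ?_
    have key : ∀ d : Compat D s, pullback.fst y r ≫ (d.pt t (i := PUnit.unit) y hy).1 =
        (D.φ _ _ (hz y) (d.pt (pullback.fst y r ≫ t) (i := PUnit.unit)
          ((pullback.snd y r ≫ pullback.snd g g₀) ≫ h) h0)).1 := fun d => by
      rw [← d.nat (pullback.fst y r) t y hy _ _ rfl rfl hy', d.comp _ _ _ h0 hy']
    rw [key c, key c']
    refine congrArg (fun v => (D.φ _ _ (hz y) v).1) ?_
    have H := congrArg (fun q : Compat (Dr h e D) s => liftsPullbackEquiv E h _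
      (q.pt (pullback.fst y r ≫ t) (i := PUnit.unit) (pullback.snd y r ≫ pullback.snd g g₀) h0')) ec
    simp only [Compat.pull] at H
    exact ((liftsPullbackEquiv E h _).apply_symm_apply _).symm.trans
      (H.trans ((liftsPullbackEquiv E h _).apply_symm_apply _))
  · intro c'
    let img : ∀ {T' : Scheme.{u}} (t : T' ⟶ T) (y : T' ⟶ S') (z : T' ⟶ S'') (_ : y ≫ g = t ≫ s)
        (_ : z ≫ g₀ = t ≫ s), Lifts E y := fun t y z hy hz =>
      D.φ (z ≫ h) y (by rw [Category.assoc, e, hz, hy]) (liftsPullbackEquiv E h z (c'.pt t (i := PUnit.unit) z hz))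
    have hind : ∀ {T' : Scheme.{u}} (t : T' ⟶ T) (y : T' ⟶ S') (z z' : T' ⟶ S'') (hy : y ≫ g = t ≫ s)
        (hz : z ≫ g₀ = t ≫ s) (hz' : z' ≫ g₀ = t ≫ s), img t y z hy hz = img t y z' hy hz' := by
      intro T' t y z z' hy hz hz'
      simp only [img]
      rw [← c'.comp t (i := PUnit.unit) (k := PUnit.unit) z z' hz hz']
      simp only [pullDDFam, pullDDFamObj, Equiv.trans_apply, id]
      exact (D.φ_comp _ _ _ _ _ _).symm.trans
        (congrArg (D.φ _ _ _) ((liftsPullbackEquiv E h z').apply_symm_apply _).symm)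
    have hnat : ∀ {T' T'' : Scheme.{u}} (a : T'' ⟶ T') (t : T' ⟶ T) (y : T' ⟶ S') (z : T' ⟶ S'')
        (hy : y ≫ g = t ≫ s) (hz : z ≫ g₀ = t ≫ s) (t' : T'' ⟶ T) (y' : T'' ⟶ S') (z' : T'' ⟶ S'')
        (_ : a ≫ t = t') (_ : a ≫ y = y') (_ : a ≫ z = z') (hy' : y' ≫ g = t' ≫ s) (hz' : z' ≫ g₀ = t' ≫ s),
        (img t' y' z' hy' hz').1 = a ≫ (img t y z hy hz).1 := by
      intro T' T'' a t y z hy hz t' y' z' e1 e2 e3 hy' hz'
      exact D.φ_natural a _ _ _ _ _ (by rw [← e3, Category.assoc]) e2 _ _ _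
        (lpe_natural _ _ a z z' _ _ (c'.nat a t z hz t' z' e1 e3 hz'))
    have hA : ∀ {T' : Scheme.{u}} (t : T' ⟶ T) (y : T' ⟶ S') (hy : y ≫ g = t ≫ s),
        (pullback.fst y r ≫ y) ≫ g = (pullback.fst y r ≫ t) ≫ s := fun t y hy => by
      rw [Category.assoc, hy, Category.assoc]
    have hB : ∀ {T' : Scheme.{u}} (t : T' ⟶ T) (y : T' ⟶ S') (hy : y ≫ g = t ≫ s),
        (pullback.snd y r ≫ pullback.snd g g₀) ≫ g₀ = (pullback.fst y r ≫ t) ≫ s := fun t y hy => by
      rw [← hA t y hy, ← hz y, Category.assoc _ h, e]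
    have hU : ∀ {T' : Scheme.{u}} (t : T' ⟶ T) (y : T' ⟶ S') (hy : y ≫ g = t ≫ s),
        ∃! v : T' ⟶ E.left, v ≫ E.hom = y ∧
          pullback.fst y r ≫ v = (img _ _ _ (hA t y hy) (hB t y hy)).1 := by
      intro T' t y hy
      refine existsUnique_desc hr y E.hom _ (img _ _ _ (hA t y hy) (hB t y hy)).2 fun W a b hab => ?_
      have ha : (a ≫ pullback.fst y r ≫ y) ≫ g = (a ≫ pullback.fst y r ≫ t) ≫ s := by
        simp only [Category.assoc, hy]
      have hza : (a ≫ pullback.snd y r ≫ pullback.snd g g₀) ≫ g₀ = (a ≫ pullback.fst y r ≫ t) ≫ s := by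
        rw [Category.assoc, hB t y hy, Category.assoc, Category.assoc, Category.assoc]
      have hzb : (b ≫ pullback.snd y r ≫ pullback.snd g g₀) ≫ g₀ = (a ≫ pullback.fst y r ≫ t) ≫ s := by
        simp only [Category.assoc] at ha ⊢
        rw [← Category.assoc (pullback.snd y r), hB t y hy, Category.assoc, reassoc_of% hab]
      rw [← hnat a _ _ _ (hA t y hy) (hB t y hy) _ _ _ rfl rfl rfl ha hza,
        ← hnat b _ _ _ (hA t y hy) (hB t y hy) (a ≫ pullback.fst y r ≫ t) (a ≫ pullback.fst y r ≫ y) _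
          (by rw [reassoc_of% hab]) (by rw [reassoc_of% hab]) rfl ha hzb,
        hind _ _ _ _ ha hza hzb]
    let v : ∀ {T' : Scheme.{u}} (t : T' ⟶ T) (y : T' ⟶ S') (_ : y ≫ g = t ≫ s), Lifts E y :=
      fun t y hy => ⟨(hU t y hy).choose, (hU t y hy).choose_spec.1.1⟩
    have hv : ∀ {T' : Scheme.{u}} (t : T' ⟶ T) (y : T' ⟶ S') (z : T' ⟶ S'') (hy : y ≫ g = t ≫ s)
        (hzz : z ≫ g₀ = t ≫ s), (v t y hy).1 = (img t y z hy hzz).1 := by
      intro T' t y z hy hzz
      refine hom_ext_desc hr y E.hom (v t y hy).2 (img t y z hy hzz).2 ?_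
      have hzz' : (pullback.fst y r ≫ z) ≫ g₀ = (pullback.fst y r ≫ t) ≫ s := by
        rw [Category.assoc, hzz, Category.assoc]
      refine (hU t y hy).choose_spec.1.2.trans ?_
      rw [hind _ _ _ _ (hA t y hy) (hB t y hy) hzz']
      exact hnat _ _ _ _ hy hzz _ _ _ rfl rfl rfl (hA t y hy) hzz'
    refine ⟨{ pt := fun T' t i y hy => v t y hy, nat := ?_, comp := ?_ }, ?_⟩
    · intro T' T'' a t i y hy t' y' e1 e2 hy'
      refine hom_ext_desc hr y' E.hom (v t' y' hy').2
        (by rw [Category.assoc, (v t y hy).2, e2]) ?_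
      refine (hU t' y' hy').choose_spec.1.2.trans ?_
      let m : pullback y' r ⟶ pullback y r := pullback.lift (pullback.fst y' r ≫ a) (pullback.snd y' r)
        (by rw [Category.assoc, e2, pullback.condition])
      rw [hnat m _ _ _ (hA t y hy) (hB t y hy) _ _ _ (by simp [m, e1]) (by simp [m, e2]) (by simp [m]) (hA t' y' hy') (hB t' y' hy')]
      rw [← (hU t y hy).choose_spec.1.2]
      simp [m, v]
    · intro T' t i k y y' hy hy'
      obtain ⟨⟩ := i
      obtain ⟨⟩ := k
      refine Subtype.ext ?_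
      refine hom_ext_desc hr y' E.hom (D.φ y y' _ (v t y hy)).2 (v t y' hy').2 ?_
      have ha : (pullback.fst y' r ≫ y) ≫ g = (pullback.fst y' r ≫ t) ≫ s := by
        rw [Category.assoc, hy, Category.assoc]
      have hzz := hB t y' hy'
      rw [← D.φ_natural (pullback.fst y' r) y y' (hy.trans hy'.symm) (pullback.fst y' r ≫ y) (pullback.fst y' r ≫ y')
        rfl rfl (ha.trans (hA t y' hy').symm) (v t y hy) ⟨_, by rw [Category.assoc, (v t y hy).2]⟩ rfl]
      refine Eq.trans ?_ ((hU t y' hy').choose_spec.1.2).symm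
      have e1 : (⟨pullback.fst y' r ≫ (v t y hy).1, by rw [Category.assoc, (v t y hy).2]⟩ :
          Lifts E (pullback.fst y' r ≫ y)) = img _ _ _ ha hzz := by
        refine Subtype.ext ?_
        refine Eq.trans ?_ (hv _ _ _ ha hzz)
        refine hom_ext_desc hr (pullback.fst y' r ≫ y) E.hom (by rw [Category.assoc, (v t y hy).2]) (v _ _ ha).2 ?_
        refine Eq.trans ?_ ((hU _ _ ha).choose_spec.1.2).symm
        let m : pullback (pullback.fst y' r ≫ y) r ⟶ pullback y r :=
          pullback.lift (pullback.fst _ r ≫ pullback.fst y' r) (pullback.snd _ r)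
            (by rw [Category.assoc, pullback.condition])
        rw [hnat m _ _ _ (hA t y hy) (hB t y hy) _ _ _ (by simp [m]) (by simp [m]) (by simp [m]) (hA _ _ ha) (hB _ _ ha)]
        rw [← (hU t y hy).choose_spec.1.2]
        simp [m, v]
      rw [e1]
      simp only [img, D.φ_comp]
    · refine Compat.ext fun T' t i z hzz => ?_
      obtain ⟨⟩ := i
      have hy : (z ≫ h) ≫ g = t ≫ s := by rw [Category.assoc, e, hzz]
      refine congrArg Subtype.val ((liftsPullbackEquiv E h z).symm_apply_eq.2 (Subtype.ext ?_))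
      refine (hv t (z ≫ h) z hy hzz).trans ?_
      simp only [img, D.φ_self]

/-- Representability on the finer covering suffices. -/
theorem isRep_of_refine (hg₀ : SGA1.UnivSubmersive g₀) [Etale (D.obj PUnit.unit).hom] {U : Over S}
    (hU : IsRep (Dr h e D) U) : IsRep D U := by
  obtain ⟨c', hu⟩ := hU
  obtain ⟨c₀, rfl⟩ := (refine_bijective (h := h) (e := e) hg₀ (s := U.hom)).2 c'
  refine ⟨c₀, fun T s c => ?_⟩
  obtain ⟨p, hp, huniq⟩ := hu s (c.pull _ (Category.comp_id s))
  have hj : ∀ q : Lifts U s, q.1 ≫ U.hom = s := fun q => q.2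
  refine ⟨p, (refine_bijective (h := h) (e := e) hg₀).1 ?_, fun q hq => huniq q ?_⟩
  · exact (Compat.pull_res _ _ c₀ p.1 s p.2 s (hj p) (Category.comp_id s)).trans hp
  · exact (Compat.pull_res _ _ c₀ q.1 s q.2 s (hj q) (Category.comp_id s)).symm.trans
      (congrArg (Compat.pull _ (Category.comp_id s)) hq)

end Groth.Agent.EtRep9
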