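import Groth.Agent.EtRep9.Model
import Groth.Agent.LimSm.Descend
import Groth.Agent.LimSm.HomIso
import Groth.Agent.MorLib.DescendCI
import Groth.Agent.S0591

/-! Representability over a cofiltered limit comes from a stage. -/

set_option autoImplicit false
set_option backward.isDefEq.respectTransparency false
set_option backward.isDefEq.respectTransparency.types false
set_option linter.style.haveILetI false
universe u w

open CategoryTheory CategoryTheory.Limits AlgebraicGeometry Desc Groth.Agent.MorLib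

noncomputable section

namespace Groth.Agent.EtRep9

section bcm

variable {A S T T' : Scheme.{u}} (h : A ⟶ S) {j : T ⟶ S} {j' : T' ⟶ S} (τ : T ⟶ T') (e : τ ≫ j' = j)

/-- The map of base changes. -/
def bcm : pullback h j ⟶ pullback h j' :=
  pullback.lift (pullback.fst h j) (pullback.snd h j ≫ τ) (by rw [Category.assoc, e, pullback.condition])

@[reassoc (attr := simp)]
theorem bcm_fst : bcm h τ e ≫ pullback.fst h j' = pullback.fst h j := pullback.lift_fst _ _ _

@[reassoc (attr := simp)]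
theorem bcm_snd : bcm h τ e ≫ pullback.snd h j' = pullback.snd h j ≫ τ := pullback.lift_snd _ _ _

theorem isPullback_bcm : IsPullback (bcm h τ e) (pullback.snd h j) (pullback.snd h j') τ := by
  subst e
  exact IsPullback.of_right (by rw [bcm_fst]; exact IsPullback.of_hasPullback h (τ ≫ j')) (bcm_snd _ _ _)
    (IsPullback.of_hasPullback h j')

theorem bcm_comp {T'' : Scheme.{u}} {j'' : T'' ⟶ S} (τ' : T' ⟶ T'') (e' : τ' ≫ j'' = j') (σ : T ⟶ T'')
    (hσ : τ ≫ τ' = σ) :
    bcm h τ e ≫ bcm h τ' e' = bcm h σ (by rw [← hσ, Category.assoc, e', e]) := by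
  refine pullback.hom_ext ?_ ?_ <;> simp [hσ]

end bcm

section iso

variable {I : Type u} [SmallCategory I] [IsCofiltered I] (D : I ⥤ Scheme.{u}) (c : Cone D) (hc : IsLimit c)
  [∀ (i j : I) (f : i ⟶ j), IsAffineHom (D.map f)] (i₀ : I)

set_option backward.isDefEq.respectTransparency.types false in
include hc in
/-- An isomorphism at the limit comes from a stage. -/
theorem exists_iso_stage [CompactSpace (D.obj i₀)] [QuasiSeparatedSpace (D.obj i₀)]
    {X₀ Y₀ : Scheme.{u}} (a₀ : X₀ ⟶ D.obj i₀) (b₀ : Y₀ ⟶ D.obj i₀)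
    {X Y : Scheme.{u}} {a : X ⟶ c.pt} {b : Y ⟶ c.pt} {qX : X ⟶ X₀} {qY : Y ⟶ Y₀}
    (mX : ConsPropLib.IsModel a i₀ a₀ qX) (mY : ConsPropLib.IsModel b i₀ b₀ qY) (g : X ≅ Y)
    (hg : g.hom ≫ b = a) :
    ∃ (j : I) (φ : j ⟶ i₀) (e : pullback a₀ (D.map φ) ≅ pullback b₀ (D.map φ)),
      e.hom ≫ pullback.snd b₀ (D.map φ) = pullback.snd a₀ (D.map φ) ∧
      mX.push φ ≫ e.hom ≫ pullback.fst b₀ (D.map φ) = g.hom ≫ qY := by
  haveI : ∀ {i j : I} (f : i ⟶ j), IsAffineHom (D.map f) := fun {i j} f => inferInstance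
  haveI := mX.lfp; haveI := mX.qc; haveI := mX.qs
  haveI := mY.lfp; haveI := mY.qc; haveI := mY.qs
  haveI := mX.compactSpace; haveI := mX.quasiSeparatedSpace
  haveI := mY.compactSpace; haveI := mY.quasiSeparatedSpace
  obtain ⟨j, φ, gj, sA, sB, hgj, hA1, hA2, hB1, hB2, hs⟩ :=
    Groth.Agent.S9218.result D c hc i₀ a₀ b₀ _ _ mX.sq _ _ mY.sq g.hom hg
  have eA : sA = mX.push φ := pullback.hom_ext (hA1.trans (mX.push_fst φ).symm) (hA2.trans (mX.push_snd φ).symm)
  have eB : sB = mY.push φ := pullback.hom_ext (hB1.trans (mY.push_fst φ).symm) (hB2.trans (mY.push_snd φ).symm)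
  subst eA eB
  have sqg : IsPullback (mX.push φ) g.hom gj (mY.push φ) := by
    refine IsPullback.of_bot ?_ hs (mY.pushed φ).sq
    rw [hgj, hg]
    exact (mX.pushed φ).sq
  haveI := (mX.pushed φ).lfp; haveI := (mX.pushed φ).qc; haveI := (mX.pushed φ).qs
  haveI := (mY.pushed φ).lfp; haveI := (mY.pushed φ).qc; haveI := (mY.pushed φ).qs
  haveI : LocallyOfFinitePresentation (gj ≫ pullback.snd b₀ (D.map φ)) := by rw [hgj]; infer_instance
  haveI : QuasiCompact (gj ≫ pullback.snd b₀ (D.map φ)) := by rw [hgj]; infer_instance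
  haveI : QuasiSeparated (gj ≫ pullback.snd b₀ (D.map φ)) := by rw [hgj]; infer_instance
  haveI : LocallyOfFinitePresentation gj :=
    Groth.Agent.AlgSpPts.locallyOfFinitePresentation_of_comp gj (pullback.snd b₀ (D.map φ))
  haveI : QuasiCompact gj := QuasiCompact.of_comp gj (pullback.snd b₀ (D.map φ))
  haveI : QuasiSeparated gj := QuasiSeparated.of_comp gj (pullback.snd b₀ (D.map φ))
  haveI : CompactSpace ↥(pullback b₀ (D.map φ)) :=
    QuasiCompact.compactSpace_of_compactSpace (pullback.fst b₀ (D.map φ))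
  haveI : MorphismProperty.RespectsIso (@LocallyOfFinitePresentation : MorphismProperty Scheme.{u}) :=
    MorphismProperty.IsStableUnderBaseChange.respectsIso
  obtain ⟨l, ψ, Xl, Yl, gl, gYl, pY, pX, sYl, sXl, hiso⟩ := Desc.descend₂ D c hc
    (P := MorphismProperty.isomorphisms Scheme.{u}) (Q := @LocallyOfFinitePresentation) Desc.core_iso gj
    (pullback.snd b₀ (D.map φ)) inferInstance g.hom _ _ _ (mY.pushed φ).sq sqg
    (inferInstanceAs (IsIso g.hom))
  haveI : IsIso gl := hiso
  have tY := sYl.paste_horiz (IsPullback.of_hasPullback b₀ (D.map φ))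
  rw [← D.map_comp] at tY
  have tX := sXl.paste_vert sYl
  rw [hgj] at tX
  have tX' := tX.paste_horiz (IsPullback.of_hasPullback a₀ (D.map φ))
  rw [← D.map_comp] at tX'
  refine ⟨l, ψ ≫ φ, tX'.isoPullback.symm ≪≫ asIso gl ≪≫ tY.isoPullback, ?_, ?_⟩
  · simp [Iso.inv_comp_eq]
  · have key : mX.push (ψ ≫ φ) ≫ tX'.isoPullback.inv ≫ pX = mX.push φ := by
      refine pullback.hom_ext ?_ ?_
      · rw [mX.push_fst, Category.assoc, Category.assoc, IsPullback.isoPullback_inv_fst, mX.push_fst]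
      · rw [mX.push_snd, Category.assoc, Category.assoc, tX.w, IsPullback.isoPullback_inv_snd_assoc,
          ← Category.assoc, mX.push_snd, Category.assoc, c.w]
    simp only [Iso.trans_hom, Iso.symm_hom, asIso_hom, Category.assoc, IsPullback.isoPullback_hom_fst]
    rw [← reassoc_of% sXl.w, reassoc_of% key, reassoc_of% hs, mY.push_fst]

end iso

section spread

variable {S S' : Scheme.{u}} {g : S' ⟶ S} {D : SchDDFam (fun _ : PUnit.{w + 1} => g)}

theorem isIso_th_bc {U U' T T' : Scheme.{u}} {j : T ⟶ S} {j' : T' ⟶ S} {f : U ⟶ T} {f' : U' ⟶ T'}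
    {τU : U ⟶ U'} {τ : T ⟶ T'} (sq : IsPullback τU f f' τ) (e : τ ≫ j' = j) (eU : τU ≫ f' ≫ j' = f ≫ j)
    (u' : pullback g (f' ≫ j') ⟶ (D.obj PUnit.unit).left)
    (hw' : u' ≫ (D.obj PUnit.unit).hom ≫ g = (pullback.snd g (f' ≫ j') ≫ f') ≫ j')
    (h : IsIso (th f' u' hw')) (u : pullback g (f ≫ j) ⟶ (D.obj PUnit.unit).left)
    (hu : u = bcm g τU eU ≫ u')
    (hw : u ≫ (D.obj PUnit.unit).hom ≫ g = (pullback.snd g (f ≫ j) ≫ f) ≫ j) : IsIso (th f u hw) := by
  have sP := (isPullback_bcm g τU eU).paste_vert sq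
  have sE := isPullback_bcm ((D.obj PUnit.unit).hom ≫ g) τ e
  have hcomm : bcm g τU eU ≫ th f' u' hw' = th f u hw ≫ bcm ((D.obj PUnit.unit).hom ≫ g) τ e := by
    refine pullback.hom_ext ?_ ?_
    · simp [hu]
    · simp [sq.w]
  have key : IsPullback (bcm g τU eU) (th f u hw) (th f' u' hw') (bcm ((D.obj PUnit.unit).hom ≫ g) τ e) := by
    refine IsPullback.of_bot ?_ hcomm sE
    rw [pullback.lift_snd, pullback.lift_snd]
    exact sP
  exact MorphismProperty.of_isPullback (P := MorphismProperty.isomorphisms Scheme.{u}) key h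

variable {I : Type u} [SmallCategory I] [IsCofiltered I] (T : I ⥤ Scheme.{u}) (c : Cone T) (hc : IsLimit c)
  [∀ (i j : I) (f : i ⟶ j), IsAffineHom (T.map f)] [∀ i, CompactSpace (T.obj i)]
  [∀ i, QuasiSeparatedSpace (T.obj i)] (J : ∀ i, T.obj i ⟶ S)
  (hJ : ∀ {l i : I} (φ : l ⟶ i), T.map φ ≫ J i = J l) {jl : c.pt ⟶ S} (hjl : ∀ i, c.π.app i ≫ J i = jl)

include hc in
omit [∀ i, CompactSpace (T.obj i)] [∀ i, QuasiSeparatedSpace (T.obj i)] in
theorem eq_stage {i : I} [CompactSpace (T.obj i)] [QuasiSeparatedSpace (T.obj i)] {Z : Scheme.{u}}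
    (h : Z ⟶ T.obj i) [QuasiCompact h] [QuasiSeparated h] {Z' : Scheme.{u}} {qZ : Z' ⟶ Z} {pZ : Z' ⟶ c.pt}
    (hZ : IsPullback qZ pZ h (c.π.app i)) {M : Scheme.{u}} (m : M ⟶ S) [LocallyOfFiniteType m] (a b : Z ⟶ M)
    (ha : a ≫ m = h ≫ J i) (hb : b ≫ m = h ≫ J i) (e : qZ ≫ a = qZ ≫ b) :
    ∃ (l : I) (φ : l ⟶ i), pullback.fst h (T.map φ) ≫ a = pullback.fst h (T.map φ) ≫ b := by
  haveI : ∀ {i j : I} (f : i ⟶ j), IsAffineHom (T.map f) := fun {i j} f => inferInstance
  haveI : CompactSpace Z := QuasiCompact.compactSpace_of_compactSpace h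
  haveI : QuasiSeparatedSpace Z := quasiSeparatedSpace_of_quasiSeparated h
  let B := BC.diag T h
  haveI : ∀ {j k : Over i} (f : j ⟶ k), IsAffineHom (B.map f) := fun f => BC.isAffineHom_map T h f
  haveI : ∀ j, CompactSpace (B.obj j) := fun j => BC.compactSpace_obj T h j
  haveI : ∀ j, QuasiSeparatedSpace (B.obj j) := fun j => BC.quasiSeparatedSpace_obj T h j
  let T₀ : Over i := Over.mk (𝟙 i)
  obtain ⟨k, f, hf⟩ := Scheme.exists_hom_comp_eq_comp_of_locallyOfFiniteType B
    (BC.toStart T h ≫ (Functor.const (Over i)).map (h ≫ J i)) m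
    (BC.cone T h hZ) (BC.isLimitCone T h hZ hc) (i := T₀)
    ((BC.toStart T h).app T₀ ≫ a) ((BC.toStart T h).app T₀ ≫ b)
    (by simp [ha]) (by simp [hb])
    (((Category.assoc _ _ _).symm.trans (congrArg (· ≫ a) (BC.proj_fst T h hZ T₀))).trans
      (e.trans ((congrArg (· ≫ b) (BC.proj_fst T h hZ T₀)).symm.trans (Category.assoc _ _ _))))
  refine ⟨k.left, k.hom, ?_⟩
  have e' := BC.map_fst T h f
  exact (((congrArg (· ≫ a) e').symm.trans (Category.assoc _ _ _)).trans hf).trans
    ((Category.assoc _ _ _).symm.trans (congrArg (· ≫ b) e'))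

include hc hJ hjl in
/-- A representing scheme at the limit comes from a stage. -/
theorem exists_isMdl_stage [LocallyOfFinitePresentation g] [QuasiCompact g] [QuasiSeparated g]
    [Etale (D.obj PUnit.unit).hom] [QuasiCompact (D.obj PUnit.unit).hom] [QuasiSeparated (D.obj PUnit.unit).hom]
    {U : Scheme.{u}} (f : U ⟶ c.pt) [Etale f] [QuasiCompact f] [QuasiSeparated f]
    {u : pullback g (f ≫ jl) ⟶ (D.obj PUnit.unit).left} (H : IsMdl D jl f u) :
    ∃ (n : I) (U' : Scheme.{u}) (f' : U' ⟶ T.obj n) (u' : pullback g (f' ≫ J n) ⟶ (D.obj PUnit.unit).left),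
      Etale f' ∧ IsMdl D (J n) f' u' := by
  classical
  haveI : ∀ {i j : I} (f : i ⟶ j), IsAffineHom (T.map f) := fun {i j} f => inferInstance
  haveI : MorphismProperty.RespectsIso (@LocallyOfFinitePresentation : MorphismProperty Scheme.{u}) :=
    MorphismProperty.IsStableUnderBaseChange.respectsIso
  let E := D.obj PUnit.unit
  -- an etale model at a stage
  obtain ⟨i, Ui, fi, q, hsq, hEt, hqc, hqs⟩ : ∃ (i : I) (Ui : Scheme.{u}) (fi : Ui ⟶ T.obj i) (q : U ⟶ Ui),
      IsPullback q f fi (c.π.app i) ∧ Etale fi ∧ QuasiCompact fi ∧ QuasiSeparated fi := by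
    obtain ⟨i₀, U₀, f₀, q₀, hlfp, hqc, hqs, hsq⟩ := Groth.Agent.S0591.result T c hc U f
    haveI := hlfp; haveI := hqc; haveI := hqs
    obtain ⟨i, φ, h₁⟩ := Desc.descend T c hc i₀ (P := @Etale)
      (Q := @LocallyOfFinitePresentation) Groth.Agent.LimSm.core_etale f₀ hlfp
      (Desc.of_two @Etale hsq (IsPullback.of_hasPullback _ _) inferInstance)
    let m : ConsPropLib.IsModel f i₀ f₀ q₀ := ⟨hlfp, hqc, hqs, hsq⟩
    exact ⟨i, _, _, m.push φ, (m.pushed φ).sq, h₁, (m.pushed φ).qc, (m.pushed φ).qs⟩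
  haveI := hEt; haveI := hqc; haveI := hqs
  have eU : q ≫ fi ≫ J i = f ≫ jl := by rw [reassoc_of% hsq.w, hjl]
  have mX : ConsPropLib.IsModel (pullback.snd g (f ≫ jl) ≫ f) i (pullback.snd g (fi ≫ J i) ≫ fi) (bcm g q eU) :=
    ⟨inferInstance, inferInstance, inferInstance, (isPullback_bcm g q eU).paste_vert hsq⟩
  have mY : ConsPropLib.IsModel (pullback.snd (E.hom ≫ g) jl) i (pullback.snd (E.hom ≫ g) (J i))
      (bcm (E.hom ≫ g) (c.π.app i) (hjl i)) :=
    ⟨inferInstance, inferInstance, inferInstance, isPullback_bcm _ _ _⟩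
  haveI := H.iso
  obtain ⟨l, φ, e, he₁, he₂⟩ := exists_iso_stage T c hc i _ _ mX mY (asIso (th f u (hw_of_hu H.hu)))
    (by rw [asIso_hom, pullback.lift_snd])
  -- stage `l`: the comparison is an isomorphism
  let fl := pullback.snd fi (T.map φ)
  let ql : U ⟶ pullback fi (T.map φ) := pullback.lift q (f ≫ c.π.app l) (by rw [Category.assoc, c.w, hsq.w])
  have hql : IsPullback ql f fl (c.π.app l) :=
    IsPullback.of_right (by rw [pullback.lift_fst, c.w]; exact hsq) (pullback.lift_snd _ _ _)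
      (IsPullback.of_hasPullback fi (T.map φ))
  have eτ : pullback.fst fi (T.map φ) ≫ fi ≫ J i = fl ≫ J l := by rw [pullback.condition_assoc, hJ]
  have eql : ql ≫ fl ≫ J l = f ≫ jl := by rw [reassoc_of% hql.w, hjl]
  have sPl := (isPullback_bcm g (pullback.fst fi (T.map φ)) eτ).paste_vert (IsPullback.of_hasPullback fi (T.map φ))
  have sEl := isPullback_bcm (E.hom ≫ g) (T.map φ) (hJ φ)
  let θl := sPl.isoPullback.hom ≫ e.hom ≫ sEl.isoPullback.inv
  have hθs : θl ≫ pullback.snd (E.hom ≫ g) (J l) = pullback.snd g (fl ≫ J l) ≫ fl := by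
    simp only [θl, Category.assoc, IsPullback.isoPullback_inv_snd, he₁, IsPullback.isoPullback_hom_snd]
    rfl
  let ul : pullback g (fl ≫ J l) ⟶ E.left := θl ≫ pullback.fst (E.hom ≫ g) (J l)
  have hwl : ul ≫ E.hom ≫ g = (pullback.snd g (fl ≫ J l) ≫ fl) ≫ J l := by
    change (θl ≫ pullback.fst (E.hom ≫ g) (J l)) ≫ E.hom ≫ g = _
    rw [Category.assoc, pullback.condition, ← Category.assoc, hθs]
  have hisol : IsIso (th fl ul hwl) := by
    rw [show th fl ul hwl = θl from pullback.hom_ext (pullback.lift_fst _ _ _) ((pullback.lift_snd _ _ _).trans hθs.symm)]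
    infer_instance
  have hul : bcm g ql eql ≫ ul = u := by
    have h1 : bcm g ql eql ≫ sPl.isoPullback.hom = mX.push φ := by
      refine pullback.hom_ext ?_ ?_
      · rw [Category.assoc, IsPullback.isoPullback_hom_fst, mX.push_fst,
          bcm_comp g ql eql (pullback.fst fi (T.map φ)) eτ q (pullback.lift_fst _ _ _)]
      · rw [Category.assoc, IsPullback.isoPullback_hom_snd, mX.push_snd, bcm_snd_assoc, Category.assoc, hql.w]
    have h2 : sEl.isoPullback.inv ≫ pullback.fst (E.hom ≫ g) (J l) =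
        pullback.fst _ (T.map φ) ≫ pullback.fst (E.hom ≫ g) (J i) := by
      rw [Iso.inv_comp_eq, IsPullback.isoPullback_hom_fst_assoc, bcm_fst]
    simp only [ul, θl, Category.assoc]
    rw [h2, reassoc_of% h1, reassoc_of% he₂, asIso_hom, bcm_fst, pullback.lift_fst]
  haveI : Etale fl := inferInstance
  haveI : LocallyOfFiniteType g := inferInstance
  haveI : LocallyOfFiniteType (E.hom ≫ g) := inferInstance
  -- stage `m`: it lies over `S'`
  obtain ⟨m, ψ, hψ⟩ := eq_stage T c hc J (pullback.snd g (fl ≫ J l) ≫ fl)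
    ((isPullback_bcm g ql eql).paste_vert hql) g (ul ≫ E.hom) (pullback.fst g (fl ≫ J l))
    (by rw [Category.assoc]; exact hwl) (by rw [pullback.condition, Category.assoc])
    (by rw [reassoc_of% hul, bcm_fst]; exact H.hu)
  let fm := pullback.snd fl (T.map ψ)
  let qm : U ⟶ pullback fl (T.map ψ) := pullback.lift ql (f ≫ c.π.app m) (by rw [Category.assoc, c.w, hql.w])
  have hqm : IsPullback qm f fm (c.π.app m) :=
    IsPullback.of_right (by rw [pullback.lift_fst, c.w]; exact hql) (pullback.lift_snd _ _ _)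
      (IsPullback.of_hasPullback fl (T.map ψ))
  have eτm : pullback.fst fl (T.map ψ) ≫ fl ≫ J l = fm ≫ J m := by rw [pullback.condition_assoc, hJ]
  have eqm : qm ≫ fm ≫ J m = f ≫ jl := by rw [reassoc_of% hqm.w, hjl]
  have sPm := (isPullback_bcm g (pullback.fst fl (T.map ψ)) eτm).paste_vert (IsPullback.of_hasPullback fl (T.map ψ))
  let um : pullback g (fm ≫ J m) ⟶ E.left := bcm g (pullback.fst fl (T.map ψ)) eτm ≫ ul
  have hum : um ≫ E.hom = pullback.fst g (fm ≫ J m) := by
    rw [Category.assoc, ← sPm.isoPullback_hom_fst, Category.assoc, hψ, sPm.isoPullback_hom_fst_assoc, bcm_fst]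
  have hisom : IsIso (th fm um (hw_of_hu hum)) :=
    isIso_th_bc (IsPullback.of_hasPullback fl (T.map ψ)) (hJ ψ) eτm ul hwl hisol um rfl _
  have hum' : bcm g qm eqm ≫ um = u := by
    simp only [um]
    rw [← Category.assoc, bcm_comp g qm eqm (pullback.fst fl (T.map ψ)) eτm ql (pullback.lift_fst _ _ _), hul]
  -- stage `n`: it is compatible with the gluing
  haveI : Etale fm := inferInstance
  let s := pullback.snd g (fm ≫ J m)
  let hR := pullback.fst s s ≫ s ≫ fm
  have hcR : (pullback.fst s s ≫ pullback.fst g (fm ≫ J m)) ≫ g = (pullback.snd s s ≫ pullback.fst g (fm ≫ J m)) ≫ g := by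
    rw [Category.assoc, Category.assoc, pullback.condition (f := g), pullback.condition_assoc]
  let aR := D.φ (i := PUnit.unit) (j := PUnit.unit) (pullback.fst s s ≫ pullback.fst g (fm ≫ J m)) (pullback.snd s s ≫ pullback.fst g (fm ≫ J m)) hcR
    ⟨pullback.fst s s ≫ um, by rw [Category.assoc, hum]⟩
  have sPi := (isPullback_bcm g qm eqm).paste_vert hqm
  obtain ⟨n, χ, hχ⟩ := eq_stage T c hc J hR (IsPullback.of_hasPullback hR (c.π.app m)) (E.hom ≫ g)
    aR.1 (pullback.snd s s ≫ um)
    (by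
      rw [← Category.assoc, aR.2, Category.assoc, pullback.condition, ← pullback.condition_assoc]
      simp only [hR, s, Category.assoc])
    (by
      rw [Category.assoc, reassoc_of% hum, pullback.condition, ← pullback.condition_assoc]
      simp only [hR, s, Category.assoc])
    (by
      let r := pullback.fst hR (c.π.app m)
      let p := pullback.snd hR (c.π.app m)
      have hp : r ≫ hR = p ≫ c.π.app m := pullback.condition
      let ai := sPi.lift (r ≫ pullback.fst s s) p (by simpa [hR, s] using hp)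
      let bi := sPi.lift (r ≫ pullback.snd s s) p (by
        simp only [Category.assoc]
        rw [← pullback.condition_assoc]
        simpa [hR, s] using hp)
      have ea : ai ≫ bcm g qm eqm = r ≫ pullback.fst s s := sPi.lift_fst _ _ _
      have eb : bi ≫ bcm g qm eqm = r ≫ pullback.snd s s := sPi.lift_fst _ _ _
      have hab : ai ≫ pullback.snd g (f ≫ jl) = bi ≫ pullback.snd g (f ≫ jl) := by
        refine hqm.hom_ext ?_ ?_
        · rw [Category.assoc, Category.assoc, ← bcm_snd g qm eqm, ← Category.assoc, ea, ← Category.assoc bi, eb,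
            Category.assoc, Category.assoc]
          exact congrArg (r ≫ ·) pullback.condition
        · rw [Category.assoc, Category.assoc, IsPullback.lift_snd, IsPullback.lift_snd]
      have ea1 : ai ≫ pullback.fst g (f ≫ jl) = r ≫ pullback.fst s s ≫ pullback.fst g (fm ≫ J m) := by
        rw [← bcm_fst g qm eqm, ← Category.assoc, ea, Category.assoc]
      have eb1 : bi ≫ pullback.fst g (f ≫ jl) = r ≫ pullback.snd s s ≫ pullback.fst g (fm ≫ J m) := by
        rw [← bcm_fst g qm eqm, ← Category.assoc, eb, Category.assoc]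
      have key := H.comm ai bi hab
      change r ≫ aR.1 = r ≫ pullback.snd s s ≫ um
      rw [D.φ_natural r (i := PUnit.unit) (j := PUnit.unit) _ _ hcR _ _ ea1.symm eb1.symm
        (by simp only [Category.assoc, pullback.condition, reassoc_of% hab])
        ⟨pullback.fst s s ≫ um, by rw [Category.assoc, hum]⟩
        ⟨ai ≫ u, by rw [Category.assoc, H.hu]⟩ (by
          change ai ≫ u = r ≫ pullback.fst s s ≫ um
          rw [← hum', ← Category.assoc, ea, Category.assoc])] at key
      rw [key, ← hum', ← Category.assoc, eb, Category.assoc])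
  let fn := pullback.snd fm (T.map χ)
  have eτn : pullback.fst fm (T.map χ) ≫ fm ≫ J m = fn ≫ J n := by rw [pullback.condition_assoc, hJ]
  let τn := bcm g (pullback.fst fm (T.map χ)) eτn
  let un : pullback g (fn ≫ J n) ⟶ E.left := τn ≫ um
  have hun : un ≫ E.hom = pullback.fst g (fn ≫ J n) := by rw [Category.assoc, hum, bcm_fst]
  refine ⟨n, _, fn, un, inferInstance, hun,
    isIso_th_bc (IsPullback.of_hasPullback fm (T.map χ)) (hJ χ) eτn um (hw_of_hu hum) hisom un rfl _, ?_⟩
  intro Z a b hab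
  let r : Z ⟶ pullback s s := pullback.lift (a ≫ τn) (b ≫ τn) (by
    simp only [τn, s, Category.assoc, bcm_snd, reassoc_of% hab])
  let r' : Z ⟶ pullback hR (T.map χ) := pullback.lift r (a ≫ pullback.snd g (fn ≫ J n) ≫ fn) (by
    simp only [hR, r, s, τn, fn, pullback.lift_fst_assoc, Category.assoc, bcm_snd_assoc, pullback.condition])
  have key : r ≫ aR.1 = r ≫ pullback.snd s s ≫ um := by
    have := congrArg (r' ≫ ·) hχ
    simpa only [r', ← Category.assoc, pullback.lift_fst] using this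
  have ea : r ≫ pullback.fst s s ≫ pullback.fst g (fm ≫ J m) = a ≫ pullback.fst g (fn ≫ J n) := by
    simp [r, τn]
  have eb : r ≫ pullback.snd s s ≫ pullback.fst g (fm ≫ J m) = b ≫ pullback.fst g (fn ≫ J n) := by
    simp [r, τn]
  refine (D.φ_natural r (i := PUnit.unit) (j := PUnit.unit) _ _ hcR _ _ ea eb _ _ _ ?_).trans (key.trans ?_)
  · simp [r, un]
  · simp [r, un]

end spread

end Groth.Agent.EtRep9
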