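import Groth.Agent.EtRep9.Spread

/-! Representability comes from a stage, for quasi-compact quasi-separated coverings. -/

set_option autoImplicit false
set_option backward.isDefEq.respectTransparency false
set_option backward.isDefEq.respectTransparency.types false
set_option linter.style.haveILetI false
universe u w

open CategoryTheory CategoryTheory.Limits AlgebraicGeometry Desc Groth.Agent.MorLib

noncomputable section

namespace Groth.Agent.EtRep9

section rel

variable {I : Type u} [SmallCategory I] [IsCofiltered I] (T : I ⥤ Scheme.{u}) (c : Cone T) (hc : IsLimit c)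
  [∀ (i j : I) (f : i ⟶ j), IsAffineHom (T.map f)]

include hc in
/-- Two maps at a stage to a scheme of finite type over `S'`, equal at the limit, are equal later. -/
theorem eq_stage_over {i : I} [CompactSpace (T.obj i)] [QuasiSeparatedSpace (T.obj i)] {Z : Scheme.{u}}
    (h : Z ⟶ T.obj i) [QuasiCompact h] [QuasiSeparated h] {Z' : Scheme.{u}} {qZ : Z' ⟶ Z} {pZ : Z' ⟶ c.pt}
    (hZ : IsPullback qZ pZ h (c.π.app i)) {S' M : Scheme.{u}} (m : M ⟶ S') [LocallyOfFiniteType m]
    (y : Z ⟶ S') (a b : Z ⟶ M) (ha : a ≫ m = y) (hb : b ≫ m = y) (e : qZ ≫ a = qZ ≫ b) :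
    ∃ (l : I) (φ : l ⟶ i), pullback.fst h (T.map φ) ≫ a = pullback.fst h (T.map φ) ≫ b := by
  haveI : ∀ {i j : I} (f : i ⟶ j), IsAffineHom (T.map f) := fun {i j} f => inferInstance
  haveI : CompactSpace Z := QuasiCompact.compactSpace_of_compactSpace h
  haveI : QuasiSeparatedSpace Z := quasiSeparatedSpace_of_quasiSeparated h
  let B := BC.diag T h
  haveI : ∀ {j k : Over i} (f : j ⟶ k), IsAffineHom (B.map f) := fun f => BC.isAffineHom_map T h f
  haveI : ∀ j, CompactSpace (B.obj j) := fun j => BC.compactSpace_obj T h j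
  haveI : ∀ j, QuasiSeparatedSpace (B.obj j) := fun j => BC.quasiSeparatedSpace_obj T h j
  let T₀ : Over i := Over.mk (𝟙 i)
  obtain ⟨k, f, hf⟩ := Scheme.exists_hom_comp_eq_comp_of_locallyOfFiniteType B
    (BC.toStart T h ≫ (Functor.const (Over i)).map y) m
    (BC.cone T h hZ) (BC.isLimitCone T h hZ hc) (i := T₀)
    ((BC.toStart T h).app T₀ ≫ a) ((BC.toStart T h).app T₀ ≫ b)
    (by simp [ha]) (by simp [hb])
    (((Category.assoc _ _ _).symm.trans (congrArg (· ≫ a) (BC.proj_fst T h hZ T₀))).trans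
      (e.trans ((congrArg (· ≫ b) (BC.proj_fst T h hZ T₀)).symm.trans (Category.assoc _ _ _))))
  refine ⟨k.left, k.hom, ?_⟩
  have e' := BC.map_fst T h f
  exact (((congrArg (· ≫ a) e').symm.trans (Category.assoc _ _ _)).trans hf).trans
    ((Category.assoc _ _ _).symm.trans (congrArg (· ≫ b) e'))

include hc in
/-- An isomorphism over a base change of the limit comes from a stage. -/
theorem exists_iso_stage_rel (i : I) [CompactSpace (T.obj i)] [QuasiSeparatedSpace (T.obj i)]
    {X₀ Y₀ P : Scheme.{u}} (a₀ : X₀ ⟶ P) (b₀ : Y₀ ⟶ P) (p : P ⟶ T.obj i)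
    [QuasiCompact p] [QuasiSeparated p]
    [LocallyOfFinitePresentation a₀] [QuasiCompact a₀] [QuasiSeparated a₀]
    [LocallyOfFinitePresentation b₀] [QuasiCompact b₀] [QuasiSeparated b₀]
    {X Y : Scheme.{u}} {a : X ⟶ c.pt} {b : Y ⟶ c.pt} {qX : X ⟶ X₀} {qY : Y ⟶ Y₀}
    (sX : IsPullback qX a (a₀ ≫ p) (c.π.app i)) (sY : IsPullback qY b (b₀ ≫ p) (c.π.app i)) (g : X ≅ Y)
    (hg : g.hom ≫ b = a) (hgP : g.hom ≫ qY ≫ b₀ = qX ≫ a₀) :
    ∃ (j : I) (φ : j ⟶ i) (e : pullback (a₀ ≫ p) (T.map φ) ≅ pullback (b₀ ≫ p) (T.map φ)),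
      e.hom ≫ pullback.snd (b₀ ≫ p) (T.map φ) = pullback.snd (a₀ ≫ p) (T.map φ) ∧
      e.hom ≫ pullback.fst (b₀ ≫ p) (T.map φ) ≫ b₀ = pullback.fst (a₀ ≫ p) (T.map φ) ≫ a₀ ∧
      pullback.lift qX (a ≫ c.π.app j) (by rw [Category.assoc, c.w]; exact sX.w) ≫ e.hom ≫
        pullback.fst (b₀ ≫ p) (T.map φ) = g.hom ≫ qY := by
  haveI : ∀ {i j : I} (f : i ⟶ j), IsAffineHom (T.map f) := fun {i j} f => inferInstance
  haveI : MorphismProperty.RespectsIso (@LocallyOfFinitePresentation : MorphismProperty Scheme.{u}) :=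
    MorphismProperty.IsStableUnderBaseChange.respectsIso
  have hP := IsPullback.of_hasPullback p (c.π.app i)
  let B := BC.diag T p
  let cB := BC.cone T p hP
  have hcB := BC.isLimitCone T p hP hc
  haveI : CompactSpace P := QuasiCompact.compactSpace_of_compactSpace p
  haveI : QuasiSeparatedSpace P := quasiSeparatedSpace_of_quasiSeparated p
  haveI : ∀ (j k : Over i) (f : j ⟶ k), IsAffineHom (B.map f) := fun _ _ f => BC.isAffineHom_map T p f
  haveI : ∀ j, CompactSpace (B.obj j) := fun j => BC.compactSpace_obj T p j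
  haveI : ∀ j, QuasiSeparatedSpace (B.obj j) := fun j => BC.quasiSeparatedSpace_obj T p j
  let T₀ : Over i := Over.mk (𝟙 i)
  haveI : IsIso (T.map (𝟙 i)) := by rw [T.map_id]; infer_instance
  let u₀ : B.obj T₀ ⟶ P := pullback.fst p (T.map (𝟙 i))
  haveI : IsIso u₀ := inferInstanceAs (IsIso (pullback.fst p (T.map (𝟙 i))))
  let a₁ : X₀ ⟶ B.obj T₀ := a₀ ≫ inv u₀
  let b₁ : Y₀ ⟶ B.obj T₀ := b₀ ≫ inv u₀
  let aP : X ⟶ cB.pt := hP.lift (qX ≫ a₀) a (by rw [Category.assoc]; exact sX.w)
  let bP : Y ⟶ cB.pt := hP.lift (qY ≫ b₀) b (by rw [Category.assoc]; exact sY.w)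
  have hu : cB.π.app T₀ ≫ u₀ = pullback.fst p (c.π.app i) := BC.proj_fst T p hP T₀
  have sqX : IsPullback qX aP a₁ (cB.π.app T₀) := by
    have h1 : IsPullback qX aP a₀ (pullback.fst p (c.π.app i)) :=
      IsPullback.of_bot (by rw [hP.lift_snd]; exact sX) (hP.lift_fst _ _ _).symm hP
    refine h1.of_iso (Iso.refl _) (Iso.refl _) (Iso.refl _) (asIso u₀).symm (by simp) (by simp) (by simp [a₁]) ?_
    simp only [Iso.refl_hom, Iso.symm_hom, asIso_inv, Category.id_comp, IsIso.comp_inv_eq]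
    exact hu.symm
  have sqY : IsPullback qY bP b₁ (cB.π.app T₀) := by
    have h1 : IsPullback qY bP b₀ (pullback.fst p (c.π.app i)) :=
      IsPullback.of_bot (by rw [hP.lift_snd]; exact sY) (hP.lift_fst _ _ _).symm hP
    refine h1.of_iso (Iso.refl _) (Iso.refl _) (Iso.refl _) (asIso u₀).symm (by simp) (by simp) (by simp [b₁]) ?_
    simp only [Iso.refl_hom, Iso.symm_hom, asIso_inv, Category.id_comp, IsIso.comp_inv_eq]
    exact hu.symm
  have mX : ConsPropLib.IsModel (c := cB) aP T₀ a₁ qX := ⟨inferInstance, inferInstance, inferInstance, sqX⟩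
  have mY : ConsPropLib.IsModel (c := cB) bP T₀ b₁ qY := ⟨inferInstance, inferInstance, inferInstance, sqY⟩
  obtain ⟨k, ψ, e, he₁, he₂⟩ := exists_iso_stage B cB hcB T₀ a₁ b₁ mX mY g (by
    refine hP.hom_ext ?_ ?_
    · rw [Category.assoc, hP.lift_fst, hP.lift_fst, hgP]
    · rw [Category.assoc, hP.lift_snd, hP.lift_snd, hg])
  have eψ : B.map ψ ≫ u₀ = pullback.fst p (T.map k.hom) := BC.map_fst T p ψ
  have tX : IsPullback (pullback.fst a₁ (B.map ψ)) (pullback.snd a₁ (B.map ψ) ≫ pullback.snd p (T.map k.hom))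
      (a₀ ≫ p) (T.map k.hom) := by
    have h1 : IsPullback (pullback.fst a₁ (B.map ψ)) (pullback.snd a₁ (B.map ψ)) a₀ (pullback.fst p (T.map k.hom)) := by
      refine (IsPullback.of_hasPullback a₁ (B.map ψ)).of_iso (Iso.refl _) (Iso.refl _) (Iso.refl _) (asIso u₀)
        (by simp) (by simp) (by simp [a₁]) ?_
      simp only [Iso.refl_hom, asIso_hom, Category.id_comp]
      exact eψ
    exact h1.paste_vert (IsPullback.of_hasPullback p (T.map k.hom))
  have tY : IsPullback (pullback.fst b₁ (B.map ψ)) (pullback.snd b₁ (B.map ψ) ≫ pullback.snd p (T.map k.hom))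
      (b₀ ≫ p) (T.map k.hom) := by
    have h1 : IsPullback (pullback.fst b₁ (B.map ψ)) (pullback.snd b₁ (B.map ψ)) b₀ (pullback.fst p (T.map k.hom)) := by
      refine (IsPullback.of_hasPullback b₁ (B.map ψ)).of_iso (Iso.refl _) (Iso.refl _) (Iso.refl _) (asIso u₀)
        (by simp) (by simp) (by simp [b₁]) ?_
      simp only [Iso.refl_hom, asIso_hom, Category.id_comp]
      exact eψ
    exact h1.paste_vert (IsPullback.of_hasPullback p (T.map k.hom))
  refine ⟨k.left, k.hom, tX.isoPullback.symm ≪≫ e ≪≫ tY.isoPullback, ?_, ?_, ?_⟩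
  · simp only [Iso.trans_hom, Iso.symm_hom, Category.assoc, IsPullback.isoPullback_hom_snd]
    rw [reassoc_of% he₁, IsPullback.isoPullback_inv_snd]
  · simp only [Iso.trans_hom, Iso.symm_hom, Category.assoc, IsPullback.isoPullback_hom_fst_assoc, Iso.inv_comp_eq,
      IsPullback.isoPullback_hom_fst_assoc]
    have h1 : ∀ {Z₀ : Scheme.{u}} (z : Z₀ ⟶ P), z = (z ≫ inv u₀) ≫ u₀ := fun z => by simp
    rw [h1 a₀, h1 b₀]
    rw [show pullback.fst b₁ (B.map ψ) ≫ (b₀ ≫ inv u₀) ≫ u₀ = pullback.snd b₁ (B.map ψ) ≫ B.map ψ ≫ u₀ from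
      pullback.condition_assoc u₀,
      show pullback.fst a₁ (B.map ψ) ≫ (a₀ ≫ inv u₀) ≫ u₀ = pullback.snd a₁ (B.map ψ) ≫ B.map ψ ≫ u₀ from
      pullback.condition_assoc u₀, reassoc_of% he₁]
  · simp only [Iso.trans_hom, Iso.symm_hom, Category.assoc, IsPullback.isoPullback_hom_fst]
    refine Eq.trans ?_ he₂
    rw [← Category.assoc]
    congr 1
    rw [Iso.comp_inv_eq]
    refine pullback.hom_ext ?_ ?_
    · rw [pullback.lift_fst, Category.assoc, IsPullback.isoPullback_hom_fst, mX.push_fst]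
    · rw [pullback.lift_snd, Category.assoc, IsPullback.isoPullback_hom_snd, reassoc_of% mX.push_snd ψ]
      rw [show cB.π.app k ≫ pullback.snd p (T.map k.hom) = pullback.snd p (c.π.app i) ≫ c.π.app k.left from
        BC.proj_snd T p hP k, reassoc_of% (show aP ≫ pullback.snd p (c.π.app i) = a from hP.lift_snd _ _ _)]

end rel

section spread

variable {S S' : Scheme.{u}} {g : S' ⟶ S} {D : SchDDFam (fun _ : PUnit.{w + 1} => g)}
  {I : Type u} [SmallCategory I] [IsCofiltered I] (T : I ⥤ Scheme.{u}) (c : Cone T) (hc : IsLimit c)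
  [∀ (i j : I) (f : i ⟶ j), IsAffineHom (T.map f)] [∀ i, CompactSpace (T.obj i)]
  [∀ i, QuasiSeparatedSpace (T.obj i)] (J : ∀ i, T.obj i ⟶ S)
  (hJ : ∀ {l i : I} (φ : l ⟶ i), T.map φ ≫ J i = J l) {jl : c.pt ⟶ S} (hjl : ∀ i, c.π.app i ≫ J i = jl)

include hc hJ hjl in
/-- A representing scheme at the limit comes from a stage. -/
theorem exists_isMdl_stage_qc [QuasiCompact g] [QuasiSeparated g]
    [Etale (D.obj PUnit.unit).hom] [QuasiCompact (D.obj PUnit.unit).hom] [QuasiSeparated (D.obj PUnit.unit).hom]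
    {U : Scheme.{u}} (f : U ⟶ c.pt) [Etale f] [QuasiCompact f] [QuasiSeparated f]
    {u : pullback g (f ≫ jl) ⟶ (D.obj PUnit.unit).left} (H : IsMdl D jl f u) :
    ∃ (n : I) (U' : Scheme.{u}) (f' : U' ⟶ T.obj n) (u' : pullback g (f' ≫ J n) ⟶ (D.obj PUnit.unit).left),
      Etale f' ∧ IsMdl D (J n) f' u' := by
  classical
  haveI : ∀ {i j : I} (f : i ⟶ j), IsAffineHom (T.map f) := fun {i j} f => inferInstance
  haveI : MorphismProperty.RespectsIso (@LocallyOfFinitePresentation : MorphismProperty Scheme.{u}) :=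
    MorphismProperty.IsStableUnderBaseChange.respectsIso
  let E := D.obj PUnit.unit
  -- an etale model at a stage
  obtain ⟨i, Ui, fi, q, hsq, hEt, hqc, hqs⟩ : ∃ (i : I) (Ui : Scheme.{u}) (fi : Ui ⟶ T.obj i) (q : U ⟶ Ui),
      IsPullback q f fi (c.π.app i) ∧ Etale fi ∧ QuasiCompact fi ∧ QuasiSeparated fi := by
    obtain ⟨i₀, U₀, f₀, q₀, hlfp, hqc, hqs, hsq⟩ := Groth.Agent.S0591.result T c hc U f
    haveI := hlfp; haveI := hqc; haveI := hqs
    obtain ⟨i, φ, h₁⟩ := Desc.descend T c hc i₀ (P := @Etale)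
      (Q := @LocallyOfFinitePresentation) Groth.Agent.LimSm.core_etale f₀ hlfp
      (Desc.of_two @Etale hsq (IsPullback.of_hasPullback _ _) inferInstance)
    let m : ConsPropLib.IsModel f i₀ f₀ q₀ := ⟨hlfp, hqc, hqs, hsq⟩
    exact ⟨i, _, _, m.push φ, (m.pushed φ).sq, h₁, (m.pushed φ).qc, (m.pushed φ).qs⟩
  haveI := hEt; haveI := hqc; haveI := hqs
  have eU : q ≫ fi ≫ J i = f ≫ jl := by rw [reassoc_of% hsq.w, hjl]
  haveI : QuasiSeparated E.hom := inferInstance
  let P := pullback g (J i)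
  let a₀ : pullback g (fi ≫ J i) ⟶ P := bcm g fi rfl
  let b₀ : pullback (E.hom ≫ g) (J i) ⟶ P := pullback.lift (pullback.fst _ _ ≫ E.hom) (pullback.snd _ _)
    (by rw [Category.assoc]; exact pullback.condition)
  have hb₀ : IsPullback (pullback.fst (E.hom ≫ g) (J i)) b₀ E.hom (pullback.fst g (J i)) := by
    refine IsPullback.flip (IsPullback.of_right ?_ (pullback.lift_fst _ _ _) (IsPullback.of_hasPullback g (J i)).flip)
    rw [pullback.lift_snd]
    exact (IsPullback.of_hasPullback (E.hom ≫ g) (J i)).flip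
  have ha₀ : IsPullback a₀ (pullback.snd g (fi ≫ J i)) (pullback.snd g (J i)) fi := isPullback_bcm _ _ _
  haveI : Etale a₀ := MorphismProperty.of_isPullback ha₀.flip ‹Etale fi›
  haveI : QuasiCompact a₀ := MorphismProperty.of_isPullback ha₀.flip ‹QuasiCompact fi›
  haveI : QuasiSeparated a₀ := MorphismProperty.of_isPullback ha₀.flip ‹QuasiSeparated fi›
  haveI : Etale b₀ := MorphismProperty.of_isPullback hb₀ ‹Etale E.hom›
  haveI : QuasiCompact b₀ := MorphismProperty.of_isPullback hb₀ ‹QuasiCompact E.hom›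
  haveI : QuasiSeparated b₀ := MorphismProperty.of_isPullback hb₀ ‹QuasiSeparated E.hom›
  haveI := H.iso
  have sX : IsPullback (bcm g q eU) (pullback.snd g (f ≫ jl) ≫ f) (a₀ ≫ pullback.snd g (J i)) (c.π.app i) := by
    have h1 := (isPullback_bcm g q eU).paste_vert hsq
    rwa [show a₀ ≫ pullback.snd g (J i) = pullback.snd g (fi ≫ J i) ≫ fi from bcm_snd _ _ _]
  have sY : IsPullback (bcm (E.hom ≫ g) (c.π.app i) (hjl i)) (pullback.snd (E.hom ≫ g) jl)
      (b₀ ≫ pullback.snd g (J i)) (c.π.app i) := by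
    rw [pullback.lift_snd]; exact isPullback_bcm _ _ _
  obtain ⟨l, φ, e, he₁, heP, he₂⟩ := exists_iso_stage_rel T c hc i a₀ b₀ (pullback.snd g (J i)) sX sY
    (asIso (th f u (hw_of_hu H.hu)))
    (by rw [asIso_hom, pullback.lift_snd]) (by
      refine pullback.hom_ext ?_ ?_
      · simp [a₀, b₀]
        rw [pullback.lift_fst_assoc]
        exact H.hu
      · simp [a₀, b₀, hsq.w]
        rw [pullback.lift_snd_assoc, Category.assoc])
  -- stage `l`: the comparison is an isomorphism
  let fl := pullback.snd fi (T.map φ)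
  let ql : U ⟶ pullback fi (T.map φ) := pullback.lift q (f ≫ c.π.app l) (by rw [Category.assoc, c.w, hsq.w])
  have hql : IsPullback ql f fl (c.π.app l) :=
    IsPullback.of_right (by rw [pullback.lift_fst, c.w]; exact hsq) (pullback.lift_snd _ _ _)
      (IsPullback.of_hasPullback fi (T.map φ))
  have eτ : pullback.fst fi (T.map φ) ≫ fi ≫ J i = fl ≫ J l := by rw [pullback.condition_assoc, hJ]
  have eql : ql ≫ fl ≫ J l = f ≫ jl := by rw [reassoc_of% hql.w, hjl]
  have sPl : IsPullback (bcm g (pullback.fst fi (T.map φ)) eτ) (pullback.snd g (fl ≫ J l) ≫ fl)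
      (a₀ ≫ pullback.snd g (J i)) (T.map φ) := by
    have h1 := (isPullback_bcm g (pullback.fst fi (T.map φ)) eτ).paste_vert (IsPullback.of_hasPullback fi (T.map φ))
    rwa [show a₀ ≫ pullback.snd g (J i) = pullback.snd g (fi ≫ J i) ≫ fi from bcm_snd _ _ _]
  have sEl : IsPullback (bcm (E.hom ≫ g) (T.map φ) (hJ φ)) (pullback.snd (E.hom ≫ g) (J l))
      (b₀ ≫ pullback.snd g (J i)) (T.map φ) := by
    rw [pullback.lift_snd]; exact isPullback_bcm _ _ _
  let θl := sPl.isoPullback.hom ≫ e.hom ≫ sEl.isoPullback.inv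
  have hθs : θl ≫ pullback.snd (E.hom ≫ g) (J l) = pullback.snd g (fl ≫ J l) ≫ fl := by
    simp only [θl, Category.assoc, IsPullback.isoPullback_inv_snd, he₁, IsPullback.isoPullback_hom_snd]
  let ul : pullback g (fl ≫ J l) ⟶ E.left := θl ≫ pullback.fst (E.hom ≫ g) (J l)
  have hwl : ul ≫ E.hom ≫ g = (pullback.snd g (fl ≫ J l) ≫ fl) ≫ J l := by
    change (θl ≫ pullback.fst (E.hom ≫ g) (J l)) ≫ E.hom ≫ g = _
    rw [Category.assoc, pullback.condition, ← Category.assoc, hθs]
  have hisol : IsIso (th fl ul hwl) := by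
    rw [show th fl ul hwl = θl from pullback.hom_ext (pullback.lift_fst _ _ _) ((pullback.lift_snd _ _ _).trans hθs.symm)]
    infer_instance
  have hul : bcm g ql eql ≫ ul = u := by
    have h1 : bcm g ql eql ≫ sPl.isoPullback.hom = pullback.lift (bcm g q eU)
        ((pullback.snd g (f ≫ jl) ≫ f) ≫ c.π.app l) (by rw [Category.assoc, c.w]; exact sX.w) := by
      refine pullback.hom_ext ?_ ?_
      · rw [Category.assoc, IsPullback.isoPullback_hom_fst, pullback.lift_fst,
          bcm_comp g ql eql (pullback.fst fi (T.map φ)) eτ q (pullback.lift_fst _ _ _)]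
      · rw [Category.assoc, IsPullback.isoPullback_hom_snd, pullback.lift_snd, bcm_snd_assoc, Category.assoc, hql.w]
    have h2 : sEl.isoPullback.inv ≫ pullback.fst (E.hom ≫ g) (J l) =
        pullback.fst _ (T.map φ) ≫ pullback.fst (E.hom ≫ g) (J i) := by
      rw [Iso.inv_comp_eq, IsPullback.isoPullback_hom_fst_assoc, bcm_fst]
    simp only [ul, θl, Category.assoc]
    rw [h2, reassoc_of% h1, reassoc_of% he₂, asIso_hom, bcm_fst, pullback.lift_fst]
  haveI : Etale fl := inferInstance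
  have hψ : ul ≫ E.hom = pullback.fst g (fl ≫ J l) := by
    have := congrArg (sPl.isoPullback.hom ≫ · ≫ pullback.fst g (J i)) heP
    have h2 : sEl.isoPullback.inv ≫ pullback.fst (E.hom ≫ g) (J l) =
        pullback.fst _ (T.map φ) ≫ pullback.fst (E.hom ≫ g) (J i) := by
      rw [Iso.inv_comp_eq, IsPullback.isoPullback_hom_fst_assoc, bcm_fst]
    simp only [Category.assoc] at this
    have eb : b₀ ≫ pullback.fst g (J i) = pullback.fst (E.hom ≫ g) (J i) ≫ E.hom := pullback.lift_fst _ _ _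
    have ea : a₀ ≫ pullback.fst g (J i) = pullback.fst g (fi ≫ J i) := bcm_fst _ _ _
    rw [eb, ea, IsPullback.isoPullback_hom_fst_assoc, bcm_fst] at this
    change (θl ≫ _) ≫ _ = _
    simp only [θl, Category.assoc]
    rw [reassoc_of% h2]
    exact this
  obtain ⟨m, ψ⟩ : Σ' m, m ⟶ l := ⟨l, 𝟙 l⟩
  let fm := pullback.snd fl (T.map ψ)
  let qm : U ⟶ pullback fl (T.map ψ) := pullback.lift ql (f ≫ c.π.app m) (by rw [Category.assoc, c.w, hql.w])
  have hqm : IsPullback qm f fm (c.π.app m) :=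
    IsPullback.of_right (by rw [pullback.lift_fst, c.w]; exact hql) (pullback.lift_snd _ _ _)
      (IsPullback.of_hasPullback fl (T.map ψ))
  have eτm : pullback.fst fl (T.map ψ) ≫ fl ≫ J l = fm ≫ J m := by rw [pullback.condition_assoc, hJ]
  have eqm : qm ≫ fm ≫ J m = f ≫ jl := by rw [reassoc_of% hqm.w, hjl]
  have sPm := (isPullback_bcm g (pullback.fst fl (T.map ψ)) eτm).paste_vert (IsPullback.of_hasPullback fl (T.map ψ))
  let um : pullback g (fm ≫ J m) ⟶ E.left := bcm g (pullback.fst fl (T.map ψ)) eτm ≫ ul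
  have hum : um ≫ E.hom = pullback.fst g (fm ≫ J m) := by
    rw [Category.assoc, hψ, bcm_fst]
  have hisom : IsIso (th fm um (hw_of_hu hum)) :=
    isIso_th_bc (IsPullback.of_hasPullback fl (T.map ψ)) (hJ ψ) eτm ul hwl hisol um rfl _
  have hum' : bcm g qm eqm ≫ um = u := by
    simp only [um]
    rw [← Category.assoc, bcm_comp g qm eqm (pullback.fst fl (T.map ψ)) eτm ql (pullback.lift_fst _ _ _), hul]
  -- stage `n`: it is compatible with the gluing
  haveI : Etale fm := inferInstance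
  let s := pullback.snd g (fm ≫ J m)
  let hR := pullback.fst s s ≫ s ≫ fm
  have hcR : (pullback.fst s s ≫ pullback.fst g (fm ≫ J m)) ≫ g = (pullback.snd s s ≫ pullback.fst g (fm ≫ J m)) ≫ g := by
    rw [Category.assoc, Category.assoc, pullback.condition (f := g), pullback.condition_assoc]
  let aR := D.φ (i := PUnit.unit) (j := PUnit.unit) (pullback.fst s s ≫ pullback.fst g (fm ≫ J m)) (pullback.snd s s ≫ pullback.fst g (fm ≫ J m)) hcR
    ⟨pullback.fst s s ≫ um, by rw [Category.assoc, hum]⟩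
  have sPi := (isPullback_bcm g qm eqm).paste_vert hqm
  obtain ⟨n, χ, hχ⟩ := eq_stage_over T c hc hR (IsPullback.of_hasPullback hR (c.π.app m)) E.hom
    (pullback.snd s s ≫ pullback.fst g (fm ≫ J m)) aR.1 (pullback.snd s s ≫ um)
    aR.2 (by rw [Category.assoc, hum])
    (by
      let r := pullback.fst hR (c.π.app m)
      let p := pullback.snd hR (c.π.app m)
      have hp : r ≫ hR = p ≫ c.π.app m := pullback.condition
      let ai := sPi.lift (r ≫ pullback.fst s s) p (by simpa [hR, s] using hp)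
      let bi := sPi.lift (r ≫ pullback.snd s s) p (by
        simp only [Category.assoc]
        rw [← pullback.condition_assoc]
        simpa [hR, s] using hp)
      have ea : ai ≫ bcm g qm eqm = r ≫ pullback.fst s s := sPi.lift_fst _ _ _
      have eb : bi ≫ bcm g qm eqm = r ≫ pullback.snd s s := sPi.lift_fst _ _ _
      have hab : ai ≫ pullback.snd g (f ≫ jl) = bi ≫ pullback.snd g (f ≫ jl) := by
        refine hqm.hom_ext ?_ ?_
        · rw [Category.assoc, Category.assoc, ← bcm_snd g qm eqm, ← Category.assoc, ea, ← Category.assoc bi, eb,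
            Category.assoc, Category.assoc]
          exact congrArg (r ≫ ·) pullback.condition
        · rw [Category.assoc, Category.assoc, IsPullback.lift_snd, IsPullback.lift_snd]
      have ea1 : ai ≫ pullback.fst g (f ≫ jl) = r ≫ pullback.fst s s ≫ pullback.fst g (fm ≫ J m) := by
        rw [← bcm_fst g qm eqm, ← Category.assoc, ea, Category.assoc]
      have eb1 : bi ≫ pullback.fst g (f ≫ jl) = r ≫ pullback.snd s s ≫ pullback.fst g (fm ≫ J m) := by
        rw [← bcm_fst g qm eqm, ← Category.assoc, eb, Category.assoc]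
      have key := H.comm ai bi hab
      change r ≫ aR.1 = r ≫ pullback.snd s s ≫ um
      rw [D.φ_natural r (i := PUnit.unit) (j := PUnit.unit) _ _ hcR _ _ ea1.symm eb1.symm
        (by simp only [Category.assoc, pullback.condition, reassoc_of% hab])
        ⟨pullback.fst s s ≫ um, by rw [Category.assoc, hum]⟩
        ⟨ai ≫ u, by rw [Category.assoc, H.hu]⟩ (by
          change ai ≫ u = r ≫ pullback.fst s s ≫ um
          rw [← hum', ← Category.assoc, ea, Category.assoc])] at key
      rw [key, ← hum', ← Category.assoc, eb, Category.assoc])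
  let fn := pullback.snd fm (T.map χ)
  have eτn : pullback.fst fm (T.map χ) ≫ fm ≫ J m = fn ≫ J n := by rw [pullback.condition_assoc, hJ]
  let τn := bcm g (pullback.fst fm (T.map χ)) eτn
  let un : pullback g (fn ≫ J n) ⟶ E.left := τn ≫ um
  have hun : un ≫ E.hom = pullback.fst g (fn ≫ J n) := by rw [Category.assoc, hum, bcm_fst]
  refine ⟨n, _, fn, un, inferInstance, hun,
    isIso_th_bc (IsPullback.of_hasPullback fm (T.map χ)) (hJ χ) eτn um (hw_of_hu hum) hisom un rfl _, ?_⟩
  intro Z a b hab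
  let r : Z ⟶ pullback s s := pullback.lift (a ≫ τn) (b ≫ τn) (by
    simp only [τn, s, Category.assoc, bcm_snd, reassoc_of% hab])
  let r' : Z ⟶ pullback hR (T.map χ) := pullback.lift r (a ≫ pullback.snd g (fn ≫ J n) ≫ fn) (by
    simp only [hR, r, s, τn, fn, pullback.lift_fst_assoc, Category.assoc, bcm_snd_assoc, pullback.condition])
  have key : r ≫ aR.1 = r ≫ pullback.snd s s ≫ um := by
    have := congrArg (r' ≫ ·) hχ
    simpa only [r', ← Category.assoc, pullback.lift_fst] using this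
  have ea : r ≫ pullback.fst s s ≫ pullback.fst g (fm ≫ J m) = a ≫ pullback.fst g (fn ≫ J n) := by
    simp [r, τn]
  have eb : r ≫ pullback.snd s s ≫ pullback.fst g (fm ≫ J m) = b ≫ pullback.fst g (fn ≫ J n) := by
    simp [r, τn]
  refine (D.φ_natural r (i := PUnit.unit) (j := PUnit.unit) _ _ hcR _ _ ea eb _ _ _ ?_).trans (key.trans ?_)
  · simp [r, un]
  · simp [r, un]

end spread

end Groth.Agent.EtRep9
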