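import Groth.Agent.EtRep9.StableStage
import Groth.Agent.EtRep9.NonQC

/-! Quasi-compact stable opens exist along finitely presented subtrusive morphisms. -/

set_option autoImplicit false
set_option backward.isDefEq.respectTransparency false
set_option backward.isDefEq.respectTransparency.types false
set_option linter.style.haveILetI false
universe u

open CategoryTheory CategoryTheory.Limits AlgebraicGeometry Desc IsLocalRing Topology Groth.Agent.MorLib
open Groth.Agent.DescLib.IndQA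

noncomputable section

namespace Groth.Agent.EtRep9.StableNbhd

open Groth.Agent.DescLib

/-- A point of the base change lies over both projections of a point. -/
theorem exists_bcm_eq {E S T T' : Scheme.{u}} (h : E ⟶ S) {q : T ⟶ S} {q' : T' ⟶ S} (k : T' ⟶ T) (e : k ≫ q = q')
    (x : ↥(pullback h q)) (y : T') (hy : k y = pullback.snd h q x) :
    ∃ x' : ↥(pullback h q'), bcm h k e x' = x := by
  obtain ⟨x', h1, -⟩ := Scheme.exists_preimage_of_isPullback (isPullback_bcm h k e) x y hy.symm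
  exact ⟨x', h1⟩

variable {X S : Scheme.{u}} {p : X ⟶ S} {D : SchDD p} {W : D.obj.left.Opens}

/-- Stable opens glue along open immersions covering the base. -/
theorem good_of_cover {T : Scheme.{u}} {q : T ⟶ S} {ι : Type u} [Finite ι] {U : ι → Scheme.{u}}
    (k : ∀ i, U i ⟶ T) [∀ i, IsOpenImmersion (k i)] (hk : ∀ x : T, ∃ i, x ∈ Set.range (k i))
    (h : ∀ i, Good D W (k i ≫ q)) : Good D W q := by
  choose O hO hW hst using h
  let m : ∀ i, pullback (sv p D) (k i ≫ q) ⟶ pullback (sv p D) q := fun i => bcm (sv p D) (k i) rfl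
  haveI : ∀ i, IsOpenImmersion (m i) := fun i =>
    MorphismProperty.of_isPullback (isPullback_bcm (sv p D) (k i) rfl).flip inferInstance
  refine ⟨⨆ i, m i ''ᵁ O i, ?_, fun x hx => ?_, ?_⟩
  · rw [TopologicalSpace.Opens.coe_iSup]
    exact isCompact_iUnion fun i => (hO i).image (m i).continuous
  · obtain ⟨i, y, hy⟩ := hk (pullback.snd (sv p D) q x)
    obtain ⟨x', rfl⟩ := exists_bcm_eq (sv p D) (k i) rfl x y hy
    refine TopologicalSpace.Opens.mem_iSup.2 ⟨i, x', hW i ?_, rfl⟩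
    show pullback.fst (sv p D) (k i ≫ q) x' ∈ W
    rw [← bcm_fst (sv p D) (k i) rfl]
    exact hx
  · have key : ∀ (a b : ∀ {T' : Scheme.{u}} (q' : T' ⟶ S),
        pullback (pullback.fst (sv p D) p ≫ sv p D) q' ⟶ pullback (sv p D) q')
        (_ : ∀ i, bcm _ (k i) rfl ≫ a q = a (k i ≫ q) ≫ m i) (_ : ∀ i, bcm _ (k i) rfl ≫ b q = b (k i ≫ q) ≫ m i)
        (_ : ∀ {T' : Scheme.{u}} (q' : T' ⟶ S), a q' ≫ pullback.snd _ q' = pullback.snd _ q')
        (_ : ∀ i, a (k i ≫ q) ⁻¹ᵁ O i = b (k i ≫ q) ⁻¹ᵁ O i),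
        a q ⁻¹ᵁ (⨆ i, m i ''ᵁ O i) ≤ b q ⁻¹ᵁ (⨆ i, m i ''ᵁ O i) := by
      intro a b ha hb has hab r hr
      obtain ⟨i, e, he, hre⟩ := TopologicalSpace.Opens.mem_iSup.1 (show a q r ∈ ⨆ i, m i ''ᵁ O i from hr)
      replace hre : m i e = a q r := hre
      have hy : k i (pullback.snd (sv p D) (k i ≫ q) e) = pullback.snd _ q r := by
        rw [← Scheme.Hom.comp_apply, ← bcm_snd (sv p D) (k i) rfl, Scheme.Hom.comp_apply]
        show pullback.snd (sv p D) q (m i e) = _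
        rw [hre, ← Scheme.Hom.comp_apply, has]
      obtain ⟨r', rfl⟩ := exists_bcm_eq (pullback.fst (sv p D) p ≫ sv p D) (k i) rfl r _ hy
      have h1 : a (k i ≫ q) r' = e := (m i).isOpenEmbedding.injective (by
        rw [hre, ← Scheme.Hom.comp_apply, ← ha i]; rfl)
      have h2 : b (k i ≫ q) r' ∈ O i := (hab i).le (show a (k i ≫ q) r' ∈ O i by rw [h1]; exact he)
      refine TopologicalSpace.Opens.mem_iSup.2 ⟨i, _, h2, ?_⟩
      show m i (b (k i ≫ q) r') = b q (bcm _ (k i) rfl r')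
      rw [← Scheme.Hom.comp_apply, ← hb i]
      rfl
    have ea : ∀ i, bcm _ (k i) rfl ≫ aT D q = aT D (k i ≫ q) ≫ m i := fun i => by
      apply pullback.hom_ext <;> simp [aT, m]
    have eb : ∀ i, bcm _ (k i) rfl ≫ bT D q = bT D (k i ≫ q) ≫ m i := fun i => by
      apply pullback.hom_ext <;> simp [bT, m]
    refine le_antisymm ?_ ?_
    · exact key (fun q' => aT D q') (fun q' => bT D q') ea eb (fun q' => pullback.lift_snd _ _ _) hst
    · exact key (fun q' => bT D q') (fun q' => aT D q') eb ea (fun q' => pullback.lift_snd _ _ _)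
        fun i => (hst i).symm

/-- Stable opens descend along proper surjective morphisms of finite presentation. -/
theorem good_of_proper [QuasiSeparatedSpace X] [QuasiSeparated p] [IsSeparated D.obj.hom]
    {T P : Scheme.{u}} [CompactSpace T] [QuasiSeparatedSpace T] {q : T ⟶ S} [QuasiSeparated q] [QuasiCompact q]
    (f : P ⟶ T) [IsProper f] [Surjective f] [LocallyOfFinitePresentation f]
    (h : Good D W (f ≫ q)) : Good D W q := by
  obtain ⟨OP, hOP, hW, hst⟩ := h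
  let π : pullback (sv p D) (f ≫ q) ⟶ pullback (sv p D) q := bcm (sv p D) f rfl
  have sq := isPullback_bcm (sv p D) f (rfl : f ≫ q = f ≫ q)
  haveI : IsProper π := MorphismProperty.of_isPullback sq.flip ‹_›
  haveI : Surjective π := MorphismProperty.of_isPullback sq.flip ‹_›
  haveI : LocallyOfFinitePresentation π := MorphismProperty.of_isPullback sq.flip ‹_›
  let E := pullback (sv p D) q
  haveI : QuasiSeparatedSpace D.obj.left := quasiSeparatedSpace_of_quasiSeparated D.obj.hom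
  haveI : QuasiSeparatedSpace E := quasiSeparatedSpace_of_quasiSeparated (pullback.fst (sv p D) q)
  let O : E.Opens := ⟨(π '' (OP : Set ↥(pullback (sv p D) (f ≫ q)))ᶜ)ᶜ,
    (π.isClosedMap _ OP.isOpen.isClosed_compl).isOpen_compl⟩
  have hO : IsCompact (O : Set E) := by
    obtain ⟨O₁, hO₁, hle, -⟩ := MorLib.IQA.exists_compact_between (U := (⊤ : E.Opens)) (hOP.image π.continuous)
      (Set.subset_univ _)
    have hOle : O ≤ O₁ := fun x hx => by
      obtain ⟨z, rfl⟩ := π.surjective x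
      exact hle ⟨z, by_contra fun h => hx ⟨z, h, rfl⟩, rfl⟩
    haveI : CompactSpace (O₁ : Scheme.{u}) := isCompact_iff_compactSpace.mp hO₁
    haveI : QuasiSeparatedSpace (O₁ : Scheme.{u}) := O₁.ι.isOpenEmbedding.quasiSeparatedSpace
    let π' := π ∣_ O₁
    haveI : CompactSpace (π ⁻¹ᵁ O₁ : Scheme.{u}) := QuasiCompact.compactSpace_of_compactSpace π'
    haveI : QuasiSeparatedSpace (π ⁻¹ᵁ O₁ : Scheme.{u}) := quasiSeparatedSpace_of_quasiSeparated π'
    let P' : Set (π ⁻¹ᵁ O₁ : Scheme.{u}) := (π ⁻¹ᵁ O₁).ι ⁻¹' (OP : Set ↥(pullback (sv p D) (f ≫ q)))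
    have hP' : IsCompact P' := (π ⁻¹ᵁ O₁).ι.isOpenEmbedding.isInducing.isCompact_preimage' hOP (by
      rw [Scheme.Opens.range_ι]
      exact fun z hz => hle ⟨z, hz, rfl⟩)
    have hP'o : IsOpen P' := OP.isOpen.preimage (π ⁻¹ᵁ O₁).ι.continuous
    have h1 := (π'.isConstructible_image (hP'.isConstructible hP'o).compl).compl
    have h2 := (IsoNatLib.isCompact_of_isConstructible h1).image O₁.ι.continuous
    convert h2 using 1
    ext x
    constructor
    · intro hx
      refine ⟨⟨x, hOle hx⟩, ?_, rfl⟩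
      rintro ⟨r, hr, e⟩
      refine hx ⟨(π ⁻¹ᵁ O₁).ι r, fun h => hr h, ?_⟩
      rw [← Scheme.Hom.comp_apply, ← morphismRestrict_ι, Scheme.Hom.comp_apply, e]
      rfl
    · rintro ⟨y, hy, rfl⟩ ⟨r, hr, e⟩
      have hr' : π r ∈ O₁ := by rw [e]; exact y.2
      refine hy ⟨⟨r, hr'⟩, fun h => hr h, O₁.ι.isOpenEmbedding.injective ?_⟩
      rw [← Scheme.Hom.comp_apply, morphismRestrict_ι, Scheme.Hom.comp_apply]
      exact e
  refine ⟨O, hO, fun x hx => ?_, ?_⟩
  · rintro ⟨z, hz, rfl⟩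
    refine hz (hW ?_)
    show pullback.fst (sv p D) (f ≫ q) z ∈ W
    rw [← bcm_fst (sv p D) f rfl]
    exact hx
  · have key : ∀ (a b : ∀ {T' : Scheme.{u}} (q' : T' ⟶ S),
        pullback (pullback.fst (sv p D) p ≫ sv p D) q' ⟶ pullback (sv p D) q')
        (_ : bcm _ f rfl ≫ a q = a (f ≫ q) ≫ π) (_ : bcm _ f rfl ≫ b q = b (f ≫ q) ≫ π)
        (_ : ∀ {T' : Scheme.{u}} (q' : T' ⟶ S), a q' ≫ pullback.snd _ q' = pullback.snd _ q')
        (_ : IsPullback (bcm (pullback.fst (sv p D) p ≫ sv p D) f rfl) (a (f ≫ q)) (a q) π)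
        (_ : a (f ≫ q) ⁻¹ᵁ OP = b (f ≫ q) ⁻¹ᵁ OP),
        b q ⁻¹ᵁ O ≤ a q ⁻¹ᵁ O := by
      rintro a b ha hb has hsq hab r hr ⟨e, he, hre⟩
      obtain ⟨r', hr1, hr2⟩ := Scheme.exists_preimage_of_isPullback hsq r e hre.symm
      refine hr ⟨b (f ≫ q) r', fun hh => he ?_, ?_⟩
      · rw [← hr2]; exact hab.ge hh
      · rw [← Scheme.Hom.comp_apply, ← hb, Scheme.Hom.comp_apply, hr1]
    have ea : bcm _ f rfl ≫ aT D q = aT D (f ≫ q) ≫ π := by apply pullback.hom_ext <;> simp [aT, π]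
    have eb : bcm _ f rfl ≫ bT D q = bT D (f ≫ q) ≫ π := by apply pullback.hom_ext <;> simp [bT, π]
    have sa : ∀ (a : ∀ {T' : Scheme.{u}} (q' : T' ⟶ S),
        pullback (pullback.fst (sv p D) p ≫ sv p D) q' ⟶ pullback (sv p D) q')
        (_ : bcm _ f rfl ≫ a q = a (f ≫ q) ≫ π)
        (_ : ∀ {T' : Scheme.{u}} (q' : T' ⟶ S), a q' ≫ pullback.snd _ q' = pullback.snd _ q'),
        IsPullback (bcm (pullback.fst (sv p D) p ≫ sv p D) f rfl) (a (f ≫ q)) (a q) π := fun a ha has => by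
      refine IsPullback.of_bot ?_ ha sq
      rw [has, has]
      exact isPullback_bcm _ f rfl
    refine le_antisymm ?_ ?_
    · exact key (fun q' => bT D q') (fun q' => aT D q') eb ea (fun q' => pullback.lift_snd _ _ _)
        (sa (fun q' => bT D q') eb fun q' => pullback.lift_snd _ _ _) hst.symm
    · exact key (fun q' => aT D q') (fun q' => bT D q') ea eb (fun q' => pullback.lift_snd _ _ _)
        (sa (fun q' => aT D q') ea fun q' => pullback.lift_snd _ _ _) hst

section model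

variable {R : CommRingCat.{u}} (q₀ : Spec R ⟶ S) [QuasiSeparatedSpace S] [QuasiCompact p]
  [IsSeparated D.obj.hom] [Etale D.obj.hom]

/-- Each valuation ring sees finitely many elements over which the property holds. -/
theorem exists_good_finset (hs : Subtr.UnivSSubtrusive p) (hW : IsCompact (W : Set D.obj.left))
    (K : Type u) [Field K] [Algebra R K] (V : ValuationSubring K)
    (hV : Set.range (algebraMap R K) ⊆ V) : ∃ s : Finset K,
      Good D W (Spec.map (CommRingCat.ofHom (algebraMap R (Algebra.adjoin (R : Type u) (s : Set K)))) ≫ q₀) ∧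
      (s : Set K) ⊆ V := by
  classical
  letI : Algebra R V := ((algebraMap R K).codRestrict V.toSubring fun x => hV ⟨x, rfl⟩).toAlgebra
  have hg := good_valuationRing hs hW (CommRingCat.of V) (Spec.map (CommRingCat.ofHom (algebraMap R V)) ≫ q₀)
  let T := ValApprox.diagram R V
  haveI : ∀ i : (Finset V)ᵒᵖ, IsAffine (T.obj i) := fun i =>
    isAffine_Spec (CommRingCat.of (Algebra.adjoin (R : Type u) ((i.unop : Finset V) : Set V)))
  haveI : ∀ (i j : (Finset V)ᵒᵖ) (f : i ⟶ j), IsAffineHom (T.map f) := fun _ _ f => isAffineHom_of_isAffine _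
  obtain ⟨n, hn⟩ := good_stage hW T (ValApprox.cone R V) (ValApprox.isLimit R V)
    (fun i => Spec.map (CommRingCat.ofHom (algebraMap R (Algebra.adjoin (R : Type u) ((i.unop : Finset V) : Set V)))) ≫ q₀)
    (fun {l i} φ => by
      show Spec.map _ ≫ Spec.map _ ≫ q₀ = _
      rw [← Spec.map_comp_assoc]; rfl)
    (jl := Spec.map (CommRingCat.ofHom (algebraMap R V)) ≫ q₀)
    (fun i => by
      show Spec.map _ ≫ Spec.map _ ≫ q₀ = _
      rw [← Spec.map_comp_assoc]; rfl) hg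
  let ι : V →ₐ[(R : Type u)] K := { V.subtype with commutes' := fun _ => rfl }
  let s : Finset K := (n.unop : Finset V).image ι
  let ρ : Algebra.adjoin (R : Type u) ((n.unop : Finset V) : Set V) →ₐ[(R : Type u)]
      Algebra.adjoin (R : Type u) (s : Set K) :=
    (ι.comp (Subalgebra.val _)).codRestrict _ fun x => by
      have h1 : ι (x : V) ∈ (Algebra.adjoin (R : Type u) ((n.unop : Finset V) : Set V)).map ι := ⟨_, x.2, rfl⟩
      rw [AlgHom.map_adjoin] at h1
      simpa [s] using h1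
  refine ⟨s, good_bc (Spec.map (CommRingCat.ofHom ρ.toRingHom)) ?_ hn, ?_⟩
  · rw [← Spec.map_comp_assoc]
    rfl
  · rintro _ hx
    obtain ⟨v, -, rfl⟩ := Finset.mem_image.1 hx
    exact v.2

/-- Through each prime passes a proper finitely presented scheme over which the property holds locally. -/
theorem exists_good_model (hs : Subtr.UnivSSubtrusive p) (hW : IsCompact (W : Set D.obj.left))
    (x : PrimeSpectrum R) :
    ∃ (P : Scheme.{u}) (f : P ⟶ Spec R), (IsProper f ∧ LocallyOfFinitePresentation f) ∧ x ∈ Set.range f ∧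
      ∀ z : P, ∃ O : P.Opens, z ∈ O ∧ IsCompact (O : Set P) ∧ Good D W (O.ι ≫ f ≫ q₀) := by
  classical
  let K := FractionRing (R ⧸ x.asIdeal)
  letI : Algebra R K := ((algebraMap (R ⧸ x.asIdeal) K).comp (Ideal.Quotient.mk x.asIdeal)).toAlgebra
  obtain ⟨𝓕, h𝓕, hcov⟩ := exists_finite_cover R K
    {s | Good D W (Spec.map (CommRingCat.ofHom (algebraMap R (Algebra.adjoin (R : Type u) (s : Set K)))) ≫ q₀)}
    fun V hV => by
      obtain ⟨s, h1, h2⟩ := exists_good_finset q₀ hs hW K V hV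
      exact ⟨s, h1, h2⟩
  obtain ⟨P, fP, ⟨hf, Q, fQ, i, hfQ, hfQ', hi, hif⟩, ⟨z₀, hz₀⟩, hloc⟩ := exists_val_model R K 𝓕 hcov
  have hx : fP z₀ = x := hz₀.trans (PrimeSpectrum.ext (by
    show (maximalIdeal K).comap (algebraMap R K) = x.asIdeal
    rw [maximalIdeal_eq_bot, ← RingHom.ker_eq_comap_bot]
    show RingHom.ker ((algebraMap (R ⧸ x.asIdeal) K).comp (Ideal.Quotient.mk x.asIdeal)) = _
    rw [RingHom.ker_comp_of_injective _ (IsFractionRing.injective _ _), Ideal.mk_ker]))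
  haveI := hf; haveI := hfQ; haveI := hfQ'; haveI := hi
  haveI : CompactSpace Q := QuasiCompact.compactSpace_of_compactSpace fQ
  haveI : QuasiSeparatedSpace Q := quasiSeparatedSpace_of_quasiSeparated fQ
  obtain ⟨I, _, _, _, F, c, hc, hobj, ⟨e⟩⟩ := Groth.Agent.S7379.result i
  haveI : IsConnected Iᵒᵖ := IsCofiltered.isConnected _
  let T := F ⋙ Over.forget Q
  let cT : Cone T := (Over.forget Q).mapCone c
  have hcT : IsLimit cT := isLimitOfPreserves (Over.forget Q) hc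
  haveI : ∀ k, IsClosedImmersion (F.obj k).hom := fun k => (hobj k).1
  haveI : ∀ (k l : Iᵒᵖ) (φ : k ⟶ l), IsAffineHom (T.map φ) := fun k l φ => by
    haveI : IsClosedImmersion ((F.map φ).left ≫ (F.obj l).hom) := by rw [Over.w]; infer_instance
    haveI := IsClosedImmersion.of_comp (F.map φ).left (F.obj l).hom
    exact inferInstanceAs (IsAffineHom (F.map φ).left)
  haveI : ∀ {k l : Iᵒᵖ} (φ : k ⟶ l), IsAffineHom (T.map φ) := fun {k l} φ => inferInstance
  haveI : ∀ k, CompactSpace (T.obj k) := fun k => QuasiCompact.compactSpace_of_compactSpace (F.obj k).hom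
  let J : ∀ k, T.obj k ⟶ Spec R := fun k => (F.obj k).hom ≫ fQ
  have hJ : ∀ {l k : Iᵒᵖ} (φ : l ⟶ k), T.map φ ≫ J k = J l := fun {l k} φ => Over.w_assoc (F.map φ) fQ
  have hjl : ∀ k, cT.π.app k ≫ J k = c.pt.hom ≫ fQ := fun k => Over.w_assoc (c.π.app k) fQ
  have he : e.inv.left ≫ c.pt.hom ≫ fQ = fP := by rw [Over.w_assoc e.inv]; exact hif
  have he' : e.hom.left ≫ fP = c.pt.hom ≫ fQ := by rw [← hif]; exact Over.w_assoc e.hom fQ
  have hnb : ∀ z : cT.pt, ∃ (k : Iᵒᵖ) (V : (T.obj k).Opens), cT.π.app k z ∈ V ∧ IsCompact (V : Set (T.obj k)) ∧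
      Good D W (V.ι ≫ J k ≫ q₀) := by
    intro z
    obtain ⟨s, O, hs', hO, kO, hkO⟩ := hloc (e.hom.left z)
    obtain ⟨_, ⟨_, ⟨k, V, hV, rfl⟩, rfl⟩, hzV, hVO⟩ :=
      (isBasis_preimage_isAffineOpen T cT hcT).exists_subset_of_mem_open (show z ∈ e.hom.left ⁻¹ᵁ O from hO)
        (e.hom.left ⁻¹ᵁ O).2
    haveI : IsAffine (V : Scheme.{u}) := hV
    have hX : IsPullback (cT.π.app k ∣_ V) (cT.π.app k ⁻¹ᵁ V).ι V.ι (cT.π.app k) :=
      isPullback_morphismRestrict (cT.π.app k) V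
    haveI : IsAffineHom (cT.π.app k) := isAffineHom_π_app T cT hcT k
    haveI : IsAffine (cT.π.app k ⁻¹ᵁ V : Scheme.{u}) := hV.preimage (cT.π.app k)
    let m : (cT.π.app k ⁻¹ᵁ V : Scheme.{u}) ⟶ (O : Scheme.{u}) :=
      cT.pt.homOfLE (SetLike.coe_subset_coe.1 hVO) ≫ (e.hom.left ∣_ O)
    have hlim : Good D W ((cT.π.app k ⁻¹ᵁ V).ι ≫ (c.pt.hom ≫ fQ) ≫ q₀) :=
      good_bc (m ≫ kO) (by
        simp only [m, Category.assoc]
        rw [reassoc_of% hkO, morphismRestrict_ι_assoc, Scheme.homOfLE_ι_assoc, reassoc_of% he']) (h𝓕 s hs')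
    let T' := BC.diag T V.ι
    haveI : ∀ (a b : Over k) (f : a ⟶ b), IsAffineHom (T'.map f) := fun _ _ f => BC.isAffineHom_map T V.ι f
    haveI : ∀ a, CompactSpace (T'.obj a) := fun a => BC.compactSpace_obj T V.ι a
    obtain ⟨a, ha⟩ := good_stage hW T' (BC.cone T V.ι hX) (BC.isLimitCone T V.ι hX hcT)
      (fun a => pullback.snd V.ι (T.map a.hom) ≫ J a.left ≫ q₀)
      (fun {l a} φ => by rw [reassoc_of% (BC.map_snd T V.ι φ), reassoc_of% hJ])
      (jl := (cT.π.app k ⁻¹ᵁ V).ι ≫ (c.pt.hom ≫ fQ) ≫ q₀)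
      (fun a => by rw [show (BC.cone T V.ι hX).π.app a = BC.proj T V.ι hX a from rfl, BC.proj_snd_assoc,
        reassoc_of% hjl, Category.assoc]) hlim
    let w : pullback V.ι (T.map a.hom) ⟶ T.obj a.left := pullback.snd _ _
    refine ⟨a.left, w.opensRange, ⟨BC.proj T V.ι hX a ⟨z, hzV⟩, ?_⟩, ?_,
      good_bc w.isoOpensRange.inv (by rw [Iso.inv_comp_eq, Scheme.Hom.isoOpensRange_hom_ι_assoc]) ha⟩
    · show w _ = _
      rw [← Scheme.Hom.comp_apply, BC.proj_snd]
      rfl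
    · haveI : CompactSpace ↥(pullback V.ι (T.map a.hom)) := BC.compactSpace_obj T V.ι a
      exact isCompact_range w.continuous
  choose k V hzV hVc hVU using hnb
  haveI : CompactSpace (cT.pt : Scheme.{u}) := by
    have h : CompactSpace P := QuasiCompact.compactSpace_of_compactSpace fP
    exact @Homeomorph.compactSpace _ _ _ _ h e.inv.left.homeomorph
  obtain ⟨t, ht⟩ := isCompact_univ.elim_finite_subcover
    (fun z : cT.pt => ((cT.π.app (k z) ⁻¹ᵁ V z : cT.pt.Opens) : Set cT.pt))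
    (fun z => (cT.π.app (k z) ⁻¹ᵁ V z).2) fun z _ => Set.mem_iUnion.2 ⟨z, hzV z⟩
  haveI : Nonempty Iᵒᵖ := IsCofiltered.nonempty
  obtain ⟨m, hm⟩ := IsCofiltered.inf_objs_exists (t.image k)
  let φ : ∀ z ∈ t, m ⟶ k z := fun z hz => (hm (Finset.mem_image_of_mem k hz)).some
  let W' : (T.obj m).Opens := ⨆ z : t, T.map (φ z.1 z.2) ⁻¹ᵁ V z.1
  have hW' : cT.π.app m ⁻¹ᵁ W' = ⊤ := top_le_iff.1 fun y _ => by
    obtain ⟨z, hz, hy⟩ := Set.mem_iUnion₂.1 (ht (Set.mem_univ y))
    show cT.π.app m y ∈ W'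
    refine TopologicalSpace.Opens.mem_iSup.2 ⟨⟨z, hz⟩, ?_⟩
    show T.map (φ z hz) (cT.π.app m y) ∈ V z
    rw [← Scheme.Hom.comp_apply, cT.w]
    exact hy
  obtain ⟨n, ψ, hn⟩ := exists_map_eq_top T cT hcT W' hW'
  haveI : LocallyOfFinitePresentation (F.obj n).hom := (hobj n).2
  refine ⟨T.obj n, J n, ⟨inferInstanceAs (IsProper ((F.obj n).hom ≫ fQ)),
    inferInstanceAs (LocallyOfFinitePresentation ((F.obj n).hom ≫ fQ))⟩,
    ⟨cT.π.app n (e.inv.left z₀), ?_⟩, fun y => ?_⟩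
  · have h1 : J n (cT.π.app n (e.inv.left z₀)) = fP z₀ := by
      rw [← he, ← hjl n]
      rfl
    exact h1.trans hx
  · obtain ⟨z, hz⟩ := TopologicalSpace.Opens.mem_iSup.1 (hn.ge (show y ∈ (⊤ : (T.obj n).Opens) from trivial) :
      T.map ψ y ∈ W')
    let χ := ψ ≫ φ z.1 z.2
    refine ⟨T.map χ ⁻¹ᵁ V z.1, ?_, (T.map χ).isCompact_preimage (hVc z.1),
      good_bc (T.map χ ∣_ V z.1) ?_ (hVU z.1)⟩
    · show T.map χ y ∈ V z.1
      rw [T.map_comp, Scheme.Hom.comp_apply]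
      exact hz
    · rw [morphismRestrict_ι_assoc, reassoc_of% hJ]

theorem good_affine [QuasiSeparatedSpace X] [QuasiSeparated p] (hs : Subtr.UnivSSubtrusive p)
    (hW : IsCompact (W : Set D.obj.left)) : Good D W q₀ := by
  classical
  choose Y φ hφ hmem hloc using fun x : PrimeSpectrum R => exists_good_model q₀ hs hW x
  haveI := fun x => (hφ x).1
  haveI := fun x => (hφ x).2
  have hopen : ∀ x, IsOpen ((WithTopology.ofTopology (t := constructibleTopology (Spec R))) ⁻¹'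
      (Set.range (φ x)) : Set (WithConstructibleTopology (Spec R))) := fun x => by
    rw [WithConstructibleTopology.isOpen_iff]
    have h1 : IsConstructible (Set.range (φ x)) := by
      rw [← Set.image_univ]
      exact (φ x).isConstructible_image IsConstructible.univ
    have h2 := IsCompact.isOpen_constructibleTopology_of_isClosed
      (Groth.Agent.IsoNatLib.isCompact_of_isConstructible h1.compl) (φ x).isClosedMap.isClosed_range
    convert h2 using 1
    ext; simp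
  obtain ⟨t, ht⟩ := isCompact_univ.elim_finite_subcover _ hopen
    fun a _ => Set.mem_iUnion.2 ⟨WithTopology.ofTopology a, hmem (WithTopology.ofTopology a)⟩
  let P := ∐ fun x : t => Y x.1
  let f : P ⟶ Spec R := Limits.Sigma.desc fun x : t => φ x.1
  haveI : IsProper f := isProper_sigmaDesc _
  haveI : LocallyOfFinitePresentation f :=
    IsZariskiLocalAtSource.sigmaDesc (P := @LocallyOfFinitePresentation) fun x => (hφ x.1).2
  haveI : Surjective f := ⟨fun a => by
    obtain ⟨x, hx, w, hw⟩ := Set.mem_iUnion₂.1 (ht (Set.mem_univ (WithTopology.toTopology _ a)))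
    exact ⟨Limits.Sigma.ι (fun x : t => Y x.1) ⟨x, hx⟩ w, by
      rw [← Scheme.Hom.comp_apply, Limits.Sigma.ι_desc]; exact hw⟩⟩
  haveI : ∀ x, CompactSpace (Y x) := fun x => QuasiCompact.compactSpace_of_compactSpace (φ x)
  choose O hO hOc hOg using hloc
  choose t' ht' using fun x => isCompact_univ.elim_finite_subcover (fun z : Y x => (O x z : Set (Y x)))
    (fun z => (O x z).2) fun z _ => Set.mem_iUnion.2 ⟨z, hO x z⟩
  let ι := Σ x : t, {z : Y x.1 // z ∈ t' x.1}
  let k : ∀ i : ι, (O i.1.1 i.2.1 : Scheme.{u}) ⟶ P := fun i =>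
    (O i.1.1 i.2.1).ι ≫ Limits.Sigma.ι (fun x : t => Y x.1) i.1
  have hcov : ∀ z : P, ∃ i, z ∈ Set.range (k i) := fun z => by
    obtain ⟨x, w, rfl⟩ := ModPairLib.sigma_surj (fun x : t => Y x.1) z
    obtain ⟨w', hw', hw⟩ := Set.mem_iUnion₂.1 (ht' x.1 (Set.mem_univ w))
    exact ⟨⟨x, w', hw'⟩, ⟨w, hw⟩, Scheme.Hom.comp_apply _ _ _⟩
  have hPg : Good D W (f ≫ q₀) := good_of_cover k hcov fun i => by
    have e : k i ≫ f ≫ q₀ = (O i.1.1 i.2.1).ι ≫ φ i.1.1 ≫ q₀ := by
      simp only [k, f, Category.assoc, Limits.Sigma.ι_desc_assoc]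
    rw [e]
    exact hOg _ _
  exact good_of_proper f hPg

end model

/-- Finitely presented universally subtrusive coverings. -/
theorem effective_sep_subtrusive [QuasiSeparatedSpace S] [QuasiSeparatedSpace X] [QuasiCompact p] [QuasiSeparated p]
    (hs : Subtr.UnivSSubtrusive p) [IsSeparated D.obj.hom] [Etale D.obj.hom] :
    ∃ U : Over S, IsSeparated U.hom ∧ Etale U.hom ∧ Nonempty ((toDD p).obj U ≅ D) := by
  refine Stable.effective_of_stable_cover (univSubmersive_of_univSSubtrusive p hs) D fun v => ?_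
  obtain ⟨A, hA, hvA⟩ : ∃ A : S.Opens, IsAffineOpen A ∧ sv p D v ∈ A := by
    obtain ⟨_, ⟨A, hA, rfl⟩, hv, -⟩ :=
      S.isBasis_affineOpens.exists_subset_of_mem_open (Set.mem_univ (sv p D v)) isOpen_univ
    exact ⟨A, hA, hv⟩
  obtain ⟨W, hW, hvW⟩ : ∃ W : D.obj.left.Opens, IsAffineOpen W ∧ v ∈ W := by
    obtain ⟨_, ⟨W, hW, rfl⟩, hv, -⟩ :=
      D.obj.left.isBasis_affineOpens.exists_subset_of_mem_open (Set.mem_univ v) isOpen_univ
    exact ⟨W, hW, hv⟩
  let q₀ : Spec Γ(S, A) ⟶ S := hA.isoSpec.inv ≫ A.ι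
  obtain ⟨O, hO, hWO, hst⟩ := good_affine (D := D) (W := W) q₀ hs hW.isCompact
  let m := pullback.fst (sv p D) q₀
  haveI : IsOpenImmersion m := inferInstanceAs (IsOpenImmersion (pullback.fst _ _))
  let O' : D.obj.left.Opens := m ''ᵁ O
  have hrange : ∀ y : D.obj.left, sv p D y ∈ A → ∃ e, m e = y := fun y hy => by
    obtain ⟨e, h1, -⟩ := Scheme.Pullback.exists_preimage_pullback (f := sv p D) (g := q₀) y
      (hA.isoSpec.hom ⟨_, hy⟩) (by
        rw [← Scheme.Hom.comp_apply hA.isoSpec.hom q₀, Iso.hom_inv_id_assoc]; rfl)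
    exact ⟨e, h1⟩
  have hmA : ∀ e, sv p D (m e) ∈ A := fun e => by
    rw [← Scheme.Hom.comp_apply, pullback.condition, Scheme.Hom.comp_apply]
    show (hA.isoSpec.inv ≫ A.ι) _ ∈ A
    rw [Scheme.Hom.comp_apply]
    exact Subtype.property _
  have hvO : v ∈ O' := by
    obtain ⟨e, he⟩ := hrange v hvA
    exact ⟨e, hWO (show m e ∈ W by rw [he]; exact hvW), he⟩
  let d₀ := pullback.fst (sv p D) p
  have key : ∀ (a b : pullback (sv p D) p ⟶ D.obj.left)
      (aT' bT' : pullback (d₀ ≫ sv p D) q₀ ⟶ pullback (sv p D) q₀),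
      aT' ≫ m = pullback.fst _ q₀ ≫ a → bT' ≫ m = pullback.fst _ q₀ ≫ b →
      a ≫ sv p D = d₀ ≫ sv p D → aT' ⁻¹ᵁ O = bT' ⁻¹ᵁ O → a ⁻¹ᵁ O' ≤ b ⁻¹ᵁ O' := by
    rintro a b aT' bT' ha hb hav hab r ⟨e, he, hre⟩
    replace hre : m e = a r := hre
    have hr : (d₀ ≫ sv p D) r ∈ A := by
      rw [← hav, Scheme.Hom.comp_apply, ← hre]
      exact hmA e
    obtain ⟨r', hr', -⟩ := Scheme.Pullback.exists_preimage_pullback (f := d₀ ≫ sv p D) (g := q₀) r
      (hA.isoSpec.hom ⟨_, hr⟩) (by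
        rw [← Scheme.Hom.comp_apply hA.isoSpec.hom q₀, Iso.hom_inv_id_assoc]; rfl)
    have h1 : aT' r' = e := m.isOpenEmbedding.injective (by
      rw [hre, ← Scheme.Hom.comp_apply, ha, Scheme.Hom.comp_apply, hr'])
    refine ⟨bT' r', hab.le (show aT' r' ∈ O by rw [h1]; exact he), ?_⟩
    show m (bT' r') = b r
    rw [← Scheme.Hom.comp_apply, hb, Scheme.Hom.comp_apply, hr']
  have hst' : d₀ ⁻¹ᵁ O' = d₁ p D ⁻¹ᵁ O' :=
    le_antisymm (key d₀ (d₁ p D) (aT D q₀) (bT D q₀) (pullback.lift_fst _ _ _) (pullback.lift_fst _ _ _) rfl hst)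
      (key (d₁ p D) d₀ (bT D q₀) (aT D q₀) (pullback.lift_fst _ _ _) (pullback.lift_fst _ _ _) (d₁_sv p D) hst.symm)
  haveI : CompactSpace (O' : Scheme.{u}) := isCompact_iff_compactSpace.mp (hO.image m.continuous)
  haveI : QuasiCompact (O'.ι ≫ D.obj.hom) := inferInstance
  obtain ⟨D', j, hj, hr, hU⟩ := exists_effective_sub D (fun D' _ _ _ => by
    obtain ⟨U, -, -, h1, h2⟩ := effective_qc_subtrusive hs D'
    exact ⟨U, h1, h2⟩) O' hst'
  exact ⟨D', j, hj, (show v ∈ Set.range j.hom.left by rw [hr]; exact hvO), hU⟩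

end Groth.Agent.EtRep9.StableNbhd
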