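import Groth.Agent.EtRep9.SubtrusiveEff
import Groth.Agent.EtRep9.FpqcInd
import Groth.Agent.DescLib.DescFinite
import Groth.Agent.GrpdLib.OrbitTop

/-! Stable quasi-compact opens around a quasi-compact open: valuation rings and limits. -/

set_option autoImplicit false
set_option backward.isDefEq.respectTransparency false
set_option backward.isDefEq.respectTransparency.types false
set_option linter.style.haveILetI false
universe u

open CategoryTheory CategoryTheory.Limits AlgebraicGeometry Desc IsLocalRing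
open Groth.Agent.DescLib.IndQA Groth.Agent.MorLib

noncomputable section

namespace Groth.Agent.EtRep9.StableNbhd

open Groth.Agent.DescLib

/-- Change of the first factor of a base change. -/
abbrev fm {E' E S : Scheme.{u}} {h : E ⟶ S} {h' : E' ⟶ S} (φ : E' ⟶ E) (hφ : φ ≫ h = h') {T : Scheme.{u}}
    (q : T ⟶ S) : pullback h' q ⟶ pullback h q :=
  pullback.lift (pullback.fst _ _ ≫ φ) (pullback.snd _ _) (by rw [Category.assoc, hφ, pullback.condition])

theorem isPullback_fm {E' E S : Scheme.{u}} {h : E ⟶ S} {h' : E' ⟶ S} (φ : E' ⟶ E) (hφ : φ ≫ h = h') {T : Scheme.{u}}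
    (q : T ⟶ S) : IsPullback (fm φ hφ q) (pullback.fst h' q) (pullback.fst h q) φ := by
  refine IsPullback.of_right ?_ (pullback.lift_fst _ _ _) (IsPullback.of_hasPullback h q).flip
  rw [pullback.lift_snd, hφ]
  exact (IsPullback.of_hasPullback h' q).flip

section diag

variable {E S : Scheme.{u}} (h : E ⟶ S) {I : Type u} [SmallCategory I] [IsCofiltered I] (T : I ⥤ Scheme.{u})
  (c : Cone T) (J : ∀ i, T.obj i ⟶ S) (hJ : ∀ {l i : I} (φ : l ⟶ i), T.map φ ≫ J i = J l)
  {jl : c.pt ⟶ S} (hjl : ∀ i, c.π.app i ≫ J i = jl)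

/-- The base changes along a system. -/
def diag : I ⥤ Scheme.{u} where
  obj i := pullback h (J i)
  map φ := bcm h (T.map φ) (hJ φ)
  map_id i := by apply pullback.hom_ext <;> simp
  map_comp φ ψ := by apply pullback.hom_ext <;> simp

/-- The projection to the system. -/
def toBase : diag h T J hJ ⟶ T where
  app i := pullback.snd h (J i)
  naturality i k φ := pullback.lift_snd _ _ _

/-- The cone of base changes. -/
def cone : Cone (diag h T J hJ) where
  pt := pullback h jl
  π :=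
  { app := fun i => bcm h (c.π.app i) (hjl i)
    naturality := fun i k φ => by
      refine (Category.id_comp _).trans ?_
      show bcm h (c.π.app k) (hjl k) = bcm h (c.π.app i) (hjl i) ≫ bcm h (T.map φ) (hJ φ)
      apply pullback.hom_ext <;> simp }

/-- The base change of the limit is the limit. -/
def isLimitCone (hc : IsLimit c) : IsLimit (cone h T c J hJ hjl) :=
  haveI : IsConnected I := IsCofiltered.isConnected I
  isLimitOfIsPullbackOfIsConnected (toBase h T J hJ) _ c
    { hom := pullback.snd h jl, w := fun i => (bcm_snd h (c.π.app i) (hjl i)).symm }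
    (fun i => isPullback_bcm h (c.π.app i) (hjl i)) hc

theorem isAffineHom_map [∀ (i j : I) (f : i ⟶ j), IsAffineHom (T.map f)] {i k : I} (φ : i ⟶ k) :
    IsAffineHom ((diag h T J hJ).map φ) :=
  MorphismProperty.of_isPullback (isPullback_bcm h (T.map φ) (hJ φ)).flip inferInstance

end diag

variable {X S : Scheme.{u}} {p : X ⟶ S} (D : SchDD p) (W : D.obj.left.Opens)

/-- The first map of the groupoid over `q`. -/
abbrev aT {T : Scheme.{u}} (q : T ⟶ S) : pullback (pullback.fst (sv p D) p ≫ sv p D) q ⟶ pullback (sv p D) q :=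
  fm (pullback.fst (sv p D) p) rfl q

/-- The second map of the groupoid over `q`. -/
abbrev bT {T : Scheme.{u}} (q : T ⟶ S) : pullback (pullback.fst (sv p D) p ≫ sv p D) q ⟶ pullback (sv p D) q :=
  fm (d₁ p D) (d₁_sv p D) q

/-- Over `q` a stable quasi-compact open contains the given open. -/
def Good {T : Scheme.{u}} (q : T ⟶ S) : Prop :=
  ∃ O : (pullback (sv p D) q).Opens, IsCompact (O : Set ↥(pullback (sv p D) q)) ∧
    pullback.fst (sv p D) q ⁻¹ᵁ W ≤ O ∧ aT D q ⁻¹ᵁ O = bT D q ⁻¹ᵁ O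

variable {D W}

theorem good_bc {T T' : Scheme.{u}} {q : T ⟶ S} {q' : T' ⟶ S} (k : T' ⟶ T) [QuasiCompact k] (e : k ≫ q = q')
    (h : Good D W q) : Good D W q' := by
  obtain ⟨O, hO, hW, hst⟩ := h
  let m := bcm (sv p D) k e
  haveI : QuasiCompact m := MorphismProperty.of_isPullback (isPullback_bcm (sv p D) k e).flip ‹QuasiCompact k›
  refine ⟨m ⁻¹ᵁ O, m.isCompact_preimage hO, ?_, ?_⟩
  · rw [← bcm_fst (sv p D) k e, Scheme.Hom.comp_preimage]
    exact m.preimage_mono hW
  · have ea : aT D q' ≫ m = bcm _ k e ≫ aT D q := by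
      apply pullback.hom_ext <;> simp [m, aT]
    have eb : bT D q' ≫ m = bcm _ k e ≫ bT D q := by
      apply pullback.hom_ext <;> simp [m, bT]
    rw [← Scheme.Hom.comp_preimage, ← Scheme.Hom.comp_preimage, ea, eb, Scheme.Hom.comp_preimage,
      Scheme.Hom.comp_preimage, hst]

theorem quasiCompact_d₁ [QuasiCompact p] : QuasiCompact (d₁ p D) := by
  let i : pullback (sv p D) p ⟶ pullback (sv p D) p := (groupoid p D).i
  have hit : i ≫ d₁ p D = pullback.fst (sv p D) p := (groupoid p D).i_t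
  have hs : i ≫ pullback.fst (sv p D) p = d₁ p D := (groupoid p D).i_s
  have hii : i ≫ i = 𝟙 _ := by
    apply pullback.hom_ext
    · rw [Category.assoc, hs, hit, Category.id_comp]
    · have h2 : i ≫ pullback.snd (sv p D) p = pullback.fst (sv p D) p ≫ D.obj.hom := pullback.lift_snd _ _ _
      rw [Category.assoc, h2, ← Category.assoc, hs, d₁_hom, Category.id_comp]
  haveI : IsIso i := ⟨i, hii, hii⟩
  rw [← hs]
  infer_instance

theorem quasiCompact_aT [QuasiCompact p] {T : Scheme.{u}} (q : T ⟶ S) :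
    QuasiCompact (aT D q) ∧ QuasiCompact (bT D q) :=
  ⟨MorphismProperty.of_isPullback (isPullback_fm (pullback.fst (sv p D) p) rfl q).flip inferInstance,
   MorphismProperty.of_isPullback (isPullback_fm (d₁ p D) (d₁_sv p D) q).flip quasiCompact_d₁⟩

theorem good_stage [QuasiSeparatedSpace S] [QuasiCompact p] (hW : IsCompact (W : Set D.obj.left))
    {I : Type u} [SmallCategory I] [IsCofiltered I] (T : I ⥤ Scheme.{u}) (c : Cone T) (hc : IsLimit c)
    [∀ (i j : I) (f : i ⟶ j), IsAffineHom (T.map f)] [∀ i, CompactSpace (T.obj i)]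
    (J : ∀ i, T.obj i ⟶ S) (hJ : ∀ {l i : I} (φ : l ⟶ i), T.map φ ≫ J i = J l)
    {jl : c.pt ⟶ S} (hjl : ∀ i, c.π.app i ≫ J i = jl) (h : Good D W jl) : ∃ i, Good D W (J i) := by
  obtain ⟨O, hO, hWO, hst⟩ := h
  let TE := diag (sv p D) T J hJ
  let cE := cone (sv p D) T c J hJ hjl
  let TR := diag (pullback.fst (sv p D) p ≫ sv p D) T J hJ
  let cR := cone (pullback.fst (sv p D) p ≫ sv p D) T c J hJ hjl
  haveI : ∀ {i j : I} (f : i ⟶ j), IsAffineHom (TE.map f) := fun f => isAffineHom_map (sv p D) T J hJ f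
  haveI : ∀ {i j : I} (f : i ⟶ j), IsAffineHom (TR.map f) := fun f =>
    isAffineHom_map (pullback.fst (sv p D) p ≫ sv p D) T J hJ f
  obtain ⟨i, V, hV, hVO⟩ := exists_preimage_eq TE cE (isLimitCone (sv p D) T c J hJ hjl hc) O hO
  have hWi : ∀ i, IsCompact ((pullback.fst (sv p D) (J i) ⁻¹ᵁ W : (TE.obj i).Opens) : Set ↥(TE.obj i)) := fun i => by
    haveI : QuasiCompact (J i) := inferInstance
    exact (pullback.fst (sv p D) (J i)).isCompact_preimage hW
  have hWnat : ∀ {l i : I} (φ : l ⟶ i),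
      TE.map φ ⁻¹ᵁ (pullback.fst (sv p D) (J i) ⁻¹ᵁ W) = pullback.fst (sv p D) (J l) ⁻¹ᵁ W := fun {l i} φ => by
    rw [← Scheme.Hom.comp_preimage]
    exact congrArg (· ⁻¹ᵁ W) (bcm_fst (sv p D) (T.map φ) (hJ φ))
  obtain ⟨j, φ, hj⟩ := exists_map_preimage_le_map_preimage TE cE (isLimitCone (sv p D) T c J hJ hjl hc)
    (i := i) (V := V) (hWi i) (by
      rw [hVO, ← Scheme.Hom.comp_preimage]
      exact (congrArg (· ⁻¹ᵁ W) (bcm_fst (sv p D) (c.π.app i) (hjl i))).trans_le hWO)
  rw [hWnat] at hj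
  let V' := TE.map φ ⁻¹ᵁ V
  have hV' : IsCompact (V' : Set ↥(TE.obj j)) := (TE.map φ).isCompact_preimage hV
  have ea : ∀ {T' T'' : Scheme.{u}} (τ : T' ⟶ T'') (q' : T' ⟶ S) (q'' : T'' ⟶ S) (e : τ ≫ q'' = q'),
      bcm _ τ e ≫ aT D q'' = aT D q' ≫ bcm _ τ e := fun τ q' q'' e => by
    apply pullback.hom_ext <;> simp [aT]
  have eb : ∀ {T' T'' : Scheme.{u}} (τ : T' ⟶ T'') (q' : T' ⟶ S) (q'' : T'' ⟶ S) (e : τ ≫ q'' = q'),
      bcm _ τ e ≫ bT D q'' = bT D q' ≫ bcm _ τ e := fun τ q' q'' e => by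
    apply pullback.hom_ext <;> simp [bT]
  haveI := (quasiCompact_aT (D := D) (J j)).1
  haveI := (quasiCompact_aT (D := D) (J j)).2
  have hpre : cE.π.app j ⁻¹ᵁ V' = O := by
    rw [← Scheme.Hom.comp_preimage, cE.w, hVO]
  obtain ⟨k, ψ, hk⟩ := exists_map_preimage_eq_map_preimage TR cR
    (isLimitCone (pullback.fst (sv p D) p ≫ sv p D) T c J hJ hjl hc) (i := j)
    (U := aT D (J j) ⁻¹ᵁ V') (V := bT D (J j) ⁻¹ᵁ V')
    ((aT D (J j)).isCompact_preimage hV') ((bT D (J j)).isCompact_preimage hV') (by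
      refine (((Scheme.Hom.comp_preimage _ _ _).symm.trans
        (congrArg (fun f => f ⁻¹ᵁ V') (ea (c.π.app j) jl (J j) (hjl j)))).trans
        ((Scheme.Hom.comp_preimage _ _ _).trans ?_)).trans
        ((Scheme.Hom.comp_preimage _ _ _).symm.trans
        ((congrArg (fun f => f ⁻¹ᵁ V') (eb (c.π.app j) jl (J j) (hjl j)).symm).trans
          (Scheme.Hom.comp_preimage _ _ _)))
      exact ((congrArg (fun o => aT D jl ⁻¹ᵁ o) hpre).trans hst).trans
        (congrArg (fun o => bT D jl ⁻¹ᵁ o) hpre).symm)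
  refine ⟨k, TE.map ψ ⁻¹ᵁ V', (TE.map ψ).isCompact_preimage hV', ?_, ?_⟩
  · rw [← hWnat ψ]
    exact (TE.map ψ).preimage_mono hj
  · rw [← Scheme.Hom.comp_preimage, ← Scheme.Hom.comp_preimage]
    show (aT D (J k) ≫ bcm _ (T.map ψ) (hJ ψ)) ⁻¹ᵁ V' = (bT D (J k) ≫ bcm _ (T.map ψ) (hJ ψ)) ⁻¹ᵁ V'
    rw [← ea, ← eb, Scheme.Hom.comp_preimage, Scheme.Hom.comp_preimage]
    exact hk

/-- Over valuation rings. -/
theorem good_valuationRing [QuasiSeparatedSpace S] [QuasiCompact p] [IsSeparated D.obj.hom] [Etale D.obj.hom]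
    (hs : Subtr.UnivSSubtrusive p) (hW : IsCompact (W : Set D.obj.left))
    (V : CommRingCat.{u}) [IsDomain V] [ValuationRing V] (q : Spec V ⟶ S) : Good D W q := by
  let D' := (SchDDFam.ofSchDD.{0} p).obj D
  haveI : Etale (D'.obj PUnit.unit).hom := inferInstanceAs (Etale D.obj.hom)
  haveI : IsSeparated (D'.obj PUnit.unit).hom := inferInstanceAs (IsSeparated D.obj.hom)
  obtain ⟨x, x', hxx, hx, hx'⟩ := hs _ _ _ (IsPullback.of_hasPullback p q).flip
    (show (⊥ : PrimeSpectrum V) ⤳ closedPoint V from specializes_closedPoint _)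
  obtain ⟨A, _, _, φ, l, hφ, hl, -⟩ := Groth.Agent.HTopCov.exists_ext_of_points (pullback.snd p q) hxx hx' hx
  have hff : φ.hom.FaithfullyFlat := by
    letI : Algebra V A := φ.hom.toAlgebra
    haveI : Module.Flat V A := Groth.Agent.AlgSpVal.flat_of_injective hφ.1
    haveI : IsLocalHom (algebraMap V A) := hφ.2
    exact RingHom.faithfullyFlat_algebraMap_iff.2 (Module.FaithfullyFlat.of_flat_of_isLocalHom)
  rw [RingHom.FaithfullyFlat.iff_flat_and_comap_surjective] at hff
  haveI : Flat (Spec.map φ) := (HasRingHomProperty.Spec_iff (P := @Flat)).2 hff.1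
  haveI : Surjective (Spec.map φ) := ⟨hff.2⟩
  let j := Spec.map φ ≫ q
  let σ : Spec A ⟶ pullback p j := pullback.lift (l ≫ pullback.fst p q) (𝟙 _)
    (by rw [Category.assoc, pullback.condition, reassoc_of% hl, Category.id_comp])
  haveI : Etale ((Dj j D').obj PUnit.unit).hom :=
    inferInstanceAs (Etale (pullback.snd (D'.obj PUnit.unit).hom (pullback.fst p j)))
  haveI : IsSeparated ((Dj j D').obj PUnit.unit).hom :=
    inferInstanceAs (IsSeparated (pullback.snd (D'.obj PUnit.unit).hom (pullback.fst p j)))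
  let U₁ := (Dr σ (pullback.lift_snd _ _ _ : σ ≫ pullback.snd p j = 𝟙 _) (Dj j D')).obj PUnit.unit
  haveI : Etale U₁.hom := inferInstanceAs (Etale (pullback.snd ((Dj j D').obj PUnit.unit).hom σ))
  haveI : IsSeparated U₁.hom := inferInstanceAs (IsSeparated (pullback.snd ((Dj j D').obj PUnit.unit).hom σ))
  have hU₁ : IsRep (Dj j D') U₁ := isRep_of_refine (univSubmersive_id _) (isRep_id _)
  obtain ⟨U, hU⟩ := exists_isRep_of_affine_cover (p := Spec.map φ) (D := Dj q D')
    (isRep_of_isRepOn (isRepOn_Dj (isRepOn_of_isRep hU₁)))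
  obtain ⟨u, hu⟩ := exists_isMdl (isRepOn_of_isRep hU)
  haveI := hu.iso
  let θ : pullback p (U.hom ≫ q) ⟶ pullback (sv p D) q := th U.hom u (hw_of_hu hu.hu)
  haveI : IsIso θ := hu.iso
  let Pm : pullback (sv p D) q ⟶ U.left := inv θ ≫ pullback.snd p (U.hom ≫ q)
  haveI : QuasiCompact Pm := inferInstanceAs (QuasiCompact (inv θ ≫ pullback.snd p (U.hom ≫ q)))
  have hK : IsCompact (pullback.fst (sv p D) q ⁻¹' (W : Set D.obj.left)) := by
    haveI : QuasiCompact q := inferInstance
    exact (pullback.fst (sv p D) q).isCompact_preimage hW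
  obtain ⟨V', hV', hKV, -⟩ := MorLib.IQA.exists_compact_between (U := (⊤ : U.left.Opens)) (hK.image Pm.continuous)
    (Set.subset_univ _)
  have hpar : aT D q ≫ Pm = bT D q ≫ Pm := by
    let A' := aT D q ≫ inv θ
    have e1 : inv θ ≫ u = pullback.fst (sv p D) q := by
      rw [IsIso.inv_comp_eq]; exact (pullback.lift_fst _ _ _).symm
    have e2 : inv θ ≫ pullback.snd p (U.hom ≫ q) ≫ U.hom = pullback.snd (sv p D) q := by
      rw [IsIso.inv_comp_eq]; exact (pullback.lift_snd _ _ _).symm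
    have e3 : inv θ ≫ pullback.fst p (U.hom ≫ q) = pullback.fst (sv p D) q ≫ D.obj.hom := by
      rw [← hu.hu, ← Category.assoc, e1]; rfl
    have hB : (pullback.fst _ q ≫ pullback.snd (sv p D) p) ≫ p =
        (A' ≫ pullback.snd p (U.hom ≫ q)) ≫ U.hom ≫ q := by
      simp only [A', Category.assoc]
      rw [reassoc_of% e2, pullback.lift_snd_assoc, ← pullback.condition (f := sv p D) (g := p)]
      exact pullback.condition (f := pullback.fst (sv p D) p ≫ sv p D) (g := q)
    let B' : pullback (pullback.fst (sv p D) p ≫ sv p D) q ⟶ pullback p (U.hom ≫ q) :=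
      pullback.lift (pullback.fst _ q ≫ pullback.snd (sv p D) p) (A' ≫ pullback.snd p (U.hom ≫ q)) hB
    have eA : A' ≫ u = pullback.fst _ q ≫ pullback.fst (sv p D) p := by
      rw [Category.assoc, e1, pullback.lift_fst]
    have eB : B' ≫ pullback.fst p (U.hom ≫ q) = pullback.fst _ q ≫ pullback.snd (sv p D) p :=
      pullback.lift_fst _ _ _
    have key := hu.comm A' B' (pullback.lift_snd _ _ _).symm
    have hBu : B' ≫ u = pullback.fst _ q ≫ d₁ p D := by
      have hh : (pullback.fst (pullback.fst (sv p D) p ≫ sv p D) q ≫ pullback.fst (sv p D) p) ≫ sv p D =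
          (pullback.fst _ q ≫ pullback.snd (sv p D) p) ≫ p := by
        simp only [Category.assoc, pullback.condition]
      rw [← key, show pullback.fst _ q ≫ d₁ p D = _ from tr_nat p D _ _ _ _ _ _ rfl rfl hh]
      refine (GlueFam.φ_val ((SchDDFam.ofSchDD.{u} p).obj D) (i := PUnit.unit) (k := PUnit.unit) _
        ⟨A' ≫ u, by rw [Category.assoc]; exact congrArg (A' ≫ ·) hu.hu⟩ ?_).trans (IndQA.tr_congr p D ?_ ?_ ?_ hh)
      · show (A' ≫ u) ≫ sv p D = (B' ≫ pullback.fst p (U.hom ≫ q)) ≫ p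
        rw [eA, eB]
        exact hh
      · exact eA
      · exact eB
      · show (A' ≫ u) ≫ sv p D = (B' ≫ pullback.fst p (U.hom ≫ q)) ≫ p
        rw [eA, eB]
        exact hh
    have hB' : bT D q ≫ inv θ = B' := by
      rw [IsIso.comp_inv_eq]
      have eθ1 : θ ≫ pullback.fst (sv p D) q = u := pullback.lift_fst _ _ _
      have eθ2 : θ ≫ pullback.snd (sv p D) q = pullback.snd p (U.hom ≫ q) ≫ U.hom := pullback.lift_snd _ _ _
      refine pullback.hom_ext ?_ ?_
      · rw [pullback.lift_fst, Category.assoc, eθ1, hBu]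
      · rw [pullback.lift_snd, Category.assoc, eθ2, ← Category.assoc B', pullback.lift_snd, Category.assoc]
        simp only [A', Category.assoc]
        rw [e2, pullback.lift_snd]
    show aT D q ≫ inv θ ≫ _ = bT D q ≫ inv θ ≫ _
    rw [reassoc_of% hB', pullback.lift_snd]
    exact (Category.assoc _ _ _).symm
  refine ⟨Pm ⁻¹ᵁ V', Pm.isCompact_preimage hV', fun e he => hKV ⟨e, he, rfl⟩, ?_⟩
  rw [← Scheme.Hom.comp_preimage, ← Scheme.Hom.comp_preimage, hpar]

end Groth.Agent.EtRep9.StableNbhd
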