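import Groth.Agent.EtRep9.SubtrusiveEff
import Groth.Agent.DescLib.DescFinite

/-! Descent data covered by stable opens on which they are effective. -/

universe u

set_option autoImplicit false
set_option backward.isDefEq.respectTransparency false
set_option backward.isDefEq.respectTransparency.types false
set_option linter.style.haveILetI false

open CategoryTheory CategoryTheory.Limits AlgebraicGeometry Desc

noncomputable section

namespace Groth.Agent.EtRep9.Stable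

open Groth.Agent.DescLib

theorem surjective_of_univSubmersive {X S : Scheme.{u}} {p : X ⟶ S} (hp : SGA1.UnivSubmersive p) : Surjective p :=
  ⟨(hp _ _ p IsPullback.of_id_snd).surjective⟩

variable {S X : Scheme.{u}} {p : X ⟶ S}
  {D D' : SchDDFam (fun _ : PUnit.{u + 1} => p)} (a : D' ⟶ D) [IsOpenImmersion (a.hom ⟨⟩).left]

lemma pt_mem_iff {T : Scheme.{u}} {s : T ⟶ S} (c : Compat D s)
    (z z' : (pullback s p : Scheme.{u})) (h : pullback.fst s p z = pullback.fst s p z')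
    (hz : (c.pt (i := PUnit.unit) (pullback.fst s p) (pullback.snd s p) pullback.condition.symm).1 z ∈
      (a.hom ⟨⟩).left.opensRange) :
    (c.pt (i := PUnit.unit) (pullback.fst s p) (pullback.snd s p) pullback.condition.symm).1 z' ∈
      (a.hom ⟨⟩).left.opensRange := by
  obtain ⟨r, hr, hr'⟩ := Scheme.Pullback.exists_preimage_pullback z z' h
  let m := pullback.fst (pullback.fst s p) (pullback.fst s p)
  let n := pullback.snd (pullback.fst s p) (pullback.fst s p)
  let cp := c.pt (i := PUnit.unit) (pullback.fst s p) (pullback.snd s p) pullback.condition.symm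
  let O₁ := (m ≫ cp.1) ⁻¹ᵁ (a.hom ⟨⟩).left.opensRange
  have hrO : r ∈ O₁ := by
    show cp.1 (m r) ∈ (a.hom ⟨⟩).left.opensRange
    rw [hr]; exact hz
  let t := O₁.ι ≫ m ≫ pullback.fst s p
  let y₀ := O₁.ι ≫ m ≫ pullback.snd s p
  let y₁ := O₁.ι ≫ n ≫ pullback.snd s p
  have ht : t = O₁.ι ≫ n ≫ pullback.fst s p := congrArg (O₁.ι ≫ ·) pullback.condition
  have h₀ : y₀ ≫ p = t ≫ s := by simp [t, y₀, pullback.condition]
  have h₁ : y₁ ≫ p = t ≫ s := by rw [ht]; simp [y₁, pullback.condition]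
  have e₀ := c.nat (i := PUnit.unit) (O₁.ι ≫ m) (pullback.fst s p) (pullback.snd s p) pullback.condition.symm t y₀
    (Category.assoc _ _ _) (Category.assoc _ _ _) h₀
  have e₁ := c.nat (i := PUnit.unit) (O₁.ι ≫ n) (pullback.fst s p) (pullback.snd s p) pullback.condition.symm t y₁
    ((Category.assoc _ _ _).trans ht.symm) (Category.assoc _ _ _) h₁
  obtain ⟨b, hb⟩ : ∃ b, b ≫ (a.hom ⟨⟩).left = (c.pt t y₀ h₀).1 := by
    refine ⟨IsOpenImmersion.lift _ _ ?_, IsOpenImmersion.lift_fac _ _ _⟩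
    rintro _ ⟨x, rfl⟩
    rw [e₀]
    exact x.2
  let b' : Lifts (D'.obj ⟨⟩) y₀ := ⟨b, by
    rw [← Over.w (a.hom ⟨⟩), ← Category.assoc, hb]; exact (c.pt t y₀ h₀).2⟩
  have e₂ := a.comm (i := PUnit.unit) (j := PUnit.unit) y₀ y₁ (h₀.trans h₁.symm) b' (c.pt t y₀ h₀) hb.symm
  rw [c.comp (i := PUnit.unit) (k := PUnit.unit) t y₀ y₁ h₀ h₁] at e₂
  refine ⟨(D'.φ (i := PUnit.unit) (j := PUnit.unit) y₀ y₁ (h₀.trans h₁.symm) b').1 ⟨r, hrO⟩, ?_⟩
  rw [← Scheme.Hom.comp_apply, ← e₂, e₁]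
  show cp.1 (n r) = cp.1 z'
  rw [hr']

/-- The locus where a compatible family lands in an open subdatum. -/
theorem exists_locus (hp : SGA1.UnivSubmersive p) : ∃ O : ∀ ⦃T : Scheme.{u}⦄ ⦃s : T ⟶ S⦄, Compat D s → T.Opens,
    (∀ ⦃T T' : Scheme.{u}⦄ ⦃s : T ⟶ S⦄ (c : Compat D s) (g : T' ⟶ T) (s' : T' ⟶ S) (hs : g ≫ s = s'),
      O (c.res g s' hs) = g ⁻¹ᵁ O c) ∧
    (∀ ⦃T : Scheme.{u}⦄ ⦃s : T ⟶ S⦄ (c : Compat D s), O c = ⊤ ↔ ∃ c' : Compat D' s, c'.map a = c) ∧
    (∀ ⦃T : Scheme.{u}⦄ ⦃s : T ⟶ S⦄ (c c' : Compat D' s), c.map a = c'.map a → c = c') ∧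
    ∀ ⦃T : Scheme.{u}⦄ ⦃s : T ⟶ S⦄ (c : Compat D s) (z : (pullback s p : Scheme.{u})),
      (c.pt (i := PUnit.unit) (pullback.fst s p) (pullback.snd s p) pullback.condition.symm).1 z ∈
        (a.hom ⟨⟩).left.opensRange → pullback.fst s p z ∈ O c := by
  haveI := surjective_of_univSubmersive hp
  let j := (a.hom ⟨⟩).left
  let A : ∀ ⦃T : Scheme.{u}⦄ ⦃s : T ⟶ S⦄, Compat D s → (pullback s p).Opens := fun T s c =>
    (c.pt (i := PUnit.unit) (pullback.fst s p) (pullback.snd s p) pullback.condition.symm).1 ⁻¹ᵁ j.opensRange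
  have hsat : ∀ ⦃T : Scheme.{u}⦄ ⦃s : T ⟶ S⦄ (c : Compat D s) (z z' : (pullback s p : Scheme.{u})),
      pullback.fst s p z = pullback.fst s p z' → z ∈ A c → z' ∈ A c := fun T s c => pt_mem_iff a c
  let O : ∀ ⦃T : Scheme.{u}⦄ ⦃s : T ⟶ S⦄, Compat D s → T.Opens := fun T s c =>
    ⟨pullback.fst s p '' (A c : Set (pullback s p : Scheme.{u})), by
      rw [← (hp _ _ (pullback.fst s p) (IsPullback.of_hasPullback s p)).isOpen_preimage]
      have : pullback.fst s p ⁻¹' (pullback.fst s p '' (A c : Set (pullback s p : Scheme.{u}))) = A c := by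
        refine Set.Subset.antisymm ?_ (Set.subset_preimage_image _ _)
        rintro z ⟨z', hz', e⟩
        exact hsat c z' z e hz'
      rw [this]
      exact (A c).isOpen⟩
  have hOres : ∀ ⦃T T' : Scheme.{u}⦄ ⦃s : T ⟶ S⦄ (c : Compat D s) (g : T' ⟶ T) (s' : T' ⟶ S) (hs : g ≫ s = s'),
      O (c.res g s' hs) = g ⁻¹ᵁ O c := by
    intro T T' s c g s' hs
    let m : pullback s' p ⟶ pullback s p := pullback.lift (pullback.fst s' p ≫ g) (pullback.snd s' p)
      (by rw [Category.assoc, hs, pullback.condition])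
    have hA : ∀ z, z ∈ A (c.res g s' hs) ↔ m z ∈ A c := fun z => by
      show ((c.pt (pullback.fst s' p ≫ g) (pullback.snd s' p) _).1 z ∈ j.opensRange) ↔ _
      rw [c.nat (i := PUnit.unit) m (pullback.fst s p) (pullback.snd s p) pullback.condition.symm _ _ (pullback.lift_fst _ _ _)
        (pullback.lift_snd _ _ _) _]
      rfl
    have hm : ∀ z, pullback.fst s p (m z) = g (pullback.fst s' p z) := fun z => by
      rw [← Scheme.Hom.comp_apply, pullback.lift_fst]; rfl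
    ext x
    constructor
    · rintro ⟨z, hz, rfl⟩
      exact ⟨m z, (hA z).1 hz, hm z⟩
    · rintro ⟨z, hz, e⟩
      obtain ⟨z', rfl⟩ := (pullback.fst s' p).surjective x
      exact ⟨z', (hA z').2 (hsat c z _ (e.trans (hm z').symm) hz), rfl⟩
  have hlift : ∀ ⦃T : Scheme.{u}⦄ ⦃s : T ⟶ S⦄ (c : Compat D s), O c = ⊤ →
      ∃ c' : Compat D' s, c'.map a = c := by
    intro T s c hc
    have hr : ∀ ⦃T' : Scheme.{u}⦄ (t : T' ⟶ T) ⦃i : PUnit.{u + 1}⦄ (y : T' ⟶ X) (hy : y ≫ p = t ≫ s),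
        ∃ b : Lifts (D'.obj i) y, b.1 ≫ (a.hom i).left = (c.pt (i := i) t y hy).1 := by
      intro T' t i y hy
      obtain ⟨⟩ := i
      have hsub : Set.range (c.pt (i := PUnit.unit) t y hy).1 ⊆ Set.range (a.hom ⟨⟩).left := by
        rintro _ ⟨x, rfl⟩
        rw [c.nat (i := PUnit.unit) (pullback.lift t y hy.symm) (pullback.fst s p) (pullback.snd s p) pullback.condition.symm t y
          (pullback.lift_fst _ _ _) (pullback.lift_snd _ _ _) hy]
        obtain ⟨z, hz, e⟩ : pullback.fst s p (pullback.lift t y hy.symm x) ∈ O c := hc ▸ trivial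
        exact hsat c z _ e hz
      refine ⟨⟨IsOpenImmersion.lift _ _ hsub, ?_⟩, IsOpenImmersion.lift_fac _ _ _⟩
      rw [← Over.w (a.hom ⟨⟩), ← Category.assoc, IsOpenImmersion.lift_fac]
      exact (c.pt t y hy).2
    choose b hb using hr
    refine ⟨{ pt := fun T' t i y hy => b t (i := i) y hy, nat := ?_, comp := ?_ },
      Compat.ext fun T' t i y hy => hb t y hy⟩
    · intro T' T'' g t i y hy t' y' hg hgy hy'
      obtain ⟨⟩ := i
      rw [← cancel_mono (a.hom ⟨⟩).left, Category.assoc]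
      exact (hb t' y' hy').trans ((c.nat g t y hy t' y' hg hgy hy').trans (congrArg (g ≫ ·) (hb t y hy).symm))
    · intro T' t i k y y' hy hy'
      obtain ⟨⟩ := i
      obtain ⟨⟩ := k
      refine Subtype.ext ?_
      rw [← cancel_mono (a.hom ⟨⟩).left, hb t y' hy', ← a.comm y y' _ (b t y hy) _ (hb t y hy).symm, c.comp]
  have hinj : ∀ ⦃T : Scheme.{u}⦄ ⦃s : T ⟶ S⦄ (c c' : Compat D' s), c.map a = c'.map a → c = c' := by
    intro T s c c' e
    refine Compat.ext fun T' t i y hy => ?_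
    obtain ⟨⟩ := i
    rw [← cancel_mono (a.hom ⟨⟩).left]
    exact congrArg (fun d : Compat D s => (d.pt t y hy).1) e
  refine ⟨O, hOres, fun T s c => ⟨hlift c, ?_⟩, hinj, fun T s c z hz => ⟨z, hz, rfl⟩⟩
  rintro ⟨c', rfl⟩
  ext x
  refine iff_of_true ?_ trivial
  obtain ⟨z, rfl⟩ := (pullback.fst s p).surjective x
  exact ⟨z, ⟨_, (Scheme.Hom.comp_apply _ _ _).symm⟩, rfl⟩

/-- A descent datum embedded in a given one as an open subdatum gives an open subfunctor. -/
theorem exists_chart (hp : SGA1.UnivSubmersive p) (h : Rep D') : ∃ C : Chart D, ∀ ⦃T : Scheme.{u}⦄ ⦃s : T ⟶ S⦄ (c : Compat D s)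
    (z : (pullback s p : Scheme.{u})),
    (c.pt (i := PUnit.unit) (pullback.fst s p) (pullback.snd s p) pullback.condition.symm).1 z ∈
      (a.hom ⟨⟩).left.opensRange → pullback.fst s p z ∈ C.O c := by
  obtain ⟨U, c₀, hu⟩ := h
  obtain ⟨O, hOres, hiff, hinj, hmem⟩ := exists_locus a hp
  refine ⟨{ O := O, O_res := hOres, U := U, c₀ := c₀.map a, O₀ := (hiff _).2 ⟨c₀, rfl⟩,
            univ := fun T s c hc => ?_ }, hmem⟩
  obtain ⟨c', rfl⟩ := (hiff c).1 hc
  obtain ⟨q, hq, huniq⟩ := hu s c'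
  refine ⟨q, ?_, fun r hr => huniq r (hinj _ _ ?_)⟩
  · simp only [← Compat.map_res, hq]
  · simp only [Compat.map_res]; exact hr

include a in
/-- An open subdatum of a representable datum is representable. -/
theorem isRep_of_openSub (hp : SGA1.UnivSubmersive p) {U : Over S} (h : IsRep D U) :
    ∃ O : U.left.Opens, IsRep D' (Over.mk (O.ι ≫ U.hom)) ∧
      ∀ ⦃T : Scheme.{u}⦄ (q : T ⟶ U.left) (z : (pullback (q ≫ U.hom) p : Scheme.{u})),
        ((h.choose.res q _ rfl).pt (i := PUnit.unit) (pullback.fst _ p) (pullback.snd _ p) pullback.condition.symm).1 z ∈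
          (a.hom ⟨⟩).left.opensRange → q (pullback.fst (q ≫ U.hom) p z) ∈ O := by
  have hu := h.choose_spec
  set c₀ := h.choose with hc0def
  clear_value c₀
  obtain ⟨O, hOres, hiff, hinj, hmem⟩ := exists_locus a hp
  have h₀ : O (c₀.res (O c₀).ι _ rfl) = ⊤ := by
    rw [hOres]; simpa using preimage_ι_eq_top (O c₀) (𝟙 _)
  obtain ⟨c₁, hc₁⟩ := (hiff _).1 h₀
  refine ⟨O c₀, ⟨c₁, fun T s c => ?_⟩, fun T q z hz => ?_⟩
  swap
  · have := hmem _ z hz
    rw [hOres] at this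
    exact this
  obtain ⟨q, hq, huniq⟩ := hu s (c.map a)
  have hsub : Set.range q.1 ⊆ Set.range (O c₀).ι := by
    refine range_subset_of_preimage_eq_top _ _ ?_
    rw [← hOres c₀ q.1 s q.2, hq]
    exact (hiff _).2 ⟨c, rfl⟩
  let l := IsOpenImmersion.lift (O c₀).ι q.1 hsub
  have hl : l ≫ (O c₀).ι = q.1 := IsOpenImmersion.lift_fac _ _ _
  have key : ∀ r : Lifts (Over.mk ((O c₀).ι ≫ U.hom)) s,
      (c₁.res r.1 s r.2).map a = c₀.res (r.1 ≫ (O c₀).ι) s ((Category.assoc _ _ _).trans r.2) := fun r => by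
    rw [Compat.map_res, hc₁]
    exact Compat.res_res _ _ _ _ _ _ _ _ rfl _
  refine ⟨⟨l, by show l ≫ (O c₀).ι ≫ U.hom = s; rw [reassoc_of% hl]; exact q.2⟩, hinj _ _ ?_, fun r hr => ?_⟩
  · exact (key _).trans ((c₀.res_congr hl _ _ q.2).trans hq)
  · have e := huniq ⟨r.1 ≫ (O c₀).ι, (Category.assoc _ _ _).trans r.2⟩ ((key r).symm.trans (congrArg (·.map a) hr))
    refine Subtype.ext ((cancel_mono (O c₀).ι).1 ?_)
    exact (congrArg Subtype.val e).trans hl.symm


omit a in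
theorem isRepOn_id {U : Over S} (h : IsRep D U) : IsRepOn D (𝟙 S) U := by
  obtain ⟨c₀, hu⟩ := h
  refine ⟨c₀.res (𝟙 _) (U.hom ≫ 𝟙 S) (by simp), fun T x s hs c => ?_⟩
  obtain rfl : x = s := by rw [← hs, Category.comp_id]
  obtain ⟨q, hq', huniq⟩ := hu x c
  refine ⟨q, (Compat.res_res _ _ _ _ _ _ _ _ (Category.comp_id _) _).trans hq', fun r hr => huniq r ?_⟩
  exact (Compat.res_res _ _ _ _ _ _ _ _ (Category.comp_id _) _).symm.trans hr

omit D D' a in
/-- A datum covered by effective stable opens is effective. -/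
theorem effective_of_stable_cover (hp : SGA1.UnivSubmersive p) (D : SchDD p) [Etale D.obj.hom] [IsSeparated D.obj.hom]
    (h : ∀ v : D.obj.left, ∃ (D' : SchDD p) (j : D' ⟶ D), IsOpenImmersion j.hom.left ∧
      v ∈ Set.range j.hom.left ∧ ∃ U' : Over S, Etale U'.hom ∧ Nonempty ((toDD p).obj U' ≅ D')) :
    ∃ U : Over S, IsSeparated U.hom ∧ Etale U.hom ∧ Nonempty ((toDD p).obj U ≅ D) := by
  choose D' j hj hv U' hU' hI using h
  let F := SchDDFam.ofSchDD.{u} p
  let DF := F.obj D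
  haveI : Etale (DF.obj PUnit.unit).hom := inferInstanceAs (Etale D.obj.hom)
  haveI : IsSeparated (DF.obj PUnit.unit).hom := inferInstanceAs (IsSeparated D.obj.hom)
  haveI : ∀ v, IsOpenImmersion ((F.map (j v)).hom ⟨⟩).left := hj
  have hrep : ∀ v, IsRep (F.obj (D' v)) (U' v) := fun v => by
    haveI := hU' v
    exact isRep_of_iso (F.mapIso (hI v).some) (isRep_canonical hp (U' v))
  have hC : ∀ v : D.obj.left, ∃ C : Chart DF, ∀ ⦃T : Scheme.{u}⦄ ⦃s : T ⟶ S⦄
      (c : Compat DF s) (z : (pullback s p : Scheme.{u})),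
      (c.pt (i := PUnit.unit) (pullback.fst s p) (pullback.snd s p) pullback.condition.symm).1 z ∈
        ((F.map (j v)).hom ⟨⟩).left.opensRange → pullback.fst s p z ∈ C.O c := fun v =>
    exists_chart (F.map (j v)) hp ⟨_, hrep v⟩
  choose C hC using hC
  haveI := surjective_of_univSubmersive hp
  obtain ⟨U, hU⟩ : Rep DF := rep_of_charts (C := C) fun T s c x => by
    obtain ⟨z, rfl⟩ := (pullback.fst s p).surjective x
    exact ⟨(c.pt (i := PUnit.unit) (pullback.fst s p) (pullback.snd s p) pullback.condition.symm).1 z,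
      hC _ c z (hv _)⟩
  have hUr : IsRep DF U := hU
  have hloc : ∀ x : U.left, ∃ O : U.left.Opens, x ∈ O ∧ Etale (O.ι ≫ U.hom) := by
    intro x
    obtain ⟨z, hz⟩ := (pullback.fst (𝟙 U.left ≫ U.hom) p).surjective x
    let v := ((hUr.choose.res (𝟙 U.left) _ rfl).pt (i := PUnit.unit) (pullback.fst _ p) (pullback.snd _ p)
      pullback.condition.symm).1 z
    obtain ⟨O, hO, hmem⟩ := isRep_of_openSub (F.map (j v)) hp hUr
    refine ⟨O, ?_, ?_⟩
    · have := hmem (𝟙 U.left) z (hv v)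
      rwa [hz] at this
    · obtain ⟨φ⟩ := exists_iso_of_isRep hO (hrep v)
      haveI := hU' v
      have := Over.w φ.hom
      change φ.hom.left ≫ (U' v).hom = O.ι ≫ U.hom at this
      rw [← this]
      infer_instance
  choose O hxO hO using hloc
  haveI : Etale U.hom := IsZariskiLocalAtSource.of_openCover (P := @Etale)
    (U.left.openCoverOfIsOpenCover O (top_le_iff.1 fun x _ => TopologicalSpace.Opens.mem_iSup.2 ⟨x, hxO x⟩))
    fun x => hO x
  obtain ⟨u, hu⟩ := exists_isMdl (isRepOn_id hUr)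
  obtain ⟨I⟩ := iso_of_isRep hUr
  exact ⟨U, isSeparated_of_isMdl hp hu, inferInstance, ⟨(SchDDFam.toSchDD.{u} p).mapIso I⟩⟩

end Groth.Agent.EtRep9.Stable
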