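import Groth.Agent.P1Rigid.Pts

import Mathlib.AlgebraicGeometry.ValuativeCriterion

/-! A proper model of a field in which finitely many given subalgebras are visible. -/

set_option autoImplicit false
set_option backward.isDefEq.respectTransparency false
set_option backward.isDefEq.respectTransparency.types false
set_option linter.style.haveILetI false
universe u

open CategoryTheory CategoryTheory.Limits AlgebraicGeometry IsLocalRing

noncomputable section

namespace Groth.Agent.EtRep9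

open Groth.Agent.P1Rigid Groth.Agent.H23.P1Charts

/-- The projective line over the integers. -/
local notation "ℙ¹" => CohB1.ProjSpace 1 (ULift ℤ)

/-- A valuation compactness argument: finitely many members suffice. -/
theorem exists_finite_cover (R K : Type u) [CommRing R] [Field K] [Algebra R K] (𝓢 : Set (Finset K))
    (h : ∀ V : ValuationSubring K, Set.range (algebraMap R K) ⊆ V → ∃ s ∈ 𝓢, (s : Set K) ⊆ V) :
    ∃ 𝓕 : Finset (Finset K), (∀ s ∈ 𝓕, s ∈ 𝓢) ∧
      ∀ V : ValuationSubring K, Set.range (algebraMap R K) ⊆ V → ∃ s ∈ 𝓕, (s : Set K) ⊆ V := by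
  classical
  by_contra hne
  push Not at hne
  choose V hV hV' using fun 𝓕 : Finset 𝓢 => hne (𝓕.image Subtype.val) (fun s hs => by
    obtain ⟨t, -, rfl⟩ := Finset.mem_image.1 hs
    exact t.2)
  let U : Ultrafilter (Finset 𝓢) := Ultrafilter.of Filter.atTop
  have hU : ∀ t : 𝓢, ∀ᶠ 𝓕 in (U : Filter (Finset 𝓢)), t ∈ 𝓕 := fun t =>
    Filter.Eventually.filter_mono (Ultrafilter.of_le _) ((Filter.eventually_ge_atTop {t}).mono fun 𝓕 h =>
      h (Finset.mem_singleton_self t))
  let W : ValuationSubring K :=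
    { carrier := {x | ∀ᶠ 𝓕 in (U : Filter (Finset 𝓢)), x ∈ V 𝓕}
      mul_mem' := fun ha hb => (ha.and hb).mono fun _ h => mul_mem h.1 h.2
      one_mem' := Filter.Eventually.of_forall fun _ => one_mem _
      add_mem' := fun ha hb => (ha.and hb).mono fun _ h => add_mem h.1 h.2
      zero_mem' := Filter.Eventually.of_forall fun _ => zero_mem _
      neg_mem' := fun ha => ha.mono fun _ h => neg_mem h
      mem_or_inv_mem' := fun x => (Ultrafilter.eventually_or.1
        (Filter.Eventually.of_forall fun 𝓕 => (V 𝓕).mem_or_inv_mem x)) }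
  obtain ⟨s, hs, hsW⟩ := h W fun x hx => Filter.Eventually.of_forall fun 𝓕 => hV 𝓕 hx
  have h1 : ∀ᶠ 𝓕 in (U : Filter (Finset 𝓢)), ∀ a ∈ s, a ∈ V 𝓕 :=
    s.eventually_all.2 fun a ha => hsW ha
  obtain ⟨𝓕, hF, hF'⟩ := ((hU ⟨s, hs⟩).and h1).exists
  exact hV' 𝓕 s (Finset.mem_image_of_mem _ hF) fun a ha => hF' a ha


/-- A proper scheme over `R` with a point in `K` through which the given elements are coordinates. -/
theorem exists_coord_model {K : Type u} [Field K] {S : Scheme.{u}} (ξ : Spec (CommRingCat.of K) ⟶ S) (F : Finset K) :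
    ∃ (Q : Scheme.{u}) (f : Q ⟶ S) (η : Spec (CommRingCat.of K) ⟶ Q), (IsProper f ∧
      LocallyOfFinitePresentation f) ∧
      η ≫ f = ξ ∧
      ∀ a ∈ F, ∃ π : Q ⟶ ℙ¹, η ≫ π = pt 0 a := by
  classical
  induction F using Finset.induction with
  | empty => exact ⟨S, 𝟙 _, ξ, ⟨inferInstance, inferInstance⟩,
      Category.comp_id _, by simp⟩
  | insert a F _ ih =>
    obtain ⟨Q, f, η, ⟨hf, hf'⟩, hη, hπ⟩ := ih
    haveI := hf; haveI := hf'
    haveI : IsProper (CohB1.ProjSpace.toSpec 1 (ULift.{u} ℤ)) := Groth.Agent.H23.P1Charts.isProper_toSpec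
    let t : Q ⟶ Spec (CommRingCat.of (ULift.{u} ℤ)) := specULiftZIsTerminal.from Q
    let Q' := pullback t (CohB1.ProjSpace.toSpec 1 (ULift.{u} ℤ))
    haveI : IsNoetherianRing (CommRingCat.of (ULift.{u} ℤ)) :=
      isNoetherianRing_of_ringEquiv ℤ ULift.ringEquiv.symm
    haveI : LocallyOfFinitePresentation (CohB1.ProjSpace.toSpec 1 (ULift.{u} ℤ)) := inferInstance
    refine ⟨Q', pullback.fst _ _ ≫ f, pullback.lift η (pt 0 a) (specULiftZIsTerminal.hom_ext _ _),
      ⟨inferInstance, inferInstance⟩,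
      by rw [pullback.lift_fst_assoc, hη], fun b hb => ?_⟩
    rcases Finset.mem_insert.1 hb with rfl | hb
    · exact ⟨pullback.snd _ _, pullback.lift_snd _ _ _⟩
    · obtain ⟨π, hπb⟩ := hπ b hb
      exact ⟨pullback.fst _ _ ≫ π, by rw [pullback.lift_fst_assoc, hπb]⟩

/-- The first chart. -/
def chart0 : (ℙ¹ : Scheme.{u}).Opens :=
  (Proj.awayι P1.grading.{u} (P1.T 0) (P1.X_mem 0) one_pos).opensRange

theorem pt_mem_chart0 {B : Type u} [CommRing B] (b : B) (x : Spec (CommRingCat.of B)) :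
    pt 0 b x ∈ chart0.{u} := ⟨_, (Scheme.Hom.comp_apply _ _ _).symm⟩

/-- A proper model over any base, with its dominant point, in which every point is seen by one of the given finite
sets. -/
theorem exists_val_model'' {K : Type u} [Field K] {S : Scheme.{u}} (ξ : Spec (CommRingCat.of K) ⟶ S)
    {κ : Type u} [Finite κ] (R : κ → CommRingCat.{u}) (k : ∀ j, Spec (R j) ⟶ S) [∀ j, IsOpenImmersion (k j)]
    [∀ j, Algebra (R j) K] (hξ : ∀ j, Spec.map (CommRingCat.ofHom (algebraMap (R j) K)) ≫ k j = ξ)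
    (hcov : ∀ y, ξ (closedPoint K) ⤳ y → ∃ j, y ∈ Set.range (k j)) (𝓕 : κ → Finset (Finset K))
    (h𝓕 : ∀ j, ∀ V : ValuationSubring K, Set.range (algebraMap (R j) K) ⊆ V → ∃ s ∈ 𝓕 j, (s : Set K) ⊆ V) :
    ∃ (P : Scheme.{u}) (f : P ⟶ S), (IsProper f ∧ ∃ (Q : Scheme.{u}) (fQ : Q ⟶ S) (i : P ⟶ Q),
        IsProper fQ ∧ LocallyOfFinitePresentation fQ ∧ IsClosedImmersion i ∧ i ≫ fQ = f) ∧
      ∃ η : Spec (CommRingCat.of K) ⟶ P, η ≫ f = ξ ∧ QuasiCompact η ∧ (∀ U : P.Opens, Function.Injective (η.app U).hom) ∧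
      ∀ p : P, ∃ (j : κ) (s : Finset K) (O : P.Opens), s ∈ 𝓕 j ∧ p ∈ O ∧
        ∃ m : (O : Scheme.{u}) ⟶ Spec (CommRingCat.of (Algebra.adjoin (R j : Type u) (s : Set K))),
          m ≫ Spec.map (CommRingCat.ofHom (algebraMap (R j) (Algebra.adjoin (R j : Type u) (s : Set K)))) ≫ k j =
            O.ι ≫ f ∧ ∀ η' : Spec (CommRingCat.of K) ⟶ O, η' ≫ O.ι = η →
              η' ≫ m = Spec.map (CommRingCat.ofHom (Algebra.adjoin (R j : Type u) (s : Set K)).val.toRingHom) := by
  classical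
  haveI := Fintype.ofFinite κ
  obtain ⟨Q, fQ, ηQ, ⟨hfQ, hfQ'⟩, hηQ, hπ⟩ := exists_coord_model ξ ((Finset.univ : Finset κ).biUnion fun j => (𝓕 j).biUnion id)
  haveI := hfQ
  let i := ηQ.imageι
  let η : Spec (CommRingCat.of K) ⟶ ηQ.image := ηQ.toImage
  let f := i ≫ fQ
  have hη : η ≫ f = ξ := by
    simp only [η, f, i, Scheme.Hom.toImage_imageι_assoc, hηQ]
  haveI : IsProper f := inferInstance
  let q := η (closedPoint K)
  have hgen : ∀ p : ηQ.image, q ⤳ p := fun p => by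
    have h1 : p ∈ closure (Set.range η) := η.denseRange p
    rw [specializes_iff_mem_closure]
    refine closure_mono ?_ h1
    rintro _ ⟨z, rfl⟩
    rw [show z = closedPoint K from Subsingleton.elim _ _]
    rfl
  have happ : ∀ U : ηQ.image.Opens, Function.Injective (η.app U).hom := fun U => by
    rw [injective_iff_map_eq_zero]
    intro x₀ hx
    refine TopCat.Presheaf.section_ext ηQ.image.sheaf U x₀ 0 fun z hz => ?_
    haveI : QuasiCompact ηQ := inferInstance
    apply ηQ.stalkFunctor_toImage_injective z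
    rw [map_zero]
    show ((TopCat.Presheaf.stalkFunctor _ z).map η.c) (ηQ.image.presheaf.germ U z hz x₀) = _
    rw [TopCat.Presheaf.stalkFunctor_map_germ_apply]
    show _ = ((TopCat.Presheaf.stalkFunctor _ z).map η.c) 0
    rw [show η.c.app (Opposite.op U) x₀ = 0 from hx, map_zero, map_zero]
  haveI : QuasiCompact ηQ := inferInstance
  refine ⟨ηQ.image, f, ⟨inferInstance, Q, fQ, i, hfQ, hfQ', inferInstance, rfl⟩, η, hη,
    inferInstanceAs (QuasiCompact ηQ.toImage), happ, fun p => ?_⟩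
  -- a valuation centred at `p`
  let r : ηQ.image.presheaf.stalk p ⟶ CommRingCat.of K :=
    ηQ.image.presheaf.stalkSpecializes (hgen p) ≫ Scheme.stalkClosedPointTo η
  obtain ⟨A, hA, hA_local⟩ := exists_factor_valuationRing r.hom
  let r' : ηQ.image.presheaf.stalk p ⟶ CommRingCat.of A := CommRingCat.ofHom (r.hom.codRestrict A.toSubring hA)
  let l := Spec.map r' ≫ ηQ.image.fromSpecStalk p
  let vs : Spec (CommRingCat.of K) ⟶ Spec (CommRingCat.of A) := Spec.map (CommRingCat.ofHom A.subtype)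
  have hl : vs ≫ l = η := by
    show Spec.map _ ≫ Spec.map r' ≫ _ = η
    rw [← Spec.map_comp_assoc, show r' ≫ CommRingCat.ofHom A.subtype = r from rfl, Spec.map_comp_assoc,
      Scheme.SpecMap_stalkSpecializes_fromSpecStalk]
    exact Scheme.Spec_stalkClosedPointTo_fromSpecStalk η
  have hlp : l (closedPoint A) = p := by
    rw [Scheme.Hom.comp_apply]
    have : Spec.map r' (closedPoint A) = closedPoint (ηQ.image.presheaf.stalk p) :=
      comap_closedPoint (S := A) (r.hom.codRestrict A.toSubring hA)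
    rw [this, ηQ.image.fromSpecStalk_closedPoint]
  obtain ⟨j, hj⟩ := hcov (f p) (by
    have h1 : f q = ξ (closedPoint K) := (Scheme.Hom.comp_apply η f _).symm.trans
      (congrArg (fun (g : Spec (CommRingCat.of K) ⟶ S) => g (closedPoint K)) hη)
    rw [← h1]
    exact (hgen p).map f.continuous)
  have hlr : Set.range (l ≫ f) ⊆ Set.range (k j) := by
    rintro _ ⟨z, rfl⟩
    refine Specializes.mem_open ?_ (k j).isOpenEmbedding.isOpen_range (show (l ≫ f) (closedPoint A) ∈ _ by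
      rw [Scheme.Hom.comp_apply, hlp]; exact hj)
    exact (IsLocalRing.specializes_closedPoint z).map (l ≫ f).continuous
  have hRA : Set.range (algebraMap (R j) K) ⊆ A := by
    rintro _ ⟨x, rfl⟩
    let m := IsOpenImmersion.lift (k j) (l ≫ f) hlr
    have e : vs ≫ m = Spec.map (CommRingCat.ofHom (algebraMap (R j) K)) := by
      rw [← cancel_mono (k j), Category.assoc, IsOpenImmersion.lift_fac, reassoc_of% hl, hη, hξ]
    have h2 : Spec.map (Spec.preimage m ≫ CommRingCat.ofHom A.subtype) =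
        Spec.map (CommRingCat.ofHom (algebraMap (R j) K)) := by rw [Spec.map_comp, Spec.map_preimage, ← e]
    have h3 := congr(($(Spec.map_injective h2)).hom x)
    rw [show (algebraMap (R j) K) x = _ from h3.symm]
    exact ((Spec.preimage m).hom x).2
  obtain ⟨s, hs, hsA⟩ := h𝓕 j A hRA
  choose π hπ' using fun a : s => hπ a.1
    (Finset.mem_biUnion.2 ⟨j, Finset.mem_univ _, Finset.mem_biUnion.2 ⟨s, hs, a.2⟩⟩)
  haveI : IsProper (CohB1.ProjSpace.toSpec 1 (ULift.{u} ℤ)) := Groth.Agent.H23.P1Charts.isProper_toSpec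
  haveI : Scheme.IsSeparated (ℙ¹ : Scheme.{u}) := by
    refine ⟨?_⟩
    rw [← terminal.comp_from (CohB1.ProjSpace.toSpec 1 (ULift.{u} ℤ))]
    infer_instance
  have hpa : ∀ a : s, l ≫ i ≫ π a = pt 0 (⟨a.1, hsA a.2⟩ : A) := fun a => by
    haveI : IsDominant vs := by
      refine ⟨dense_iff_closure_eq.2 (Set.eq_univ_of_forall fun z => ?_)⟩
      have hz : (⊥ : PrimeSpectrum A) ∈ Set.range vs :=
        ⟨closedPoint K, PrimeSpectrum.ext (by
          show (maximalIdeal K).comap A.subtype = ⊥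
          rw [maximalIdeal_eq_bot]
          exact (RingHom.injective_iff_ker_eq_bot A.subtype).mp Subtype.val_injective)⟩
      exact closure_mono (Set.singleton_subset_iff.2 hz) (specializes_iff_mem_closure.1
        ((PrimeSpectrum.le_iff_specializes (⊥ : PrimeSpectrum A) z).1 bot_le))
    refine ext_of_isDominant vs ?_
    rw [reassoc_of% hl, spec_comp_pt]
    exact (ηQ.toImage_imageι_assoc _).trans (hπ' a)
  let O : ηQ.image.Opens := ⟨(⋂ a : s, ((i ≫ π a) ⁻¹ᵁ chart0 : Set ηQ.image)) ∩ f ⁻¹' Set.range (k j),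
    (isOpen_iInter_of_finite fun a => ((i ≫ π a) ⁻¹ᵁ chart0).2).inter
      ((k j).isOpenEmbedding.isOpen_range.preimage f.continuous)⟩
  have hpO : p ∈ O := ⟨Set.mem_iInter.2 fun a => ?_, hj⟩
  swap
  · show (i ≫ π a) p ∈ chart0
    rw [← hlp, ← Scheme.Hom.comp_apply, hpa a]
    exact pt_mem_chart0 _ _
  -- coordinates
  haveI : QuasiCompact ηQ := inferInstance
  have hqO : ∀ z, η z ∈ O := fun z => by
    rw [show z = closedPoint K from Subsingleton.elim _ _]
    exact (hgen p).mem_open O.2 hpO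
  let ηO : Spec (CommRingCat.of K) ⟶ (O : Scheme.{u}) := IsOpenImmersion.lift O.ι η (by
    rintro _ ⟨z, rfl⟩
    rw [Scheme.Opens.range_ι]
    exact hqO z)
  have hηO : ηO ≫ O.ι = η := IsOpenImmersion.lift_fac _ _ _
  let φ : Γ(O, ⊤) ⟶ CommRingCat.of K := ηO.appTop ≫ (Scheme.ΓSpecIso (CommRingCat.of K)).hom
  have hφη : Spec.map φ = ηO ≫ (O : Scheme.{u}).toSpecΓ := by
    rw [Scheme.toSpecΓ_naturality, ← SpecMap_ΓSpecIso_hom, ← Spec.map_comp]
  have hinj : Function.Injective φ.hom := by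
    refine ((Scheme.ΓSpecIso (CommRingCat.of K)).commRingCatIsoToRingEquiv.injective).comp (f := ηO.appTop.hom) ?_
    rw [injective_iff_map_eq_zero]
    intro x hx
    obtain ⟨x₀, rfl⟩ := (O.topIso.symm.commRingCatIsoToRingEquiv.surjective) x
    change ηO.appTop (O.topIso.inv x₀) = 0 at hx
    have hpre : η ⁻¹ᵁ O = ⊤ := TopologicalSpace.Opens.ext (Set.eq_univ_of_forall hqO)
    have e : η.appLE O ⊤ hpre.ge = O.topIso.inv ≫ ηO.appTop := by
      rw [show O.topIso.inv = O.ι.appLE O ⊤ O.ι_preimage_self.ge by simp [Scheme.Opens.ι_appLE]; congr 1,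
        Scheme.Hom.appTop, Scheme.Hom.app_eq_appLE, Scheme.Hom.appLE_comp_appLE]
      simp only [hηO]
      rfl
    have h0 : η.app O x₀ = 0 := by
      have h1 : η.appLE O ⊤ hpre.ge x₀ = 0 := by rw [e]; exact hx
      haveI : IsIso ((Spec (CommRingCat.of K)).presheaf.map (homOfLE hpre.ge).op) := by
        rw [Subsingleton.elim (homOfLE hpre.ge).op (eqToHom (congrArg Opposite.op hpre))]; infer_instance
      apply (ConcreteCategory.bijective_of_isIso ((Spec (CommRingCat.of K)).presheaf.map (homOfLE hpre.ge).op)).1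
      rw [map_zero]
      exact h1
    rw [show x₀ = 0 from happ O (h0.trans (map_zero _).symm), map_zero]
  let fO : (O : Scheme.{u}) ⟶ Spec (R j) := IsOpenImmersion.lift (k j) (O.ι ≫ f) (by
    rintro _ ⟨z, rfl⟩
    exact z.2.2)
  let ψ : R j ⟶ Γ(O, ⊤) := (Scheme.ΓSpecIso (R j)).inv ≫ fO.appTop
  have hto : ∀ {B : CommRingCat.{u}} (m : (O : Scheme.{u}) ⟶ Spec B),
      m = (O : Scheme.{u}).toSpecΓ ≫ Spec.map ((Scheme.ΓSpecIso B).inv ≫ m.appTop) := fun {B} m => by
    rw [Spec.map_comp, ← Category.assoc, ← Scheme.toSpecΓ_naturality, Category.assoc, toSpecΓ_SpecMap_ΓSpecIso_inv, Category.comp_id]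
  have hψ : ∀ x, φ.hom (ψ.hom x) = algebraMap (R j) K x := fun x => by
    have : Spec.map (ψ ≫ φ) = Spec.map (CommRingCat.ofHom (algebraMap (R j) K)) := by
      rw [Spec.map_comp, hφη, Category.assoc, ← hto fO, ← cancel_mono (k j), Category.assoc, IsOpenImmersion.lift_fac,
        reassoc_of% hηO, hη, hξ]
    exact congr(($(Spec.map_injective this)).hom x)
  let jc := Proj.awayι P1.grading.{u} (P1.T 0) (P1.X_mem 0) one_pos
  let m₁ := HomogeneousLocalization.Away.mk P1.grading.{u} (P1.X_mem 0) 1 (P1.T (1 - 0)) (by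
      rw [smul_eq_mul, mul_one]; exact P1.X_mem _)
  have hgen' : ∀ a : s, (a : K) ∈ Set.range φ.hom := fun a => by
    have hr : Set.range (O.ι ≫ i ≫ π a) ⊆ Set.range jc := by
      rintro _ ⟨z, rfl⟩
      exact Set.mem_iInter.1 z.2.1 a
    let h := IsOpenImmersion.lift jc (O.ι ≫ i ≫ π a) hr
    let χ := (Scheme.ΓSpecIso _).inv ≫ h.appTop
    have e : Spec.map (χ ≫ φ) = Spec.map (CommRingCat.ofHom (P1.chartMap 0 K (a : K))) := by
      rw [Spec.map_comp, hφη, Category.assoc, ← hto h, ← cancel_mono jc, Category.assoc, IsOpenImmersion.lift_fac,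
        reassoc_of% hηO]
      exact (ηQ.toImage_imageι_assoc _).trans (hπ' a)
    refine ⟨χ.hom m₁, (congr(($(Spec.map_injective e)).hom m₁)).trans ?_⟩
    show P1.chartMap 0 K (a : K) m₁ = _
    rw [chartMap_mk]
    simp [evPair]
  let A' : Subalgebra (R j) K :=
    { φ.hom.range with algebraMap_mem' := fun x => ⟨ψ.hom x, hψ x⟩ }
  have hle : Algebra.adjoin (R j : Type u) (s : Set K) ≤ A' := Algebra.adjoin_le fun a ha => hgen' ⟨a, ha⟩
  let e := RingEquiv.ofBijective φ.hom.rangeRestrict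
    ⟨fun a b hab => hinj (congrArg Subtype.val hab), φ.hom.rangeRestrict_surjective⟩
  let c : CommRingCat.of (Algebra.adjoin (R j : Type u) (s : Set K)) ⟶ Γ(O, ⊤) :=
    CommRingCat.ofHom (e.symm.toRingHom.comp (Subalgebra.inclusion hle).toRingHom)
  refine ⟨j, s, O, hs, hpO, (O : Scheme.{u}).toSpecΓ ≫ Spec.map c, ?_, fun η' hη' => ?_⟩
  swap
  · rw [(cancel_mono O.ι).1 (hη'.trans hηO.symm), ← reassoc_of% hφη, ← Spec.map_comp]
    congr 1
    ext x
    exact congrArg Subtype.val (e.apply_symm_apply _)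
  have hfac : fO ≫ k j = O.ι ≫ f := IsOpenImmersion.lift_fac _ _ _
  rw [← hfac, Category.assoc, ← Spec.map_comp_assoc, hto fO, Category.assoc]
  congr 3
  ext x
  apply hinj
  refine Eq.trans ?_ (hψ x).symm
  exact congrArg Subtype.val (e.apply_symm_apply _)


/-- A proper model over any base in which every point is seen by one of the given finite sets. -/
theorem exists_val_model' {K : Type u} [Field K] {S : Scheme.{u}} (ξ : Spec (CommRingCat.of K) ⟶ S)
    {κ : Type u} [Finite κ] (R : κ → CommRingCat.{u}) (k : ∀ j, Spec (R j) ⟶ S) [∀ j, IsOpenImmersion (k j)]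
    [∀ j, Algebra (R j) K] (hξ : ∀ j, Spec.map (CommRingCat.ofHom (algebraMap (R j) K)) ≫ k j = ξ)
    (hcov : ∀ y, ξ (closedPoint K) ⤳ y → ∃ j, y ∈ Set.range (k j)) (𝓕 : κ → Finset (Finset K))
    (h𝓕 : ∀ j, ∀ V : ValuationSubring K, Set.range (algebraMap (R j) K) ⊆ V → ∃ s ∈ 𝓕 j, (s : Set K) ⊆ V) :
    ∃ (P : Scheme.{u}) (f : P ⟶ S), (IsProper f ∧ ∃ (Q : Scheme.{u}) (fQ : Q ⟶ S) (i : P ⟶ Q),
        IsProper fQ ∧ LocallyOfFinitePresentation fQ ∧ IsClosedImmersion i ∧ i ≫ fQ = f) ∧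
      (∃ x : P, f x = ξ (closedPoint K)) ∧
      ∀ p : P, ∃ (j : κ) (s : Finset K) (O : P.Opens), s ∈ 𝓕 j ∧ p ∈ O ∧
        ∃ m : (O : Scheme.{u}) ⟶ Spec (CommRingCat.of (Algebra.adjoin (R j : Type u) (s : Set K))),
          m ≫ Spec.map (CommRingCat.ofHom (algebraMap (R j) (Algebra.adjoin (R j : Type u) (s : Set K)))) ≫ k j =
            O.ι ≫ f := by
  obtain ⟨P, f, h1, η, hη, -, -, h⟩ := exists_val_model'' ξ R k hξ hcov 𝓕 h𝓕
  refine ⟨P, f, h1, ⟨η (closedPoint K), by rw [← Scheme.Hom.comp_apply, hη]⟩, fun p => ?_⟩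
  obtain ⟨j, s, O, hs, hp, m, hm, -⟩ := h p
  exact ⟨j, s, O, hs, hp, m, hm⟩

/-- A proper model in which every point is seen by one of the given finite sets. -/
theorem exists_val_model (R : CommRingCat.{u}) (K : Type u) [Field K] [Algebra R K] (𝓕 : Finset (Finset K))
    (h𝓕 : ∀ V : ValuationSubring K, Set.range (algebraMap R K) ⊆ V → ∃ s ∈ 𝓕, (s : Set K) ⊆ V) :
    ∃ (P : Scheme.{u}) (f : P ⟶ Spec R), (IsProper f ∧ ∃ (Q : Scheme.{u}) (fQ : Q ⟶ Spec R) (i : P ⟶ Q),
        IsProper fQ ∧ LocallyOfFinitePresentation fQ ∧ IsClosedImmersion i ∧ i ≫ fQ = f) ∧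
      (∃ x : P, f x = (Spec.map (CommRingCat.ofHom (algebraMap R K))) (closedPoint K)) ∧
      ∀ p : P, ∃ (s : Finset K) (O : P.Opens), s ∈ 𝓕 ∧ p ∈ O ∧
        ∃ k : (O : Scheme.{u}) ⟶ Spec (CommRingCat.of (Algebra.adjoin (R : Type u) (s : Set K))),
          k ≫ Spec.map (CommRingCat.ofHom (algebraMap R (Algebra.adjoin (R : Type u) (s : Set K)))) = O.ι ≫ f := by
  obtain ⟨P, f, h1, h2, h3⟩ := exists_val_model' (κ := PUnit.{u+1}) (Spec.map (CommRingCat.ofHom (algebraMap R K)))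
    (fun _ => R) (fun _ => 𝟙 (Spec R)) (fun _ => Category.comp_id _) (fun y _ => ⟨PUnit.unit, y, rfl⟩)
    (fun _ => 𝓕) fun _ => h𝓕
  refine ⟨P, f, h1, h2, fun p => ?_⟩
  obtain ⟨-, s, O, hs, hp, m, hm⟩ := h3 p
  exact ⟨s, O, hs, hp, m, (congrArg (m ≫ ·) (Category.comp_id _).symm).trans hm⟩

end Groth.Agent.EtRep9
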