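import Groth.Agent.EtRep9.Refine
import Groth.Agent.EtRep9.Cover
import Groth.Agent.EtRep9.FiniteLocal
import Groth.Agent.HTopCov.Points
import Groth.Prelude.Def_W4c2submetdescSubtr
import Groth.Agent.AlgSpVal.EtaleModel

/-! Subtrusive morphisms are of effective descent for etale schemes over valuation rings. -/

set_option autoImplicit false
set_option backward.isDefEq.respectTransparency false
set_option backward.isDefEq.respectTransparency.types false
set_option linter.style.haveILetI false
universe u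

open CategoryTheory CategoryTheory.Limits AlgebraicGeometry Desc IsLocalRing

noncomputable section

namespace Groth.Agent.EtRep9

open Groth.Agent.DescLib

/-- A datum relative to the identity is represented by its scheme. -/
theorem isRep_id {S : Scheme.{u}} (D : SchDDFam (fun _ : PUnit.{1} => 𝟙 S)) : IsRep D (D.obj PUnit.unit) := by
  let E := D.obj PUnit.unit
  have hy : E.hom ≫ 𝟙 S = 𝟙 E.left ≫ E.hom := by simp
  let c₀ : Compat D E.hom := Compat.ofPoint D (i := PUnit.unit) (⟨𝟙 _, Category.id_comp _⟩ : Lifts E E.hom) E.hom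
    (Category.comp_id _)
  refine ⟨c₀, fun T s c => ?_⟩
  let v := c.pt (𝟙 T) (i := PUnit.unit) s (by simp)
  refine ⟨⟨v.1, v.2⟩, ?_, fun q hq => Subtype.ext ?_⟩
  · refine compat_ext (g := 𝟙 S) s (Category.comp_id s |>.trans (Category.id_comp s).symm) ?_
    rw [Compat.res_pt]
    exact (c₀.nat v.1 (𝟙 E.left) E.hom hy (𝟙 T ≫ v.1) s ((Category.comp_id v.1).trans (Category.id_comp v.1).symm) v.2 _).trans
      ((congrArg (v.1 ≫ ·) (Compat.ofPoint_pt_self (D := D) (i := PUnit.unit)
        (⟨𝟙 _, Category.id_comp _⟩ : Lifts E E.hom) (Category.comp_id _) hy)).trans (Category.comp_id _))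
  · have hq' : q.1 ≫ E.hom = s := q.2
    show q.1 = (c.pt (𝟙 T) (i := PUnit.unit) s (by simp)).1
    rw [← hq, Compat.res_pt]
    exact ((c₀.nat q.1 (𝟙 E.left) E.hom hy (𝟙 T ≫ q.1) s ((Category.comp_id q.1).trans (Category.id_comp q.1).symm) hq' _).trans
      ((congrArg (q.1 ≫ ·) (Compat.ofPoint_pt_self (D := D) (i := PUnit.unit)
        (⟨𝟙 _, Category.id_comp _⟩ : Lifts E E.hom) (Category.comp_id _) hy)).trans (Category.comp_id q.1))).symm

theorem univSubmersive_id (S : Scheme.{u}) : SGA1.UnivSubmersive (𝟙 S) :=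
  univSubmersive_of_closed_surjective (𝟙 S)

/-- A datum relative to a morphism with a section is represented. -/
theorem exists_isRep_of_section {S S' : Scheme.{u}} {g : S' ⟶ S} (D : SchDDFam (fun _ : PUnit.{1} => g))
    [Etale (D.obj PUnit.unit).hom] (σ : S ⟶ S') (hσ : σ ≫ g = 𝟙 S) :
    ∃ U : Over S, Etale U.hom ∧ IsRep D U :=
  ⟨(Dr σ hσ D).obj PUnit.unit, inferInstanceAs (Etale (pullback.snd (D.obj PUnit.unit).hom σ)),
    isRep_of_refine (univSubmersive_id S) (isRep_id _)⟩

/-- Subtrusive morphisms are of effective descent over valuation rings. -/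
theorem exists_isRepOn_valuationRing {S S' : Scheme.{u}} {g : S' ⟶ S} (hg : Subtr.UnivSSubtrusive g)
    (hg' : SGA1.UnivSubmersive g) [QuasiCompact g] [QuasiSeparated g]
    (D : SchDDFam (fun _ : PUnit.{1} => g)) [Etale (D.obj PUnit.unit).hom]
    [QuasiCompact (D.obj PUnit.unit).hom] [IsSeparated (D.obj PUnit.unit).hom]
    (V : CommRingCat.{u}) [IsDomain V] [ValuationRing V] (q : Spec V ⟶ S) :
    ∃ U : Over (Spec V), Etale U.hom ∧ QuasiCompact U.hom ∧ IsSeparated U.hom ∧ IsRepOn D q U := by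
  have hbc : (closedPoint V : Spec V) = closedPoint V := rfl
  obtain ⟨x, x', hxx, hx, hx'⟩ := hg _ _ _ (IsPullback.of_hasPullback g q).flip
    (show (⊥ : PrimeSpectrum V) ⤳ closedPoint V from specializes_closedPoint _)
  obtain ⟨W, _, _, φ, l, hφ, hl, -⟩ := Groth.Agent.HTopCov.exists_ext_of_points (pullback.snd g q) hxx hx' hx
  have hff : φ.hom.FaithfullyFlat := by
    letI : Algebra V W := φ.hom.toAlgebra
    haveI : Module.Flat V W := Groth.Agent.AlgSpVal.flat_of_injective hφ.1
    haveI : IsLocalHom (algebraMap V W) := hφ.2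
    exact RingHom.faithfullyFlat_algebraMap_iff.2 (Module.FaithfullyFlat.of_flat_of_isLocalHom)
  let j := Spec.map φ ≫ q
  let σ : Spec W ⟶ pullback g j := pullback.lift (l ≫ pullback.fst g q) (𝟙 _)
    (by rw [Category.assoc, pullback.condition, reassoc_of% hl, Category.id_comp])
  haveI : Etale ((Dj j D).obj PUnit.unit).hom :=
    inferInstanceAs (Etale (pullback.snd (D.obj PUnit.unit).hom (pullback.fst g j)))
  obtain ⟨U, hU, hr⟩ := exists_isRep_of_section (Dj j D) σ (pullback.lift_snd _ _ _)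
  haveI := hU
  obtain ⟨U', hU', hr'⟩ := exists_isRepOn_of_flat_cover hg' φ hff q (isRepOn_of_isRep hr)
  haveI := hU'
  obtain ⟨u, hu⟩ := exists_isMdl hr'
  exact ⟨U', hU', (qcqs_of_isMdl hg' hu).1, isSeparated_of_isMdl hg' hu, hr'⟩

end Groth.Agent.EtRep9
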