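import Groth.Agent.EtRep9.Tower
import Groth.Agent.EtRep9.Valuation
import Groth.Agent.EtRep9.SpreadQc
import Groth.Agent.EtRep9.ValModel
import Groth.Agent.EtRep9.ProperLocal
import Groth.Agent.ModPairLib.CoprodAdm
import Groth.Agent.S5123
import Groth.Agent.S14770

/-! Universally submersive morphisms of noetherian schemes are of effective descent for etale schemes. -/

set_option autoImplicit false
set_option backward.isDefEq.respectTransparency false
set_option backward.isDefEq.respectTransparency.types false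
set_option linter.style.haveILetI false
universe u

open CategoryTheory CategoryTheory.Limits AlgebraicGeometry Desc IsLocalRing

noncomputable section

namespace Groth.Agent.EtRep9

open Groth.Agent.DescLib

namespace ValApprox

variable (R : CommRingCat.{u}) (A : Type u) [CommRing A] [Algebra R A]

/-- The finitely generated subalgebras. -/
def rings : Finset A ⥤ CommRingCat.{u} where
  obj s := CommRingCat.of (Algebra.adjoin (R : Type u) (s : Set A))
  map {s t} h := CommRingCat.ofHom
    (Subalgebra.inclusion (Algebra.adjoin_mono (Finset.coe_subset.2 (leOfHom h)))).toRingHom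

/-- The cocone of the inclusions. -/
def cocone : Cocone (rings R A) where
  pt := CommRingCat.of A
  ι := { app := fun s => CommRingCat.ofHom (Algebra.adjoin (R : Type u) (s : Set A)).val.toRingHom }

/-- An algebra is the colimit of its finitely generated subalgebras. -/
def isColimit : IsColimit (cocone R A) := by
  classical
  haveI : ReflectsColimit (rings R A) (forget CommRingCat.{u}) := reflectsColimit_of_reflectsIsomorphisms _ _
  refine isColimitOfReflects (forget CommRingCat.{u}) ?_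
  refine Types.FilteredColimit.isColimitOf' _ _ (fun z => ?_) fun s x y h => ?_
  · exact ⟨{z}, ⟨z, Algebra.subset_adjoin (Finset.mem_singleton_self z)⟩, rfl⟩
  · exact ⟨s, 𝟙 s, congrArg _ (Subtype.ext h)⟩

/-- The system of affine schemes. -/
def diagram : (Finset A)ᵒᵖ ⥤ Scheme.{u} := (rings R A).op ⋙ Scheme.Spec

/-- The limiting cone. -/
def cone : Cone (diagram R A) := Scheme.Spec.mapCone (cocone R A).op

/-- `Spec A` is the limit of the system. -/
def isLimit : IsLimit (cone R A) := isLimitOfPreserves Scheme.Spec (isColimit R A).op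

end ValApprox

variable {R : CommRingCat.{u}} {S' : Scheme.{u}} {g : S' ⟶ Spec R} (D : SchDDFam (fun _ : PUnit.{1} => g))

/-- The datum is effective over the spectrum of the algebra generated by `s`. -/
def IsGood (K : Type u) [Field K] [Algebra R K] (s : Finset K) : Prop :=
  ∃ U : Over (Spec (CommRingCat.of (Algebra.adjoin (R : Type u) (s : Set K)))), Etale U.hom ∧
    IsRepOn D (Spec.map (CommRingCat.ofHom (algebraMap R (Algebra.adjoin (R : Type u) (s : Set K))))) U

/-- Each valuation ring sees finitely many elements over which the datum is effective. -/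
theorem exists_good_subset (hs : Subtr.UnivSSubtrusive g) (hg : SGA1.UnivSubmersive g) [QuasiCompact g]
    [QuasiSeparated g] [Etale (D.obj PUnit.unit).hom] [QuasiCompact (D.obj PUnit.unit).hom]
    [IsSeparated (D.obj PUnit.unit).hom] (K : Type u) [Field K] [Algebra R K] (V : ValuationSubring K)
    (hV : Set.range (algebraMap R K) ⊆ V) : ∃ s : Finset K, IsGood D K s ∧ (s : Set K) ⊆ V := by
  classical
  letI : Algebra R V := ((algebraMap R K).codRestrict V.toSubring fun x => hV ⟨x, rfl⟩).toAlgebra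
  obtain ⟨U, hU, hqc, hsep, hr⟩ := exists_isRepOn_valuationRing hs hg D (CommRingCat.of V)
    (Spec.map (CommRingCat.ofHom (algebraMap R V)))
  haveI := hU; haveI := hqc; haveI := hsep
  obtain ⟨u, hu⟩ := exists_isMdl hr
  let T := ValApprox.diagram R V
  haveI : ∀ i : (Finset V)ᵒᵖ, IsAffine (T.obj i) := fun i =>
    isAffine_Spec (CommRingCat.of (Algebra.adjoin (R : Type u) ((i.unop : Finset V) : Set V)))
  haveI : ∀ (i j : (Finset V)ᵒᵖ) (f : i ⟶ j), IsAffineHom (T.map f) := fun _ _ f => isAffineHom_of_isAffine _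
  obtain ⟨n, U', f', u', hf', hu'⟩ := exists_isMdl_stage_qc T (ValApprox.cone R V) (ValApprox.isLimit R V)
    (fun i => Spec.map (CommRingCat.ofHom (algebraMap R (Algebra.adjoin (R : Type u) ((i.unop : Finset V) : Set V)))))
    (fun {l i} φ => by
      show Spec.map _ ≫ Spec.map _ = _
      rw [← Spec.map_comp]; rfl)
    (jl := Spec.map (CommRingCat.ofHom (algebraMap R V)))
    (fun i => by
      show Spec.map _ ≫ Spec.map _ = _
      rw [← Spec.map_comp]; rfl)
    U.hom (u := u) hu
  haveI := hf'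
  have hr' := isRepOn_of_isMdl hg hu'
  let ι : V →ₐ[(R : Type u)] K := { V.subtype with commutes' := fun _ => rfl }
  let s : Finset K := (n.unop : Finset V).image ι
  let ρ : Algebra.adjoin (R : Type u) ((n.unop : Finset V) : Set V) →ₐ[(R : Type u)]
      Algebra.adjoin (R : Type u) (s : Set K) :=
    (ι.comp (Subalgebra.val _)).codRestrict _ fun x => by
      have h1 : ι (x : V) ∈ (Algebra.adjoin (R : Type u) ((n.unop : Finset V) : Set V)).map ι := ⟨_, x.2, rfl⟩
      rw [AlgHom.map_adjoin] at h1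
      simpa [s] using h1
  refine ⟨s, ⟨_, inferInstanceAs (Etale (pullback.snd f' (Spec.map (CommRingCat.ofHom ρ.toRingHom)))),
    isRepOn_bc (Spec.map (CommRingCat.ofHom ρ.toRingHom)) ?_ hr'⟩, ?_⟩
  · rw [← Spec.map_comp]
    rfl
  · rintro _ hx
    obtain ⟨v, -, rfl⟩ := Finset.mem_image.1 hx
    exact v.2

/-- Over each prime there is a proper scheme meeting it, locally on which the datum is effective. -/
theorem exists_local_model (hs : Subtr.UnivSSubtrusive g) (hg : SGA1.UnivSubmersive g) [QuasiCompact g]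
    [QuasiSeparated g] [Etale (D.obj PUnit.unit).hom] [QuasiCompact (D.obj PUnit.unit).hom]
    [IsSeparated (D.obj PUnit.unit).hom] (x : PrimeSpectrum R) :
    ∃ (P : Scheme.{u}) (f : P ⟶ Spec R), (IsProper f ∧ ∃ (Q : Scheme.{u}) (fQ : Q ⟶ Spec R) (i : P ⟶ Q),
        IsProper fQ ∧ LocallyOfFinitePresentation fQ ∧ IsClosedImmersion i ∧ i ≫ fQ = f) ∧ x ∈ Set.range f ∧
      ∀ z : P, ∃ O : P.Opens, z ∈ O ∧ ∃ U : Over (O : Scheme.{u}), Etale U.hom ∧ IsRepOn D (O.ι ≫ f) U := by
  let K := FractionRing (R ⧸ x.asIdeal)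
  letI : Algebra R K := ((algebraMap (R ⧸ x.asIdeal) K).comp (Ideal.Quotient.mk x.asIdeal)).toAlgebra
  obtain ⟨𝓕, h𝓕, hcov⟩ := exists_finite_cover R K {s | IsGood D K s} fun V hV => by
    obtain ⟨s, h1, h2⟩ := exists_good_subset D hs hg K V hV
    exact ⟨s, h1, h2⟩
  obtain ⟨P, f, ⟨hf, hQ⟩, ⟨z₀, hz₀⟩, hloc⟩ := exists_val_model R K 𝓕 hcov
  refine ⟨P, f, ⟨hf, hQ⟩, ⟨z₀, hz₀.trans (PrimeSpectrum.ext ?_)⟩, fun z => ?_⟩
  · show (maximalIdeal K).comap (algebraMap R K) = x.asIdeal
    rw [maximalIdeal_eq_bot, ← RingHom.ker_eq_comap_bot]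
    show RingHom.ker ((algebraMap (R ⧸ x.asIdeal) K).comp (Ideal.Quotient.mk x.asIdeal)) = _
    rw [RingHom.ker_comp_of_injective _ (IsFractionRing.injective _ _), Ideal.mk_ker]
  · obtain ⟨s, O, hs, hz, k, hk⟩ := hloc z
    obtain ⟨U, hU, hr⟩ := h𝓕 s hs
    haveI := hU
    exact ⟨O, hz, _, inferInstanceAs (Etale (pullback.snd U.hom k)), isRepOn_bc k hk hr⟩

omit D in
theorem isProper_sigmaDesc {σ : Type u} [Finite σ] {X : σ → Scheme.{u}} (f : ∀ i, X i ⟶ Spec R)
    [∀ i, IsProper (f i)] : IsProper (Limits.Sigma.desc f) := by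
  have e : Limits.Sigma.desc f = Limits.Sigma.map f ≫ sigmaSpec (fun _ : σ => R) ≫
      Spec.map (CommRingCat.ofHom (algebraMap R (σ → (R : Type u)))) := by
    refine Limits.Sigma.hom_ext _ _ fun i => ?_
    rw [Limits.Sigma.ι_desc, Limits.Sigma.ι_map_assoc, ι_sigmaSpec_assoc, ← Spec.map_comp]
    erw [Spec.map_id, Category.comp_id]
  haveI : IsFinite (Spec.map (CommRingCat.ofHom (algebraMap R (σ → (R : Type u))))) :=
    (IsFinite.SpecMap_iff _).2 (RingHom.finite_algebraMap.2 inferInstance)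
  haveI := ModPairLib.isProper_sigmaMap f
  rw [e]
  infer_instance

/-- Noetherian affine base. -/
theorem exists_isRep_affine [IsNoetherianRing R] (hs : Subtr.UnivSSubtrusive g) (hg : SGA1.UnivSubmersive g)
    [QuasiCompact g] [QuasiSeparated g] [Etale (D.obj PUnit.unit).hom] [QuasiCompact (D.obj PUnit.unit).hom]
    [IsSeparated (D.obj PUnit.unit).hom] : ∃ U : Over (Spec R), Etale U.hom ∧ IsRep D U := by
  let σ : Type u := ↥(minimalPrimes R)
  haveI : Finite σ := (minimalPrimes.finite_of_isNoetherianRing R).to_subtype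
  choose X φ hφ hmem hloc using fun i : σ => exists_local_model D hs hg ⟨i.1, i.2.1.1⟩
  haveI := fun i => (hφ i).1
  let P := ∐ X
  let f : P ⟶ Spec R := Limits.Sigma.desc φ
  haveI : IsProper f := isProper_sigmaDesc φ
  haveI : Surjective f := ⟨fun a => by
    obtain ⟨p, hp, hle⟩ := Ideal.exists_minimalPrimes_le (J := (a : PrimeSpectrum R).asIdeal) bot_le
    obtain ⟨w, hw⟩ := hmem ⟨p, hp⟩
    have h1 : (⟨p, hp.1.1⟩ : PrimeSpectrum R) ∈ Set.range f := ⟨Limits.Sigma.ι X ⟨p, hp⟩ w, by
      rw [← Scheme.Hom.comp_apply, Limits.Sigma.ι_desc]; exact hw⟩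
    exact ((PrimeSpectrum.le_iff_specializes ⟨p, hp.1.1⟩ a).1 hle).mem_closed f.isClosedMap.isClosed_range h1⟩
  let gP := pullback.snd g f
  have hgP : SGA1.UnivSubmersive gP := univSubmersive_snd hg f
  let DP := Dj f D
  haveI : Etale (DP.obj PUnit.unit).hom :=
    inferInstanceAs (Etale (pullback.snd (D.obj PUnit.unit).hom (pullback.fst g f)))
  haveI : QuasiCompact (DP.obj PUnit.unit).hom :=
    inferInstanceAs (QuasiCompact (pullback.snd (D.obj PUnit.unit).hom (pullback.fst g f)))
  haveI : IsSeparated (DP.obj PUnit.unit).hom :=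
    inferInstanceAs (IsSeparated (pullback.snd (D.obj PUnit.unit).hom (pullback.fst g f)))
  have hnb : ∀ z : P, ∃ O : P.Opens, z ∈ O ∧ ∃ U : Over (O : Scheme.{u}), Etale U.hom ∧ IsRepOn D (O.ι ≫ f) U := by
    intro z
    obtain ⟨i, w, rfl⟩ := ModPairLib.sigma_surj X z
    obtain ⟨O, hw, U, hU, hr⟩ := hloc i w
    haveI := hU
    let j : (O : Scheme.{u}) ⟶ P := O.ι ≫ Limits.Sigma.ι X i
    let e := j.isoOpensRange
    refine ⟨j.opensRange, ⟨⟨w, hw⟩, Scheme.Hom.comp_apply _ _ _⟩, _,
      inferInstanceAs (Etale (pullback.snd U.hom e.inv)), isRepOn_bc e.inv ?_ hr⟩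
    rw [Iso.inv_comp_eq, Scheme.Hom.isoOpensRange_hom_ι_assoc, Category.assoc, Limits.Sigma.ι_desc]
  choose O hO hOr using hnb
  obtain ⟨W, hW, ⟨I⟩⟩ := (Groth.Agent.S5123.result gP hgP DP (ι := P) O
      (top_le_iff.1 fun z _ => TopologicalSpace.Opens.mem_iSup.2 ⟨z, hO z⟩)).2 fun z => by
    obtain ⟨U, hU, hr⟩ := hOr z
    exact ⟨U, hU, iso_of_isRep (isRep_of_isRepOn (isRepOn_Dj hr))⟩
  haveI := hW
  have hWr := isRep_of_iso I (isRep_canonical hgP W)
  obtain ⟨v, hv⟩ := exists_isMdl (isRepOn_id_of_isRep hWr)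
  haveI := quasiCompact_of_isMdl hgP hv
  haveI := isSeparated_of_isMdl hgP hv
  obtain ⟨U, hU, -, -, hr⟩ := Tower.exists_isRep_of_cover (D := D) (p := f) (univSubmersive_of_closed_surjective f)
    (fun DD h1 h2 h3 => by haveI := h1; haveI := h2; haveI := h3; exact effective_proper_noeth f DD) hWr
  exact ⟨U, hU, hr⟩

omit D g R S' in
/-- Locally noetherian base. -/
theorem effective_submersive_noeth {S S' : Scheme.{u}} [IsLocallyNoetherian S] (g : S' ⟶ S)
    (hg : SGA1.UnivSubmersive g) [QuasiCompact g] [QuasiSeparated g]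
    (D : SchDD g) [QuasiCompact D.obj.hom] [IsSeparated D.obj.hom] [Etale D.obj.hom] :
    ∃ U : Over S, QuasiCompact U.hom ∧ IsSeparated U.hom ∧ Etale U.hom ∧ Nonempty ((toDD g).obj U ≅ D) := by
  let D' := (SchDDFam.ofSchDD.{0} g).obj D
  haveI : Etale (D'.obj PUnit.unit).hom := inferInstanceAs (Etale D.obj.hom)
  haveI : QuasiCompact (D'.obj PUnit.unit).hom := inferInstanceAs (QuasiCompact D.obj.hom)
  haveI : IsSeparated (D'.obj PUnit.unit).hom := inferInstanceAs (IsSeparated D.obj.hom)
  have hs : Subtr.UnivSSubtrusive g := (Groth.Agent.S14770.result g).1 hg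
  obtain ⟨U, hU, ⟨I⟩⟩ := (Groth.Agent.S5123.result g hg D' (fun V : S.affineOpens => (V : S.Opens))
      (iSup_affineOpens_eq_top S)).2 fun V => by
    haveI : IsNoetherianRing Γ(S, (V : S.Opens)) := IsLocallyNoetherian.component_noetherian V
    let q : Spec Γ(S, (V : S.Opens)) ⟶ S := V.2.isoSpec.inv ≫ (V : S.Opens).ι
    haveI : Etale ((Dj q D').obj PUnit.unit).hom :=
      inferInstanceAs (Etale (pullback.snd (D'.obj PUnit.unit).hom (pullback.fst g q)))
    haveI : QuasiCompact ((Dj q D').obj PUnit.unit).hom :=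
      inferInstanceAs (QuasiCompact (pullback.snd (D'.obj PUnit.unit).hom (pullback.fst g q)))
    haveI : IsSeparated ((Dj q D').obj PUnit.unit).hom :=
      inferInstanceAs (IsSeparated (pullback.snd (D'.obj PUnit.unit).hom (pullback.fst g q)))
    obtain ⟨U, hU, hr⟩ := exists_isRep_affine (Dj q D')
      (MorphismProperty.of_isPullback (P := MorphismProperty.universally _) (IsPullback.of_hasPullback g q) hs)
      (univSubmersive_snd hg q)
    haveI := hU
    exact ⟨_, inferInstanceAs (Etale (pullback.snd U.hom V.2.isoSpec.hom)),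
      iso_of_isRep (isRep_of_isRepOn (isRepOn_bc V.2.isoSpec.hom (Iso.hom_inv_id_assoc _ _)
        (isRepOn_of_isRep hr)))⟩
  haveI := hU
  obtain ⟨u, hu⟩ := exists_isMdl (isRepOn_id_of_isRep (isRep_of_iso I (isRep_canonical hg U)))
  exact ⟨U, quasiCompact_of_isMdl hg hu, isSeparated_of_isMdl hg hu, hU, ⟨(SchDDFam.toSchDD g).mapIso I⟩⟩

end Groth.Agent.EtRep9
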