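import Groth.Agent.EtRep9.SubtrusiveGeneral
import Mathlib.AlgebraicGeometry.Morphisms.UniversallyOpen

/-! Effective descent for quasi-compact universally subtrusive morphisms. -/

set_option autoImplicit false
set_option backward.isDefEq.respectTransparency false
set_option backward.isDefEq.respectTransparency.types false
set_option linter.style.haveILetI false
universe u

open CategoryTheory CategoryTheory.Limits AlgebraicGeometry Desc

noncomputable section

namespace Groth.Agent.EtRep9

open Groth.Agent.DescLib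

/-- Specialisation pairs lift through composites. -/
theorem univSSubtrusive_comp {X Y Z : Scheme.{u}} {f : X ⟶ Y} {g : Y ⟶ Z} (hf : Subtr.UnivSSubtrusive f)
    (hg : Subtr.UnivSSubtrusive g) : Subtr.UnivSSubtrusive (f ≫ g) := by
  intro X' Z' i₁ i₂ f' h
  let g' := pullback.snd g i₂
  let h' : X' ⟶ pullback g i₂ := pullback.lift (i₁ ≫ f) f' (by rw [Category.assoc]; exact h.w.symm)
  have sq := IsPullback.of_hasPullback g i₂
  have htop : IsPullback i₁ h' f (pullback.fst g i₂) :=
    IsPullback.of_bot (by rw [pullback.lift_snd]; exact h.flip) (pullback.lift_fst _ _ _).symm sq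
  intro z z' hz
  obtain ⟨y, y', hy, rfl, rfl⟩ := hg _ _ g' sq.flip hz
  obtain ⟨x, x', hx, rfl, rfl⟩ := hf _ _ h' htop.flip hy
  exact ⟨x, x', hx, by rw [← Scheme.Hom.comp_apply, pullback.lift_snd],
    by rw [← Scheme.Hom.comp_apply, pullback.lift_snd]⟩

/-- Specialisation pairs lift along surjective universally closed morphisms. -/
theorem univSSubtrusive_of_closed {X Y : Scheme.{u}} (f : X ⟶ Y) [UniversallyClosed f] [Surjective f] :
    Subtr.UnivSSubtrusive f := by
  intro X' Y' i₁ i₂ f' h y y' hy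
  haveI : UniversallyClosed f' := MorphismProperty.of_isPullback h.flip ‹_›
  haveI : Surjective f' := MorphismProperty.of_isPullback h.flip ‹_›
  obtain ⟨x', rfl⟩ := f'.surjective y'
  obtain ⟨x, hx, rfl⟩ := f'.isClosedMap.specializingMap hy
  exact ⟨x, x', hx, rfl, rfl⟩

/-- Specialisation pairs lift along surjective flat morphisms. -/
theorem univSSubtrusive_of_flat {X Y : Scheme.{u}} (f : X ⟶ Y) [Flat f] [Surjective f] :
    Subtr.UnivSSubtrusive f := by
  intro X' Y' i₁ i₂ f' h y y' hy
  haveI : Flat f' := MorphismProperty.of_isPullback h.flip ‹_›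
  haveI : Surjective f' := MorphismProperty.of_isPullback h.flip ‹_›
  obtain ⟨x, rfl⟩ := f'.surjective y
  obtain ⟨x', hx, rfl⟩ := Flat.generalizingMap f' hy
  exact ⟨x, x', hx, rfl, rfl⟩

variable {S S' : Scheme.{u}} {g : S' ⟶ S}

/-- Representability over an affine scheme mapping to the base. -/
theorem exists_isRepOn_affine (hs : Subtr.UnivSSubtrusive g) [QuasiCompact g]
    (D : SchDDFam (fun _ : PUnit.{1} => g)) [Etale (D.obj PUnit.unit).hom]
    [QuasiCompact (D.obj PUnit.unit).hom] [IsSeparated (D.obj PUnit.unit).hom]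
    (R : CommRingCat.{u}) (q : Spec R ⟶ S) : ∃ U : Over (Spec R), Etale U.hom ∧ IsRepOn D q U := by
  let W := pullback g q
  haveI : CompactSpace W := QuasiCompact.compactSpace_of_compactSpace (pullback.snd g q)
  let 𝒰 := W.affineCover.finiteSubcover
  let W₀ := ∐ 𝒰.X
  let h : W₀ ⟶ W := Limits.Sigma.desc 𝒰.f
  haveI : Surjective h := Surjective.sigmaDesc_of_union_range_eq_univ 𝒰.iUnion_range
  haveI : Flat h := IsZariskiLocalAtSource.sigmaDesc fun i => inferInstanceAs (Flat (𝒰.f i))
  haveI : ∀ i, IsAffine (𝒰.X i) := fun i => by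
    dsimp [𝒰]
    infer_instance
  let g₀ := h ≫ pullback.snd g q
  have hs₀ : Subtr.UnivSSubtrusive g₀ := univSSubtrusive_comp (univSSubtrusive_of_flat h)
    (MorphismProperty.of_isPullback (P := MorphismProperty.universally _) (IsPullback.of_hasPullback g q) hs)
  haveI : IsAffine W₀ := inferInstanceAs (IsAffine (∐ 𝒰.X))
  haveI : IsAffineHom g₀ := isAffineHom_of_isAffine _
  let DC := Dj q D
  haveI : Etale (DC.obj PUnit.unit).hom :=
    inferInstanceAs (Etale (pullback.snd (D.obj PUnit.unit).hom (pullback.fst g q)))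
  haveI : QuasiCompact (DC.obj PUnit.unit).hom :=
    inferInstanceAs (QuasiCompact (pullback.snd (D.obj PUnit.unit).hom (pullback.fst g q)))
  haveI : IsSeparated (DC.obj PUnit.unit).hom :=
    inferInstanceAs (IsSeparated (pullback.snd (D.obj PUnit.unit).hom (pullback.fst g q)))
  let D₀ := Dr h (rfl : h ≫ pullback.snd g q = g₀) DC
  haveI : Etale (D₀.obj PUnit.unit).hom := inferInstanceAs (Etale (pullback.snd (DC.obj PUnit.unit).hom h))
  haveI : QuasiCompact (D₀.obj PUnit.unit).hom :=
    inferInstanceAs (QuasiCompact (pullback.snd (DC.obj PUnit.unit).hom h))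
  haveI : IsSeparated (D₀.obj PUnit.unit).hom :=
    inferInstanceAs (IsSeparated (pullback.snd (DC.obj PUnit.unit).hom h))
  obtain ⟨U, hU, hr⟩ := exists_isRep_affine_general D₀ hs₀
  exact ⟨U, hU, isRepOn_of_isRep (isRep_of_refine (univSubmersive_of_univSSubtrusive g₀ hs₀) hr)⟩

/-- Any base. -/
theorem effective_qc_subtrusive (hs : Subtr.UnivSSubtrusive g) [QuasiCompact g]
    (D : SchDD g) [QuasiCompact D.obj.hom] [IsSeparated D.obj.hom] [Etale D.obj.hom] :
    ∃ U : Over S, QuasiCompact U.hom ∧ IsSeparated U.hom ∧ Etale U.hom ∧ Nonempty ((toDD g).obj U ≅ D) := by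
  have hg : SGA1.UnivSubmersive g := univSubmersive_of_univSSubtrusive g hs
  let D' := (SchDDFam.ofSchDD.{0} g).obj D
  haveI : Etale (D'.obj PUnit.unit).hom := inferInstanceAs (Etale D.obj.hom)
  haveI : QuasiCompact (D'.obj PUnit.unit).hom := inferInstanceAs (QuasiCompact D.obj.hom)
  haveI : IsSeparated (D'.obj PUnit.unit).hom := inferInstanceAs (IsSeparated D.obj.hom)
  obtain ⟨U, hU, ⟨I⟩⟩ := (Groth.Agent.S5123.result g hg D' (fun V : S.affineOpens => (V : S.Opens))
      (iSup_affineOpens_eq_top S)).2 fun V => by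
    obtain ⟨U, hU, hr⟩ := exists_isRepOn_affine hs D' Γ(S, (V : S.Opens)) (V.2.isoSpec.inv ≫ (V : S.Opens).ι)
    haveI := hU
    exact ⟨_, inferInstanceAs (Etale (pullback.snd U.hom V.2.isoSpec.hom)),
      iso_of_isRep (isRep_of_isRepOn (isRepOn_bc V.2.isoSpec.hom (Iso.hom_inv_id_assoc _ _) hr))⟩
  haveI := hU
  obtain ⟨u, hu⟩ := exists_isMdl (isRepOn_id_of_isRep (isRep_of_iso I (isRep_canonical hg U)))
  exact ⟨U, quasiCompact_of_isMdl hg hu, isSeparated_of_isMdl hg hu, hU, ⟨(SchDDFam.toSchDD g).mapIso I⟩⟩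

end Groth.Agent.EtRep9
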