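import Groth.Agent.EtRep9.SubmersiveNoeth
import Groth.Agent.EtRep9.FiniteApprox
import Groth.Agent.S7379
import Groth.Agent.IsoNatLib.TrivLocus

/-! Quasi-compact universally subtrusive morphisms are of effective descent for etale schemes. -/

set_option autoImplicit false
set_option backward.isDefEq.respectTransparency false
set_option backward.isDefEq.respectTransparency.types false
set_option linter.style.haveILetI false
universe u

open CategoryTheory CategoryTheory.Limits AlgebraicGeometry Desc IsLocalRing Topology Groth.Agent.MorLib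

noncomputable section

namespace Groth.Agent.EtRep9

open Groth.Agent.DescLib

section nbhd

variable {S S' : Scheme.{u}} {g : S' ⟶ S} {D : SchDDFam (fun _ : PUnit.{1} => g)}
  {I : Type u} [SmallCategory I] [IsCofiltered I] (T : I ⥤ Scheme.{u}) (c : Cone T) (hc : IsLimit c)
  [∀ (i j : I) (f : i ⟶ j), IsAffineHom (T.map f)] (J : ∀ i, T.obj i ⟶ S)
  (hJ : ∀ {l i : I} (φ : l ⟶ i), T.map φ ≫ J i = J l) {jl : c.pt ⟶ S} (hjl : ∀ i, c.π.app i ≫ J i = jl)

include hc hJ hjl in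
/-- Representability near a point of the limit comes from a neighbourhood at a stage. -/
theorem exists_isRepOn_stage_nbhd (hg : SGA1.UnivSubmersive g) [QuasiCompact g] [QuasiSeparated g]
    [Etale (D.obj PUnit.unit).hom] [QuasiCompact (D.obj PUnit.unit).hom] [IsSeparated (D.obj PUnit.unit).hom]
    (z : c.pt) (h : ∃ O : c.pt.Opens, z ∈ O ∧ ∃ U : Over (O : Scheme.{u}), Etale U.hom ∧ IsRepOn D (O.ι ≫ jl) U) :
    ∃ (i : I) (V : (T.obj i).Opens), c.π.app i z ∈ V ∧
      ∃ U : Over (V : Scheme.{u}), Etale U.hom ∧ IsRepOn D (V.ι ≫ J i) U := by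
  haveI : ∀ {i j : I} (f : i ⟶ j), IsAffineHom (T.map f) := fun {i j} f => inferInstance
  obtain ⟨O, hzO, U, hU, hr⟩ := h
  haveI := hU
  obtain ⟨_, ⟨_, ⟨i, V, hV, rfl⟩, rfl⟩, hzV, hVO⟩ :=
    (isBasis_preimage_isAffineOpen T c hc).exists_subset_of_mem_open hzO O.2
  haveI : IsAffine (V : Scheme.{u}) := hV
  let j₀ : (c.π.app i ⁻¹ᵁ V : Scheme.{u}) ⟶ (O : Scheme.{u}) := c.pt.homOfLE (SetLike.coe_subset_coe.1 hVO)
  let X := (c.π.app i ⁻¹ᵁ V : Scheme.{u})
  have hX : IsPullback (c.π.app i ∣_ V) (c.π.app i ⁻¹ᵁ V).ι V.ι (c.π.app i) :=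
    (isPullback_morphismRestrict (c.π.app i) V)
  let T' := BC.diag T V.ι
  let c' := BC.cone T V.ι hX
  haveI : ∀ (a b : Over i) (f : a ⟶ b), IsAffineHom (T'.map f) := fun _ _ f => BC.isAffineHom_map T V.ι f
  haveI : ∀ a, CompactSpace (T'.obj a) := fun a => BC.compactSpace_obj T V.ι a
  haveI : ∀ a, QuasiSeparatedSpace (T'.obj a) := fun a => BC.quasiSeparatedSpace_obj T V.ι a
  have hr₁ : IsRepOn D ((c.π.app i ⁻¹ᵁ V).ι ≫ jl) (Over.mk (pullback.snd U.hom j₀)) :=
    isRepOn_bc j₀ (by rw [Scheme.homOfLE_ι_assoc]) hr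
  obtain ⟨u, hu⟩ := exists_isMdl hr₁
  haveI : QuasiCompact (pullback.snd U.hom j₀) := quasiCompact_of_isMdl hg hu
  haveI : IsSeparated (pullback.snd U.hom j₀) := isSeparated_of_isMdl hg hu
  obtain ⟨a, U', f', u', hf', hu'⟩ := exists_isMdl_stage_qc T' c' (BC.isLimitCone T V.ι hX hc)
    (fun a => pullback.snd V.ι (T.map a.hom) ≫ J a.left)
    (fun {l a} φ => by rw [reassoc_of% (BC.map_snd T V.ι φ), hJ])
    (jl := (c.π.app i ⁻¹ᵁ V).ι ≫ jl)
    (fun a => by rw [show c'.π.app a = BC.proj T V.ι hX a from rfl, BC.proj_snd_assoc, hjl])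
    (pullback.snd U.hom j₀) (u := u) hu
  haveI := hf'
  have hr' := isRepOn_of_isMdl hg hu'
  let w : pullback V.ι (T.map a.hom) ⟶ T.obj a.left := pullback.snd _ _
  refine ⟨a.left, w.opensRange, ⟨BC.proj T V.ι hX a ⟨z, hzV⟩, ?_⟩,
    _, inferInstanceAs (Etale (pullback.snd f' w.isoOpensRange.inv)),
    isRepOn_bc w.isoOpensRange.inv (by rw [Iso.inv_comp_eq, Scheme.Hom.isoOpensRange_hom_ι_assoc]) hr'⟩
  show w _ = _
  rw [← Scheme.Hom.comp_apply, BC.proj_snd]
  rfl

end nbhd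

variable {R : CommRingCat.{u}} {S' : Scheme.{u}} {g : S' ⟶ Spec R} (D : SchDDFam (fun _ : PUnit.{1} => g))

/-- Through each prime passes a proper finitely presented scheme on which the datum is locally effective. -/
theorem exists_fp_model (hs : Subtr.UnivSSubtrusive g) (hg : SGA1.UnivSubmersive g) [QuasiCompact g]
    [QuasiSeparated g] [Etale (D.obj PUnit.unit).hom] [QuasiCompact (D.obj PUnit.unit).hom]
    [IsSeparated (D.obj PUnit.unit).hom] (x : PrimeSpectrum R) :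
    ∃ (P : Scheme.{u}) (f : P ⟶ Spec R), (IsProper f ∧ LocallyOfFinitePresentation f) ∧ x ∈ Set.range f ∧
      ∀ z : P, ∃ O : P.Opens, z ∈ O ∧ ∃ U : Over (O : Scheme.{u}), Etale U.hom ∧ IsRepOn D (O.ι ≫ f) U := by
  classical
  obtain ⟨P, f, ⟨hf, Q, fQ, i, hfQ, hfQ', hi, hif⟩, ⟨z₀, hz₀⟩, hloc⟩ := exists_local_model D hs hg x
  haveI := hf; haveI := hfQ; haveI := hfQ'; haveI := hi
  haveI : CompactSpace Q := QuasiCompact.compactSpace_of_compactSpace fQ
  haveI : QuasiSeparatedSpace Q := quasiSeparatedSpace_of_quasiSeparated fQ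
  obtain ⟨I, _, _, _, F, c, hc, hobj, ⟨e⟩⟩ := Groth.Agent.S7379.result i
  haveI : IsConnected Iᵒᵖ := IsCofiltered.isConnected _
  let T := F ⋙ Over.forget Q
  let cT : Cone T := (Over.forget Q).mapCone c
  have hcT : IsLimit cT := isLimitOfPreserves (Over.forget Q) hc
  haveI : ∀ k, IsClosedImmersion (F.obj k).hom := fun k => (hobj k).1
  haveI : ∀ (k l : Iᵒᵖ) (φ : k ⟶ l), IsAffineHom (T.map φ) := fun k l φ => by
    haveI : IsClosedImmersion ((F.map φ).left ≫ (F.obj l).hom) := by rw [Over.w]; infer_instance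
    haveI := IsClosedImmersion.of_comp (F.map φ).left (F.obj l).hom
    exact inferInstanceAs (IsAffineHom (F.map φ).left)
  haveI : ∀ {k l : Iᵒᵖ} (φ : k ⟶ l), IsAffineHom (T.map φ) := fun {k l} φ => inferInstance
  haveI : ∀ k, CompactSpace (T.obj k) := fun k => QuasiCompact.compactSpace_of_compactSpace (F.obj k).hom
  let J : ∀ k, T.obj k ⟶ Spec R := fun k => (F.obj k).hom ≫ fQ
  have hJ : ∀ {l k : Iᵒᵖ} (φ : l ⟶ k), T.map φ ≫ J k = J l := fun {l k} φ => Over.w_assoc (F.map φ) fQ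
  have hjl : ∀ k, cT.π.app k ≫ J k = c.pt.hom ≫ fQ := fun k => Over.w_assoc (c.π.app k) fQ
  have he : e.inv.left ≫ c.pt.hom ≫ fQ = f := by rw [Over.w_assoc e.inv]; exact hif
  have he' : e.hom.left ≫ f = c.pt.hom ≫ fQ := by rw [← hif]; exact Over.w_assoc e.hom fQ
  have hnb : ∀ z : cT.pt, ∃ O : cT.pt.Opens, z ∈ O ∧
      ∃ U : Over (O : Scheme.{u}), Etale U.hom ∧ IsRepOn D (O.ι ≫ c.pt.hom ≫ fQ) U := fun z => by
    obtain ⟨O, hO, U, hU, hr⟩ := hloc (e.hom.left z)
    haveI := hU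
    refine ⟨e.hom.left ⁻¹ᵁ O, hO, _, inferInstanceAs (Etale (pullback.snd U.hom (e.hom.left ∣_ O))),
      isRepOn_bc (e.hom.left ∣_ O) ?_ hr⟩
    rw [morphismRestrict_ι_assoc, he']
  choose k V hzV hVU using fun z : cT.pt => exists_isRepOn_stage_nbhd T cT hcT J hJ hjl hg z (hnb z)
  haveI : CompactSpace (cT.pt : Scheme.{u}) := by
    have h : CompactSpace P := QuasiCompact.compactSpace_of_compactSpace f
    exact @Homeomorph.compactSpace _ _ _ _ h e.inv.left.homeomorph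
  obtain ⟨t, ht⟩ := isCompact_univ.elim_finite_subcover (fun z : cT.pt => ((cT.π.app (k z) ⁻¹ᵁ V z : cT.pt.Opens) : Set cT.pt))
    (fun z => (cT.π.app (k z) ⁻¹ᵁ V z).2) fun z _ => Set.mem_iUnion.2 ⟨z, hzV z⟩
  haveI : Nonempty Iᵒᵖ := IsCofiltered.nonempty
  obtain ⟨m, hm⟩ := IsCofiltered.inf_objs_exists (t.image k)
  let φ : ∀ z ∈ t, m ⟶ k z := fun z hz => (hm (Finset.mem_image_of_mem k hz)).some
  let W : (T.obj m).Opens := ⨆ z : t, T.map (φ z.1 z.2) ⁻¹ᵁ V z.1
  have hW : cT.π.app m ⁻¹ᵁ W = ⊤ := top_le_iff.1 fun p _ => by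
    obtain ⟨z, hz, hp⟩ := Set.mem_iUnion₂.1 (ht (Set.mem_univ p))
    show cT.π.app m p ∈ W
    refine TopologicalSpace.Opens.mem_iSup.2 ⟨⟨z, hz⟩, ?_⟩
    show T.map (φ z hz) (cT.π.app m p) ∈ V z
    rw [← Scheme.Hom.comp_apply, cT.w]
    exact hp
  obtain ⟨n, ψ, hn⟩ := exists_map_eq_top T cT hcT W hW
  haveI : LocallyOfFinitePresentation (F.obj n).hom := (hobj n).2
  refine ⟨T.obj n, J n, ⟨inferInstanceAs (IsProper ((F.obj n).hom ≫ fQ)),
    inferInstanceAs (LocallyOfFinitePresentation ((F.obj n).hom ≫ fQ))⟩,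
    ⟨cT.π.app n (e.inv.left z₀), ?_⟩, fun p => ?_⟩
  · have h1 : J n (cT.π.app n (e.inv.left z₀)) = f z₀ := by
      rw [← he, ← hjl n]
      rfl
    exact h1.trans hz₀
  · obtain ⟨z, hz⟩ := TopologicalSpace.Opens.mem_iSup.1 (hn.ge (show p ∈ (⊤ : (T.obj n).Opens) from trivial) :
      T.map ψ p ∈ W)
    let χ := ψ ≫ φ z.1 z.2
    obtain ⟨U, hU, hr⟩ := hVU z.1
    haveI := hU
    refine ⟨T.map χ ⁻¹ᵁ V z.1, ?_, _, inferInstanceAs (Etale (pullback.snd U.hom (T.map χ ∣_ V z.1))),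
      isRepOn_bc (T.map χ ∣_ V z.1) ?_ hr⟩
    · show T.map χ p ∈ V z.1
      rw [T.map_comp, Scheme.Hom.comp_apply]
      exact hz
    · rw [morphismRestrict_ι_assoc, hJ]

/-- Affine base, quasi-separated covering. -/
theorem exists_isRep_affine_general (hs : Subtr.UnivSSubtrusive g) [QuasiCompact g] [QuasiSeparated g]
    [Etale (D.obj PUnit.unit).hom] [QuasiCompact (D.obj PUnit.unit).hom]
    [IsSeparated (D.obj PUnit.unit).hom] : ∃ U : Over (Spec R), Etale U.hom ∧ IsRep D U := by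
  classical
  have hg : SGA1.UnivSubmersive g := DescLib.univSubmersive_of_univSSubtrusive g hs
  choose X φ hφ hmem hloc using fun x : PrimeSpectrum R => exists_fp_model D hs hg x
  haveI := fun x => (hφ x).1
  haveI := fun x => (hφ x).2
  have hopen : ∀ x, IsOpen ((WithTopology.ofTopology (t := constructibleTopology (Spec R))) ⁻¹'
      (Set.range (φ x)) : Set (WithConstructibleTopology (Spec R))) := fun x => by
    rw [WithConstructibleTopology.isOpen_iff]
    have h1 : IsConstructible (Set.range (φ x)) := by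
      rw [← Set.image_univ]
      exact (φ x).isConstructible_image IsConstructible.univ
    have h2 := IsCompact.isOpen_constructibleTopology_of_isClosed
      (Groth.Agent.IsoNatLib.isCompact_of_isConstructible h1.compl) (φ x).isClosedMap.isClosed_range
    convert h2 using 1
    ext; simp
  obtain ⟨t, ht⟩ := isCompact_univ.elim_finite_subcover _ hopen
    fun a _ => Set.mem_iUnion.2 ⟨WithTopology.ofTopology a, hmem (WithTopology.ofTopology a)⟩
  let P := ∐ fun x : t => X x.1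
  let f : P ⟶ Spec R := Limits.Sigma.desc fun x : t => φ x.1
  haveI : IsProper f := isProper_sigmaDesc _
  haveI : LocallyOfFinitePresentation f :=
    IsZariskiLocalAtSource.sigmaDesc (P := @LocallyOfFinitePresentation) fun x => (hφ x.1).2
  haveI : Surjective f := ⟨fun a => by
    obtain ⟨x, hx, w, hw⟩ := Set.mem_iUnion₂.1 (ht (Set.mem_univ (WithTopology.toTopology _ a)))
    exact ⟨Limits.Sigma.ι (fun x : t => X x.1) ⟨x, hx⟩ w, by
      rw [← Scheme.Hom.comp_apply, Limits.Sigma.ι_desc]; exact hw⟩⟩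
  have hnb : ∀ z : P, ∃ O : P.Opens, z ∈ O ∧ ∃ U : Over (O : Scheme.{u}), Etale U.hom ∧ IsRepOn D (O.ι ≫ f) U := by
    intro z
    obtain ⟨i, w, rfl⟩ := ModPairLib.sigma_surj (fun x : t => X x.1) z
    obtain ⟨O, hw, U, hU, hr⟩ := hloc i.1 w
    haveI := hU
    let j : (O : Scheme.{u}) ⟶ P := O.ι ≫ Limits.Sigma.ι (fun x : t => X x.1) i
    refine ⟨j.opensRange, ⟨⟨w, hw⟩, Scheme.Hom.comp_apply _ _ _⟩, _,
      inferInstanceAs (Etale (pullback.snd U.hom j.isoOpensRange.inv)), isRepOn_bc j.isoOpensRange.inv ?_ hr⟩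
    rw [Iso.inv_comp_eq, Scheme.Hom.isoOpensRange_hom_ι_assoc, Category.assoc, Limits.Sigma.ι_desc]
  let gP := pullback.snd g f
  have hgP : SGA1.UnivSubmersive gP := univSubmersive_snd hg f
  let DP := Dj f D
  haveI : Etale (DP.obj PUnit.unit).hom :=
    inferInstanceAs (Etale (pullback.snd (D.obj PUnit.unit).hom (pullback.fst g f)))
  haveI : QuasiCompact (DP.obj PUnit.unit).hom :=
    inferInstanceAs (QuasiCompact (pullback.snd (D.obj PUnit.unit).hom (pullback.fst g f)))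
  haveI : IsSeparated (DP.obj PUnit.unit).hom :=
    inferInstanceAs (IsSeparated (pullback.snd (D.obj PUnit.unit).hom (pullback.fst g f)))
  choose O hO hOr using hnb
  obtain ⟨W, hW, ⟨I⟩⟩ := (Groth.Agent.S5123.result gP hgP DP (ι := P) O
      (top_le_iff.1 fun z _ => TopologicalSpace.Opens.mem_iSup.2 ⟨z, hO z⟩)).2 fun z => by
    obtain ⟨U, hU, hr⟩ := hOr z
    exact ⟨U, hU, iso_of_isRep (isRep_of_isRepOn (isRepOn_Dj hr))⟩
  haveI := hW
  have hWr := isRep_of_iso I (isRep_canonical hgP W)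
  obtain ⟨v, hv⟩ := exists_isMdl (isRepOn_id_of_isRep hWr)
  haveI := quasiCompact_of_isMdl hgP hv
  haveI := isSeparated_of_isMdl hgP hv
  obtain ⟨U, hU, -, -, hr⟩ := Tower.exists_isRep_of_cover (D := D) (p := f) (univSubmersive_of_closed_surjective f)
    (fun DD h1 h2 h3 => by haveI := h1; haveI := h2; haveI := h3; exact effective_proper_fp f DD) hWr
  exact ⟨U, hU, hr⟩

end Groth.Agent.EtRep9
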